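import Cfsg.Agent.ChevU.CentInv3

set_option autoImplicit false
set_option linter.unusedSectionVars false
set_option linter.unusedVariables false

/-!
# Boolean checks for centraliser data (helper17)
-/

namespace Cfsg.Agent.ChevU

open Cfsg.Lie Matrix Subgroup

variable {D : ChevalleyDatum}

/-- check of a support -/
def chkSupp (D : ChevalleyDatum) (S T : List ℕ) : Bool :=
  decide (S ++ T).Nodup && ((S ++ T).all fun s => decide (D.IsPosRoot s)) &&
  ((S ++ T).all fun r => (S ++ T).all fun s => r == s || inM D [] r s) &&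
  ((List.range D.nroots).all fun r => !(decide (D.IsPosRoot r)) || (S ++ T).all fun s => r == s || inM D T r s)

theorem supp_of_chk {S T : List ℕ} (h : chkSupp D S T = true) : Supp D S T := by
  unfold chkSupp at h
  simp only [Bool.and_eq_true, decide_eq_true_eq, List.all_eq_true, Bool.or_eq_true, beq_iff_eq, Bool.not_eq_true',
    decide_eq_false_iff_not, List.mem_range] at h
  obtain ⟨⟨⟨h1, h2⟩, h3⟩, h4⟩ := h
  exact ⟨h1, h2, h3, fun r hr s hs => (h4 r hr.1).resolve_left (fun h => h hr) s hs⟩

/-- roots outside the Levi subsystem -/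
def outB (D : ChevalleyDatum) (J : List ℕ) (r : ℕ) : Bool :=
  decide (D.IsPosRoot r) && (List.range D.rank).any fun i => !(J.contains i) && !((D.coroot.getD r #[]).getD i 0 == 0)

theorem outB_iff {J : List ℕ} {r : ℕ} : outB D J r = true ↔ Out D {j | j ∈ J} r := by
  unfold outB Out ChevalleyDatum.InRootSub
  simp only [Bool.and_eq_true, decide_eq_true_eq, List.any_eq_true, Bool.not_eq_true', List.mem_range, beq_eq_false_iff_ne,
    Set.mem_setOf_eq]
  constructor
  · rintro ⟨h1, i, hi, h2, h3⟩
    refine ⟨h1, fun h => h3 (h.2 i hi ?_)⟩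
    intro hc
    rw [← List.contains_iff_mem, h2] at hc
    simp at hc
  · rintro ⟨h1, h2⟩
    refine ⟨h1, ?_⟩
    by_contra hcon
    apply h2
    refine ⟨h1.1, fun i hi hiJ => ?_⟩
    by_contra h3
    exact hcon ⟨i, hi, by simpa using hiJ, h3⟩

/-- check of centraliser data -/
def chkC (D : ChevalleyDatum) (S T J A2 : List ℕ) (A1 : List (ℕ × ℕ × ℕ)) (wt : ℕ → ℤ) (K : ℕ → ℕ → ℤ) : Bool :=
  chkSupp D S T && (J.all fun j => decide (j < D.rank)) &&
  ((List.range D.rank).all fun k => if J.contains k then decide (0 ≤ Lam D S wt (D.simple k)) else decide (0 < Lam D S wt (D.simple k))) &&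
  ((List.range D.nroots).all fun r => !(decide (D.IsPosRoot r)) || (A1.map Prod.fst).contains r ||
    S.all fun s => r == s || (s != D.neg r && inM D [] r s)) &&
  (J.all fun j => S.all fun s => D.neg (D.simple j) == s || (s != D.neg (D.neg (D.simple j)) && inM D [] (D.neg (D.simple j)) s)) &&
  ((List.range D.rank).all fun i => J.contains i || (List.range D.rank).all fun j =>
    (S.map fun s => K i s * D.cartan j s).sum == if j = i then 1 else 0) &&
  (A1.all fun a => outB D J a.1) && decide (A1.map Prod.fst).Nodup && decide (A1.map fun a => a.2.2).Nodup &&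
  (A1.all fun a => S.contains a.2.1 && T.contains a.2.2 && a.1 != a.2.1 &&
    match (D.commTerms a.1 a.2.1).filter (fun c => c.2.1 % 2 != 0) with
    | [c] => c.1 == a.2.2 && c.2.2.1 == 1 && c.2.2.2 == 1
    | _ => false) &&
  (A1.all fun a => (S.all fun s => s == a.2.1 || a.1 == s || inM D [] a.1 s) && T.all fun s => a.1 == s || inM D [] a.1 s) &&
  (A2.all fun r => outB D J r && !(A1.map Prod.fst).contains r) &&
  ((List.range D.nroots).all fun r => !(outB D J r) || (A1.map Prod.fst).contains r || A2.contains r) &&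
  ((List.range D.nroots).all fun r => !(outB D J r) || A2.all fun a => r == a || inM D A2 r a) &&
  (A1.all fun a => A1.all fun a' => a.1 == a'.1 || inM D A2 a.1 a'.1)

theorem cdata_of_chk {S T J A2 : List ℕ} {A1 : List (ℕ × ℕ × ℕ)} {wt : ℕ → ℤ} {K : ℕ → ℕ → ℤ}
    (h : chkC D S T J A2 A1 wt K = true) : CData D S T J A2 A1 wt := by
  unfold chkC at h
  rw [Bool.and_eq_true, Bool.and_eq_true, Bool.and_eq_true, Bool.and_eq_true, Bool.and_eq_true, Bool.and_eq_true, Bool.and_eq_true,
    Bool.and_eq_true, Bool.and_eq_true, Bool.and_eq_true, Bool.and_eq_true, Bool.and_eq_true, Bool.and_eq_true, Bool.and_eq_true] at h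
  obtain ⟨⟨⟨⟨⟨⟨⟨⟨⟨⟨⟨⟨⟨⟨h1, h2⟩, h3⟩, h4⟩, h5⟩, h6⟩, h7⟩, h8⟩, h9⟩, h10⟩, h11⟩, h12⟩, h13⟩, h14⟩, h15⟩ := h
  rw [List.all_eq_true] at h2 h3 h4 h5 h6 h7 h10 h11 h12 h13 h14 h15
  have hlam : ∀ k < D.rank, (k ∈ J ∧ 0 ≤ Lam D S wt (D.simple k)) ∨ (k ∉ J ∧ 0 < Lam D S wt (D.simple k)) := by
    intro k hk
    have := h3 k (List.mem_range.2 hk)
    by_cases hJ : k ∈ J
    · rw [if_pos (List.contains_iff_mem.2 hJ)] at this
      exact Or.inl ⟨hJ, of_decide_eq_true this⟩
    · rw [if_neg (by rw [List.contains_iff_mem]; exact hJ)] at this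
      exact Or.inr ⟨hJ, of_decide_eq_true this⟩
  exact
  { supp := supp_of_chk h1
    Jlt := fun j hj => of_decide_eq_true (h2 j hj)
    lam0 := fun k hk => by rcases hlam k hk with h | h <;> [exact h.2; exact h.2.le]
    lamJ := fun k hk hkJ => by rcases hlam k hk with h | h <;> [exact absurd h.1 hkJ; exact h.2]
    cen := by
      rintro r (⟨hr, hrA⟩ | ⟨j, hj, rfl⟩) s hs
      · have := h4 r (List.mem_range.2 hr.1)
        simp only [Bool.or_eq_true, Bool.not_eq_true', decide_eq_false_iff_not, List.contains_iff_mem, List.all_eq_true, beq_iff_eq,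
          Bool.and_eq_true, bne_iff_ne, ne_eq] at this
        rcases this with (h | h) | h
        · exact absurd hr h
        · exact absurd h hrA
        · exact h s hs
      · have := h5 j hj
        simp only [Bool.or_eq_true, List.all_eq_true, beq_iff_eq, Bool.and_eq_true, bne_iff_ne, ne_eq] at this
        exact this s hs
    tor := by
      intro i hi hiJ
      have := h6 i (List.mem_range.2 hi)
      simp only [Bool.or_eq_true, List.contains_iff_mem, List.all_eq_true, beq_iff_eq, List.mem_range] at this
      exact ⟨K i, fun j hj => this.resolve_left hiJ j hj⟩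
    a1out := fun a ha => outB_iff.1 (h7 a ha)
    a1nd := of_decide_eq_true h8
    tnd := of_decide_eq_true h9
    a1s := by
      intro a ha
      have := h10 a ha
      rw [Bool.and_eq_true, Bool.and_eq_true, Bool.and_eq_true, List.contains_iff_mem, List.contains_iff_mem, bne_iff_ne] at this
      obtain ⟨⟨⟨b1, b2⟩, b3⟩, b4⟩ := this
      refine ⟨b1, b2, b3, ?_⟩
      revert b4
      cases hl : (D.commTerms a.1 a.2.1).filter (fun c => c.2.1 % 2 != 0) with
      | nil => intro h; simp at h
      | cons c L =>
        cases L with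
        | cons d L => intro h; simp at h
        | nil =>
          intro b4
          simp only [Bool.and_eq_true, beq_iff_eq] at b4
          have b5 : c ∈ (D.commTerms a.1 a.2.1).filter (fun c => c.2.1 % 2 != 0) := by rw [hl]; exact List.mem_cons_self
          rw [List.mem_filter, bne_iff_ne] at b5
          refine ⟨c.2.1, (Int.emod_two_eq_zero_or_one _).resolve_left b5.2, ?_⟩
          obtain ⟨c1, c2, c3, c4⟩ := c
          simp only at b4
          rw [b4.1.1, b4.1.2, b4.2]
    a1S := by
      intro a ha s hs hne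
      have := h11 a ha
      simp only [Bool.and_eq_true, List.all_eq_true, Bool.or_eq_true, beq_iff_eq] at this
      rcases this.1 s hs with (h | h) | h
      · exact absurd h hne
      · exact Or.inl h
      · exact Or.inr h
    a1T := by
      intro a ha s hs
      have := h11 a ha
      simp only [Bool.and_eq_true, List.all_eq_true, Bool.or_eq_true, beq_iff_eq] at this
      exact this.2 s hs
    a2 := by
      intro r
      constructor
      · intro hr
        have := h12 r hr
        rw [Bool.and_eq_true, Bool.not_eq_true'] at this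
        refine ⟨outB_iff.1 this.1, fun h => ?_⟩
        rw [List.contains_iff_mem.2 h] at this
        simp at this
      · rintro ⟨h, h'⟩
        have := h13 r (List.mem_range.2 h.1.1)
        rw [Bool.or_eq_true, Bool.or_eq_true, Bool.not_eq_true', List.contains_iff_mem, List.contains_iff_mem, outB_iff.2 h] at this
        rcases this with (h2 | h2) | h2
        · simp at h2
        · exact absurd h2 h'
        · exact h2
    a2norm := by
      intro r hr a ha
      have := h14 r (List.mem_range.2 hr.1.1)
      rw [Bool.or_eq_true, Bool.not_eq_true', outB_iff.2 hr, List.all_eq_true] at this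
      have h2 := this.resolve_left (by simp) a ha
      rw [Bool.or_eq_true, beq_iff_eq] at h2
      exact h2
    a1norm := by
      intro a ha a' ha'
      have := h15 a ha
      rw [List.all_eq_true] at this
      have h2 := this a' ha'
      rw [Bool.or_eq_true, beq_iff_eq] at h2
      exact h2 }

/-- a set of roots stable under the Weyl group -/
def chkStab (D : ChevalleyDatum) (L : List ℕ) : Bool :=
  L.all fun r => decide (r < D.nroots) && (List.range D.rank).all fun i => L.contains (D.reflectRoot i r)

theorem mem_of_stab (E : ChevGrp.DData D) {L : List ℕ} (h : chkStab D L = true) {u : Equiv.Perm (Fin D.nroots)} (hu : u ∈ E.rp.wsys.W)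
    {r : ℕ} (hr : r ∈ L) : nf u r ∈ L := by
  unfold chkStab at h
  simp only [List.all_eq_true, Bool.and_eq_true, decide_eq_true_eq, List.mem_range, List.contains_iff_mem] at h
  have hlt : r < D.nroots := (h r hr).1
  have key : ∀ a : Fin D.nroots, (a : ℕ) ∈ L → ((u a : Fin D.nroots) : ℕ) ∈ L := by
    refine E.rp.wsys.W_induction (Q := fun w => ∀ a : Fin D.nroots, (a : ℕ) ∈ L → ((w a : Fin D.nroots) : ℕ) ∈ L)
      (fun a ha => ha) ?_ hu
    intro i w _ ih a ha
    rw [Equiv.Perm.mul_apply, ← ChevGrp.Inst.reflect_eq E]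
    exact (h _ (ih a ha)).2 i i.2
  have := key ⟨r, hlt⟩ hr
  unfold nf
  rw [dif_pos hlt]
  exact this

end Cfsg.Agent.ChevU
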