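import Cfsg.Agent.ChevU.Syl
import Cfsg.Agent.Chev.FieldAut

set_option autoImplicit false
set_option linter.unusedSectionVars false
set_option linter.unusedVariables false

/-!
# The optimal weight filtration over an arbitrary field, and its symmetries (helper17)
-/

namespace Cfsg.Agent.ChevU

open Matrix Subgroup

section Opt

variable {ι : Type*} [Fintype ι] [DecidableEq ι] {K : Type*} [Field K]
variable {m : ℕ} (wt : (Fin m → ℝ) →ₗ[ℝ] (ι → ℝ)) {V : Subgroup (GL ι K)} (hV : V ≠ ⊥)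

theorem fg_congr {g h : GL ι K} (e : Sg V g = Sg V h) (l : Fin m → ℝ) : fg wt hV g l = fg wt hV h l := by
  unfold fg
  congr 1

/-- a maximum over all frames exists -/
theorem exists_max_frame (Γ : Subgroup (GL ι K)) (f : GL ι K → ℝ) (hf : ∀ g h : GL ι K, Sg V g = Sg V h → f g = f h) :
    ∃ g₀ ∈ Γ, ∀ g ∈ Γ, f g ≤ f g₀ := by
  classical
  let r : Finset (ι × ι) → Γ := fun S => if h : ∃ g : Γ, Sg V g.1 = S then h.choose else 1
  obtain ⟨S0, hS0⟩ := Finite.exists_max fun S : Finset (ι × ι) => f (r S).1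
  refine ⟨(r S0).1, (r S0).2, fun g hg => ?_⟩
  have h1 : ∃ g' : Γ, Sg V g'.1 = Sg V g := ⟨⟨g, hg⟩, rfl⟩
  have h2 : r (Sg V g) = h1.choose := dif_pos h1
  have h3 : f g = f (r (Sg V g)).1 := by
    apply hf
    rw [h2]; exact h1.choose_spec.symm
  rw [h3]; exact hS0 _

/-- **The optimal filtration**, arbitrary field, with all its symmetries. -/
theorem exists_optimal_sym (hinj : Function.Injective wt) (hV : V ≠ ⊥) {Γ : Subgroup (GL ι K)} (hVΓ : V ≤ Γ)
    (common : ∀ g ∈ Γ, ∀ h ∈ Γ, ∀ l l' : Fin m → ℝ, ∃ k ∈ Γ, ∃ l₁ l₁' : Fin m → ℝ,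
      FRel (wt l) (wt l₁) (g⁻¹ * k) ∧ FRel (wt l') (wt l₁') (h⁻¹ * k))
    (pos : ∃ g ∈ Γ, ∃ l : Fin m → ℝ, ∀ v ∈ V, g⁻¹ * v * g ∈ UW K (wt l)) :
    ∃ g ∈ Γ, ∃ l : Fin m → ℝ, l ≠ 0 ∧ (∀ v ∈ V, g⁻¹ * v * g ∈ UW K (wt l)) ∧
      (∀ y ∈ Γ, (∀ v, v ∈ V ↔ y * v * y⁻¹ ∈ V) → g⁻¹ * y * g ∈ PW K (wt l)) ∧
      ∀ h ∈ Γ, ∀ l' : Fin m → ℝ, Qf wt l' = Qf wt l → (∀ c, c ≤ fg wt hV g l → c ≤ fg wt hV h l') →
        FRel (wt l) (wt l') (g⁻¹ * h) := by
  -- a point with positive value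
  obtain ⟨g₁, hg₁, l₁, h₁⟩ := pos
  have hp₁ : 0 < fg wt hV g₁ l₁ := by
    unfold fg
    rw [Finset.lt_inf'_iff]
    rintro ⟨a, b⟩ hab
    obtain ⟨v, hv, hab⟩ := mem_Sg.mp hab
    have := (h₁ v hv).2 a b hab
    simp only
    linarith
  have hl₁ : l₁ ≠ 0 := by
    rintro rfl
    obtain ⟨⟨a, b⟩, hab⟩ := Sg_nonempty hV g₁
    have : fg wt hV g₁ 0 ≤ wt 0 a - wt 0 b := Finset.inf'_le (fun ab : ι × ι => wt 0 ab.1 - wt 0 ab.2) hab
    rw [map_zero, Pi.zero_apply, Pi.zero_apply, sub_zero] at this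
    linarith
  have hQ₁ : 0 < Qf wt l₁ := lt_of_le_of_ne (Qf_nonneg wt l₁) fun h => hl₁ (Qf_eq_zero wt hinj h.symm)
  -- normalisation
  have norm : ∀ (g : GL ι K) (l : Fin m → ℝ), 0 < Qf wt l → ∀ c, c ≤ fg wt hV g l →
      ∃ l' : Fin m → ℝ, Qf wt l' = 1 ∧ c / Real.sqrt (Qf wt l) ≤ fg wt hV g l' := by
    intro g l hl c hc
    have hs : 0 < Real.sqrt (Qf wt l) := Real.sqrt_pos.mpr hl
    refine ⟨(Real.sqrt (Qf wt l))⁻¹ • l, ?_, ?_⟩
    · rw [Qf_smul, inv_pow, Real.sq_sqrt hl.le, inv_mul_cancel₀ hl.ne']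
    · have := fg_smul wt hV (inv_pos.mpr hs) hc
      rwa [← div_eq_inv_mul] at this
  obtain ⟨l₂, hl₂, hf₂⟩ := norm g₁ l₁ hQ₁ _ le_rfl
  have hp₂ : 0 < fg wt hV g₁ l₂ := lt_of_lt_of_le (div_pos hp₁ (Real.sqrt_pos.mpr hQ₁)) hf₂
  -- maximum over the sphere in every frame
  have hmax : ∀ g : GL ι K, ∃ l, Qf wt l = 1 ∧ ∀ l', Qf wt l' = 1 → fg wt hV g l' ≤ fg wt hV g l := by
    intro g
    obtain ⟨l, hl, h⟩ := (isCompact_sphere wt hinj).exists_isMaxOn ⟨l₂, hl₂⟩ (continuous_fg wt hV g).continuousOn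
    exact ⟨l, hl, fun l' hl' => h hl'⟩
  choose L hL1 hL2 using hmax
  obtain ⟨g₀, hg₀, hg₀max⟩ := exists_max_frame (V := V) Γ (fun g => fg wt hV g (L g)) (by
    intro g h e
    apply le_antisymm
    · rw [fg_congr wt hV e]
      exact hL2 h _ (hL1 g)
    · rw [← fg_congr wt hV e]
      exact hL2 g _ (hL1 h))
  set l₀ := L g₀ with hl₀
  set M := fg wt hV g₀ l₀ with hM
  have hmaxM : ∀ g ∈ Γ, ∀ l, Qf wt l = 1 → fg wt hV g l ≤ M := fun g hg l hl =>
    (hL2 g l hl).trans (hg₀max g hg)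
  have hMpos : 0 < M := lt_of_lt_of_le hp₂ (hmaxM g₁ hg₁ l₂ hl₂)
  -- uniqueness
  have key : ∀ h ∈ Γ, ∀ l₃ : Fin m → ℝ, Qf wt l₃ = Qf wt l₀ → M ≤ fg wt hV h l₃ → FRel (wt l₀) (wt l₃) (g₀⁻¹ * h) := by
    intro h hh l₃ hq3 hM3
    obtain ⟨k, hk, l', l'', h1, h2⟩ := common g₀ hg₀ h hh l₀ l₃
    have e1 : M ≤ fg wt hV k l' := fg_frel wt hV h1 le_rfl
    have e2 : M ≤ fg wt hV k l'' := fg_frel wt hV h2 hM3
    have q1 : Qf wt l' = 1 := by
      have := h1.sum_sq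
      unfold Qf; rw [← this]; exact hL1 g₀
    have q2 : Qf wt l'' = 1 := by
      have := h2.sum_sq
      unfold Qf; rw [← this]
      have h3 : Qf wt l₃ = 1 := by rw [hq3]; exact hL1 g₀
      exact h3
    have heq : l' = l'' := by
      by_contra hne
      have e3 := fg_mid wt hV e1 e2
      have q3 := Qf_mid wt l' l''
      have q4 : 0 < Qf wt ((1 / 2 : ℝ) • (l' - l'')) := by
        refine lt_of_le_of_ne (Qf_nonneg wt _) fun h => hne ?_
        have := Qf_eq_zero wt hinj h.symm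
        rw [smul_eq_zero] at this
        rcases this with h | h
        · norm_num at h
        · exact sub_eq_zero.mp h
      have q5 : Qf wt ((1 / 2 : ℝ) • (l' + l'')) < 1 := by rw [q3, q1, q2]; linarith
      have q6 : 0 < Qf wt ((1 / 2 : ℝ) • (l' + l'')) := by
        refine lt_of_le_of_ne (Qf_nonneg wt _) fun h => ?_
        have h3 := Qf_eq_zero wt hinj h.symm
        rw [h3] at e3
        obtain ⟨⟨a, b⟩, hab⟩ := Sg_nonempty hV k
        have : fg wt hV k 0 ≤ wt 0 a - wt 0 b := Finset.inf'_le (fun ab : ι × ι => wt 0 ab.1 - wt 0 ab.2) hab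
        rw [map_zero, Pi.zero_apply, Pi.zero_apply, sub_zero] at this
        linarith
      obtain ⟨l₃, hl₃, hf₃⟩ := norm k _ q6 M e3
      have h4 := hmaxM k hk l₃ hl₃
      have h5 : Real.sqrt (Qf wt ((1 / 2 : ℝ) • (l' + l''))) < 1 := by
        exact (Real.sqrt_lt' one_pos).mpr (by rw [one_pow]; exact q5)
      have h6 : 0 < Real.sqrt (Qf wt ((1 / 2 : ℝ) • (l' + l''))) := Real.sqrt_pos.mpr q6
      have h7 : M < M / Real.sqrt (Qf wt ((1 / 2 : ℝ) • (l' + l''))) := by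
        rw [lt_div_iff₀ h6]
        nlinarith
      linarith
    subst heq
    have h3 := h1.mul h2.inv
    have e : (g₀⁻¹ * k) * (h⁻¹ * k)⁻¹ = g₀⁻¹ * h := by group
    rw [e] at h3
    exact h3
  have key2 : ∀ y ∈ Γ, (∀ v, v ∈ V ↔ y * v * y⁻¹ ∈ V) → g₀⁻¹ * y * g₀ ∈ PW K (wt l₀) := by
    intro y hy hyV
    have := key (y * g₀) (mul_mem hy hg₀) l₀ rfl (fg_conj wt hV hyV le_rfl)
    rw [mul_assoc]
    exact this
  refine ⟨g₀, hg₀, l₀, ?_, ?_, key2, fun h hh l' hq hc => key h hh l' hq (hc M le_rfl)⟩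
  · intro h0
    have h1 := hL1 g₀
    rw [← hl₀, h0] at h1
    have h2 : Qf wt (0 : Fin m → ℝ) = 0 := by
      unfold Qf
      simp
    rw [h2] at h1
    exact zero_ne_one h1
  intro v hv
  refine ⟨key2 v (hVΓ hv) fun x => ?_, ?_⟩
  · constructor
    · intro hx
      exact mul_mem (mul_mem hv hx) (inv_mem hv)
    · intro hx
      have := mul_mem (mul_mem (inv_mem hv) hx) hv
      have e : v⁻¹ * (v * x * v⁻¹) * v = x := by group
      rwa [e] at this
  · intro a b hab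
    have := (le_fg_iff wt hV (c := M)).mp le_rfl v hv a b hab
    linarith

end Opt

open Cfsg.Lie

variable {D : ChevalleyDatum} {k : Type*} [Field k] (R : RootFacts D) (G : Chev.Good D) (E : ChevGrp.DData D)

theorem zeros_dom_ne {l : Fin D.rank → ℝ} (hl : l ≠ 0) : ∃ i, i < D.rank ∧ i ∉ zeros l := by
  by_contra hc
  push Not at hc
  apply hl
  funext i
  obtain ⟨h1, h2⟩ := hc i i.2
  unfold extL at h2
  rw [dif_pos i.2] at h2
  exact h2

include E R G in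
/-- **Borel–Tits with a Frobenius map**: the parabolic subgroup attached to a unipotent subgroup fixed by a field
endomorphism is fixed by it. -/
theorem bt_fix (phi : k →+* k) {V : Subgroup (GL D.Idx k)} (hV : V ≠ ⊥)
    (hVU : ∃ g ∈ D.group k, ∀ v ∈ V, g⁻¹ * v * g ∈ D.posUnipotent k) (hphi : ∀ v ∈ V, Chev.glMap D.Idx phi v = v) :
    ∃ g ∈ D.group k, ∃ l : Fin D.rank → ℝ, Dom l ∧ l ≠ 0 ∧
      (∀ y ∈ D.group k, (∀ v, v ∈ V ↔ y * v * y⁻¹ ∈ V) → g⁻¹ * y * g ∈ D.parabolicSubgroup k (zeros l)) ∧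
      g⁻¹ * Chev.glMap D.Idx phi g ∈ D.parabolicSubgroup k (zeros l) ∧
      ∀ v ∈ V, g⁻¹ * v * g ∈ D.unipotentRadical k (zeros l) := by
  have hNG := (borel_monomial (F := k) R (elemOfGood G k)).2.1
  have hBG := (borel_monomial (F := k) R (elemOfGood G k)).1
  obtain ⟨g₀, hg₀, h₀⟩ := hVU
  have hVG : V ≤ D.group k := by
    intro v hv
    have h1 : D.posUnipotent k ≤ D.group k := (le_sup_left : D.posUnipotent k ≤ D.borelSubgroup k).trans hBG
    have h2 := mul_mem (mul_mem hg₀ (h1 (h₀ v hv))) (inv_mem hg₀)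
    have e : g₀ * (g₀⁻¹ * v * g₀) * g₀⁻¹ = v := by group
    rwa [e] at h2
  have hpos : ∃ g ∈ D.group k, ∃ l : Fin D.rank → ℝ, ∀ v ∈ V, g⁻¹ * v * g ∈ UW k (wtL R l) := by
    refine ⟨g₀, hg₀, fun _ => 1, fun v hv => ?_⟩
    have h1 : wtL R (fun _ => 1) = R.wt (fun _ => 1) := by
      rw [wtL_apply]
      funext a
      rcases a with i | s
      · rfl
      · show R.ev _ _ = R.ev _ _
        unfold RootFacts.ev
        refine Finset.sum_congr rfl fun j hj => ?_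
        unfold extL
        rw [dif_pos (Finset.mem_range.mp hj)]
    rw [h1]
    exact pos_le_UW R G (h₀ v hv)
  obtain ⟨g, hg, l, hl0, h1, h2, h3⟩ := exists_optimal_sym (wtL R) (wtL_injective R) hV hVG (common_frame R G (bruhat G E)) hpos
  obtain ⟨n, hn, l', hl', hnl⟩ := exists_dominant (F := k) R G l
  have hnG : n ∈ D.group k := hNG hn
  have hP := stab_dom (F := k) R G E hl'
  have hU := stab_unip (F := k) R G hl'
  have hgn : g * n ∈ D.group k := mul_mem hg hnG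
  have key : ∀ y ∈ D.group k, g⁻¹ * y * g ∈ PW k (wtL R l) → (g * n)⁻¹ * y * (g * n) ∈ D.parabolicSubgroup k (zeros l') := by
    intro y hy h3
    rw [← hP]
    refine ⟨(D.group k).mul_mem ((D.group k).mul_mem ((D.group k).inv_mem hgn) hy) hgn, ?_⟩
    have h4 := (hnl.inv.mul (frel_self_iff.mpr h3)).mul hnl
    have h5 : n⁻¹ * (g⁻¹ * y * g) * n = (g * n)⁻¹ * y * (g * n) := by group
    rw [h5] at h4
    exact frel_self_iff.mp h4
  have hUW : ∀ v ∈ V, (g * n)⁻¹ * v * (g * n) ∈ D.unipotentRadical k (zeros l') := by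
    intro v hv
    rw [← hU]
    refine ⟨key v (hVG hv) (UW_le_PW _ (h1 v hv)), ?_⟩
    have h5 : (g * n)⁻¹ * v * (g * n) = n⁻¹ * (g⁻¹ * v * g) * n := by group
    rw [h5]
    have h6 := h1 v hv
    refine ⟨?_, ?_⟩
    · have h4 := (hnl.inv.mul (frel_self_iff.mpr (UW_le_PW _ h6))).mul hnl
      exact frel_self_iff.mp h4
    · have e : ((n⁻¹ * (g⁻¹ * v * g) * n : GL D.Idx k) : Matrix D.Idx D.Idx k) - 1 =
          ((n⁻¹ : GL D.Idx k) : Matrix D.Idx D.Idx k) * (((g⁻¹ * v * g : GL D.Idx k) : Matrix D.Idx D.Idx k) - 1) * (n : Matrix D.Idx D.Idx k) := by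
        have h7 : ((n⁻¹ : GL D.Idx k) : Matrix D.Idx D.Idx k) * (n : Matrix D.Idx D.Idx k) = 1 := by
          rw [← Units.val_mul, inv_mul_cancel, Units.val_one]
        rw [mul_sub, sub_mul, mul_one, h7, Units.val_mul, Units.val_mul n⁻¹]
      rw [e]
      intro a b hab
      obtain ⟨c, h7, h8⟩ := exists_of_mul_ne hab
      obtain ⟨d, h9, h10⟩ := exists_of_mul_ne h7
      have h11 := hnl.2 a d h9
      have h12 := h6.2 d c h10
      have h13 := hnl.1 c b h8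
      linarith
  have hphiG : Chev.glMap D.Idx phi g ∈ D.group k := Chev.glMap_mem phi hg
  have h4 : FRel (wtL R l) (wtL R l) (g⁻¹ * Chev.glMap D.Idx phi g) := by
    refine h3 _ hphiG l rfl fun c hc => ?_
    rw [le_fg_iff] at hc ⊢
    intro v hv a b hab
    refine hc v hv a b fun h5 => hab ?_
    have e : (Chev.glMap D.Idx phi g)⁻¹ * v * Chev.glMap D.Idx phi g = Chev.glMap D.Idx phi (g⁻¹ * v * g) := by
      rw [map_mul, map_mul, map_inv, hphi v hv]
    rw [e]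
    rw [Matrix.sub_apply] at h5 ⊢
    rw [Chev.glMap_coe, Matrix.map_apply]
    have h6 : ((g⁻¹ * v * g : GL D.Idx k) : Matrix D.Idx D.Idx k) a b = (1 : Matrix D.Idx D.Idx k) a b := sub_eq_zero.mp h5
    rw [h6]
    by_cases hab' : a = b
    · subst hab'; rw [Matrix.one_apply_eq, map_one, sub_self]
    · rw [Matrix.one_apply_ne hab', map_zero, sub_self]
  refine ⟨g * n, hgn, l', hl', ?_, ?_, ?_, hUW⟩
  · intro h0
    apply hl0
    have h5 := hnl.sum_sq
    have h6 : Qf (wtL R) l = Qf (wtL R) l' := h5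
    have h7 : Qf (wtL R) l' = 0 := by
      rw [h0]; unfold Qf; simp
    exact Qf_eq_zero (wtL R) (wtL_injective R) (h6.trans h7)
  · intro y hy hyV
    exact key y hy (h2 y hy hyV)
  · rw [← hP]
    refine ⟨(D.group k).mul_mem ((D.group k).inv_mem hgn) (Chev.glMap_mem phi hgn), ?_⟩
    have h5 : FRel (wtL R l) (wtL R l') (Chev.glMap D.Idx phi n) := by
      constructor
      · intro a b hab
        refine hnl.1 a b fun h6 => hab ?_
        rw [Chev.glMap_coe, Matrix.map_apply, h6, map_zero]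
      · intro a b hab
        refine hnl.2 a b fun h6 => hab ?_
        rw [← map_inv, Chev.glMap_coe, Matrix.map_apply, h6, map_zero]
    have h6 := (hnl.inv.mul h4).mul h5
    have e : n⁻¹ * (g⁻¹ * Chev.glMap D.Idx phi g) * Chev.glMap D.Idx phi n = (g * n)⁻¹ * Chev.glMap D.Idx phi (g * n) := by
      rw [map_mul]; group
    rw [e] at h6
    exact frel_self_iff.mp h6

end Cfsg.Agent.ChevU
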