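import Cfsg.Agent.ChevU.Core
import Cfsg.Agent.Chev.Torus

set_option autoImplicit false
set_option linter.unusedSectionVars false
set_option linter.unusedVariables false

/-!
# Packed matrices over the field with two elements (helper17)

A matrix over the prime field of characteristic two is stored as one natural number; the product with a root element is
computed by shifts and exclusive or.
-/

namespace Cfsg.Agent.ChevU

open Cfsg.Lie Matrix

/-- a bit as an element of a field -/
def bF (F : Type*) [Field F] (b : Bool) : F := if b then 1 else 0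

section bits
variable {F : Type*} [Field F] [CharP F 2]

theorem bF_xor (a b : Bool) : bF F (a ^^ b) = bF F a + bF F b := by
  cases a <;> cases b <;> simp [bF, CharTwo.add_self_eq_zero]

omit [CharP F 2] in
@[simp] theorem bF_false : bF F false = 0 := rfl
omit [CharP F 2] in
@[simp] theorem bF_true : bF F true = 1 := rfl

theorem bF_int (z : ℤ) : ((z : ℤ) : F) = bF F (decide (z % 2 ≠ 0)) := by
  have h1 : ((z : ℤ) : F) = ((z % 2 : ℤ) : F) := by
    conv_lhs => rw [← Int.emod_add_mul_ediv z 2]
    push_cast
    rw [(CharTwo.two_eq_zero : (2 : F) = 0), zero_mul, add_zero]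
  rw [h1]
  rcases Int.emod_two_eq_zero_or_one z with h | h <;> rw [h] <;> simp

end bits

theorem sum_range_map {M : Type*} [AddCommMonoid M] (f : ℕ → M) (N : ℕ) : ((List.range N).map f).sum = ∑ k ∈ Finset.range N, f k := by
  induction N with
  | zero => simp
  | succ N ih => rw [List.range_succ, List.map_append, List.sum_append, ih, Finset.sum_range_succ]; simp

/-- row `k` of a packed matrix of width `N` -/
def brow (N M k : ℕ) : ℕ := (M >>> (k * N)) % 2 ^ N

theorem testBit_brow (N M k j : ℕ) : (brow N M k).testBit j = (decide (j < N) && M.testBit (k * N + j)) := by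
  unfold brow
  rw [Nat.testBit_mod_two_pow, Nat.testBit_shiftRight]

/-- a row placed at row `u` -/
theorem testBit_place {N M s u i j : ℕ} (hj : j < N) :
    (brow N M s <<< (u * N)).testBit (i * N + j) = (decide (i = u) && M.testBit (s * N + j)) := by
  rw [Nat.testBit_shiftLeft]
  rcases lt_trichotomy i u with h | h | h
  · have h1 : i * N + j < u * N := by
      calc i * N + j < i * N + N := by omega
        _ = (i + 1) * N := by ring
        _ ≤ u * N := Nat.mul_le_mul_right _ h
    rw [decide_eq_false (by omega), decide_eq_false (by omega)]; simp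
  · subst h
    rw [Nat.add_sub_cancel_left, testBit_brow, decide_eq_true (by omega), decide_eq_true hj, decide_eq_true rfl]
    simp
  · have h1 : u * N + N ≤ i * N + j := by
      calc u * N + N = (u + 1) * N := by ring
        _ ≤ i * N := Nat.mul_le_mul_right _ h
        _ ≤ _ := by omega
    rw [testBit_brow, decide_eq_false (show ¬ i * N + j - u * N < N by omega), decide_eq_false (show ¬ i = u by omega)]; simp

/-- the product with `1 + Σ E_{e.1, e.2}` -/
def applyX (N : ℕ) (E : List (ℕ × ℕ)) (M : ℕ) : ℕ := E.foldl (fun acc e => acc ^^^ (brow N M e.2 <<< (e.1 * N))) M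

theorem testBit_applyX {F : Type*} [Field F] [CharP F 2] {N M : ℕ} (E : List (ℕ × ℕ)) {i j : ℕ} (hj : j < N) :
    bF F ((applyX N E M).testBit (i * N + j)) = bF F (M.testBit (i * N + j)) +
      (E.map fun e => if e.1 = i then bF F (M.testBit (e.2 * N + j)) else 0).sum := by
  have key : ∀ (E : List (ℕ × ℕ)) (acc : ℕ), bF F ((E.foldl (fun acc e => acc ^^^ (brow N M e.2 <<< (e.1 * N))) acc).testBit (i * N + j)) =
      bF F (acc.testBit (i * N + j)) + (E.map fun e => if e.1 = i then bF F (M.testBit (e.2 * N + j)) else 0).sum := by
    intro E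
    induction E with
    | nil => intro acc; simp
    | cons e E ih =>
      intro acc
      rw [List.foldl_cons, ih, Nat.testBit_xor, bF_xor, testBit_place hj, List.map_cons, List.sum_cons, add_assoc]
      congr 2
      by_cases h : e.1 = i
      · rw [if_pos h, decide_eq_true h.symm, Bool.true_and]
      · rw [if_neg h, decide_eq_false (fun h' => h h'.symm), Bool.false_and, bF_false]
  exact key E M

/-- the packed identity matrix -/
def idM (N : ℕ) : ℕ := (List.range N).foldl (fun acc i => acc ^^^ (1 <<< (i * N + i))) 0

theorem testBit_idM {F : Type*} [Field F] [CharP F 2] {N i j : ℕ} (hi : i < N) (hj : j < N) :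
    bF F ((idM N).testBit (i * N + j)) = if i = j then 1 else 0 := by
  have key : ∀ (L : List ℕ) (acc : ℕ), bF F ((L.foldl (fun acc i => acc ^^^ (1 <<< (i * N + i))) acc).testBit (i * N + j)) =
      bF F (acc.testBit (i * N + j)) + (L.map fun k => if i * N + j = k * N + k then (1 : F) else 0).sum := by
    intro L
    induction L with
    | nil => intro acc; simp
    | cons k L ih =>
      intro acc
      rw [List.foldl_cons, ih, Nat.testBit_xor, bF_xor, List.map_cons, List.sum_cons, add_assoc]
      congr 2
      rw [Nat.one_shiftLeft, Nat.testBit_two_pow]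
      by_cases h : i * N + j = k * N + k
      · rw [if_pos h, decide_eq_true h.symm, bF_true]
      · rw [if_neg h, decide_eq_false (fun h' => h h'.symm), bF_false]
  unfold idM
  rw [key]
  simp only [Nat.zero_testBit, bF_false, zero_add]
  have h1 : ∀ k ∈ List.range N, (if i * N + j = k * N + k then (1 : F) else 0) = if k = i then (if i = j then 1 else 0) else 0 := by
    intro k hk
    rw [List.mem_range] at hk
    have h2 : (i * N + j = k * N + k) ↔ (k = i ∧ i = j) := by
      constructor
      · intro h
        rcases lt_trichotomy i k with h' | h' | h'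
        · have : i * N + N ≤ k * N := by
            calc i * N + N = (i + 1) * N := by ring
              _ ≤ k * N := Nat.mul_le_mul_right _ h'
          omega
        · subst h'; exact ⟨rfl, by omega⟩
        · have : k * N + N ≤ i * N := by
            calc k * N + N = (k + 1) * N := by ring
              _ ≤ i * N := Nat.mul_le_mul_right _ h'
          omega
      · rintro ⟨rfl, rfl⟩; rfl
    by_cases h : k = i
    · by_cases h' : i = j
      · rw [if_pos (h2.2 ⟨h, h'⟩), if_pos h, if_pos h']
      · rw [if_neg (fun hh => h' (h2.1 hh).2), if_pos h, if_neg h']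
    · rw [if_neg (fun hh => h (h2.1 hh).1), if_neg h]
  rw [List.map_congr_left h1, sum_range_map, Finset.sum_ite_eq' (Finset.range N) i, if_pos (Finset.mem_range.mpr hi)]

/-! ### root elements -/

variable {D : ChevalleyDatum}

/-- the position of an index -/
def pidx (D : ChevalleyDatum) : D.Idx → ℕ
  | Sum.inl i => i
  | Sum.inr r => D.rank + r

theorem pidx_lt (i : D.Idx) : pidx D i < D.rank + D.nroots := by
  rcases i with i | r
  · exact lt_of_lt_of_le i.2 (Nat.le_add_right _ _)
  · exact Nat.add_lt_add_left r.2 _

theorem pidx_inj {i j : D.Idx} (h : pidx D i = pidx D j) : i = j := by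
  rcases i with i | r <;> rcases j with j | s <;> simp only [pidx] at h
  · rw [Fin.ext h]
  · omega
  · omega
  · rw [Fin.ext (show (r : ℕ) = s by omega)]

theorem exists_pidx {k : ℕ} (hk : k < D.rank + D.nroots) : ∃ i : D.Idx, pidx D i = k := by
  by_cases h : k < D.rank
  · exact ⟨Sum.inl ⟨k, h⟩, rfl⟩
  · exact ⟨Sum.inr ⟨k - D.rank, by omega⟩, by show D.rank + (k - D.rank) = k; omega⟩

theorem sum_pidx {M : Type*} [AddCommMonoid M] (f : ℕ → M) {k : ℕ} (hk : k < D.rank + D.nroots) :
    (∑ i : D.Idx, if k = pidx D i then f (pidx D i) else 0) = f k := by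
  classical
  obtain ⟨i, rfl⟩ := exists_pidx hk
  rw [Finset.sum_eq_single i]
  · rw [if_pos rfl]
  · intro j _ hj
    rw [if_neg fun h => hj (pidx_inj h.symm)]
  · intro h; exact absurd (Finset.mem_univ _) h

/-- the matrix of a packed number -/
def bmat (D : ChevalleyDatum) (F : Type*) [Field F] (M : ℕ) : Matrix D.Idx D.Idx F :=
  Matrix.of fun i j => bF F (M.testBit (pidx D i * (D.rank + D.nroots) + pidx D j))

theorem bmat_idM {F : Type*} [Field F] [CharP F 2] : bmat D F (idM (D.rank + D.nroots)) = 1 := by
  ext i j
  rw [bmat, Matrix.of_apply, testBit_idM (pidx_lt i) (pidx_lt j), Matrix.one_apply]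
  by_cases h : i = j
  · rw [if_pos h, if_pos (by rw [h])]
  · rw [if_neg h, if_neg fun h' => h (pidx_inj h')]

/-- matrix positions and integer coefficients of `x_r(1) - 1` -/
def zedges (D : ChevalleyDatum) (r : ℕ) : List ((ℕ × ℕ) × ℤ) :=
  (List.range D.rank).map (fun i => ((D.rank + r, i), -(D.cartanSR.getD i #[]).getD r 0)) ++
  ((List.range D.rank).map (fun i => ((i, D.rank + D.negIdx.getD r 0), (D.coroot.getD r #[]).getD i 0)) ++
  (((D.rank + r, D.rank + D.negIdx.getD r 0), -1) ::
  (D.chain.getD r #[]).toList.flatMap fun e => e.2.toList.map fun q => ((D.rank + q.1, D.rank + e.1), q.2)))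

/-- positions with odd coefficient -/
def bedges (D : ChevalleyDatum) (r : ℕ) : List (ℕ × ℕ) := ((zedges D r).filter fun e => e.2 % 2 != 0).map Prod.fst

/-- sanity check -/
def zsane (D : ChevalleyDatum) (r : ℕ) : Bool :=
  decide (r < D.nroots) && decide (D.negIdx.getD r 0 < D.nroots) && decide (D.negIdx.getD r 0 ≠ r) &&
  ((D.chain.getD r #[]).toList.all fun e => decide (e.1 ≠ r) && decide (e.1 ≠ D.negIdx.getD r 0) && decide (e.1 < D.nroots))

theorem sum_filter_edges {F : Type*} [Field F] [CharP F 2] (L : List ((ℕ × ℕ) × ℤ)) (a : ℕ × ℕ) :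
    (((L.filter fun e => e.2 % 2 != 0).map Prod.fst).map fun e => if e = a then (1 : F) else 0).sum =
    (L.map fun e => if e.1 = a then ((e.2 : ℤ) : F) else 0).sum := by
  induction L with
  | nil => simp
  | cons e L ih =>
    rw [List.map_cons, List.sum_cons, ← ih]
    by_cases h : e.2 % 2 = 0
    · rw [List.filter_cons_of_neg (by simp [h]), bF_int, decide_eq_false (by simpa using h)]
      simp
    · rw [List.filter_cons_of_pos (by simpa using h), List.map_cons, List.map_cons, List.sum_cons, bF_int,
        decide_eq_true (by simpa using h), bF_true]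

theorem sum_flatMap' {α β M : Type*} [AddCommMonoid M] (L : List α) (f : α → List β) (g : β → M) :
    ((L.flatMap f).map g).sum = (L.map fun a => ((f a).map g).sum).sum := by
  induction L with
  | nil => simp
  | cons a L ih => rw [List.flatMap_cons, List.map_append, List.sum_append, ih, List.map_cons, List.sum_cons]

theorem sum_filter_map {α M : Type*} [AddCommMonoid M] (L : List α) (p : α → Bool) (g : α → M) :
    ((L.filter p).map g).sum = (L.map fun a => if p a then g a else 0).sum := by
  induction L with
  | nil => simp
  | cons a L ih =>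
    rw [List.map_cons, List.sum_cons, ← ih]
    by_cases h : p a
    · rw [List.filter_cons_of_pos h, List.map_cons, List.sum_cons, if_pos h]
    · rw [List.filter_cons_of_neg h, if_neg h, zero_add]

theorem sum_zipIdx {α M : Type*} [AddCommMonoid M] (L : List α) (g : α → M) (k : ℕ) :
    ((L.zipIdx k).map fun q => g q.1).sum = (L.map g).sum := by
  induction L generalizing k with
  | nil => simp
  | cons a L ih => rw [List.zipIdx_cons, List.map_cons, List.sum_cons, ih, List.map_cons, List.sum_cons]

theorem chain_sum {F : Type*} [Field F] (r s u : ℕ) :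
    ((D.chainCoeff r s u).map fun km => ((km.2 : ℤ) : F) * 1 ^ km.1).sum =
    (((D.chain.getD r #[]).toList.flatMap fun e => e.2.toList.map fun q => ((D.rank + q.1, D.rank + e.1), q.2)).map
      fun e => if e.1 = (D.rank + u, D.rank + s) then ((e.2 : ℤ) : F) else 0).sum := by
  unfold ChevalleyDatum.chainCoeff
  rw [sum_flatMap', sum_flatMap', sum_filter_map]
  congr 1
  apply List.map_congr_left
  intro e _
  rw [List.map_map, List.map_map]
  by_cases h : e.1 = s
  · rw [if_pos (by simpa using h), sum_filter_map]
    have h1 : ∀ q ∈ e.2.toList.zipIdx, (if (decide (q.1.1 = u)) = true then ((fun km : ℕ × ℤ => ((km.2 : ℤ) : F) * 1 ^ km.1) ∘ fun q : (ℕ × ℤ) × ℕ => (q.2 + 1, q.1.2)) q else 0) =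
        (fun q : ℕ × ℤ => if q.1 = u then ((q.2 : ℤ) : F) else 0) q.1 := by
      intro q _
      by_cases h2 : q.1.1 = u
      · simp [h2]
      · simp [h2]
    rw [List.map_congr_left h1, sum_zipIdx e.2.toList (fun q : ℕ × ℤ => if q.1 = u then ((q.2 : ℤ) : F) else 0) 0]
    congr 1
    apply List.map_congr_left
    intro q _
    simp only [Function.comp_apply, Prod.mk.injEq, Nat.add_left_cancel_iff, h, and_true]
  · rw [if_neg (by simpa using h)]
    symm
    apply List.sum_eq_zero
    intro x hx
    rw [List.mem_map] at hx
    obtain ⟨q, _, rfl⟩ := hx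
    simp only [Function.comp_apply, Prod.mk.injEq, Nat.add_left_cancel_iff, h, and_false, if_false]

theorem sum_zero_of {α M : Type*} [AddCommMonoid M] {L : List α} {f : α → M} (h : ∀ a ∈ L, f a = 0) : (L.map f).sum = 0 := by
  apply List.sum_eq_zero
  intro x hx
  rw [List.mem_map] at hx
  obtain ⟨a, ha, rfl⟩ := hx
  exact h a ha

theorem x_entry {F : Type*} [Field F] {r : ℕ} (hs : zsane D r = true) (i j : D.Idx) :
    D.x F r 1 i j = (if i = j then 1 else 0) +
      ((zedges D r).map fun e => if e.1 = (pidx D i, pidx D j) then ((e.2 : ℤ) : F) else 0).sum := by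
  unfold zsane at hs
  simp only [Bool.and_eq_true, decide_eq_true_eq, List.all_eq_true] at hs
  obtain ⟨⟨⟨hr, hnl⟩, hnr⟩, hch⟩ := hs
  rw [Chev.x_eq hr]
  unfold zedges
  rw [List.map_append, List.sum_append, List.map_append, List.sum_append, List.map_cons, List.sum_cons, List.map_map, List.map_map,
    sum_range_map, sum_range_map]
  rcases j with j | s
  · -- Cartan column
    have hC : ((((D.chain.getD r #[]).toList.flatMap fun e => e.2.toList.map fun q => ((D.rank + q.1, D.rank + e.1), q.2)).map
      fun e => if e.1 = (pidx D i, pidx D (Sum.inl j)) then ((e.2 : ℤ) : F) else 0).sum) = 0 := by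
      apply sum_zero_of
      intro a ha
      rw [List.mem_flatMap] at ha
      obtain ⟨e, _, ha⟩ := ha
      rw [List.mem_map] at ha
      obtain ⟨q, _, rfl⟩ := ha
      rw [if_neg]
      rw [Prod.mk.injEq]
      have := j.2
      simp only [pidx]
      omega
    rw [hC]
    have hM : ¬ ((D.rank + r, D.rank + D.negIdx.getD r 0) = (pidx D i, pidx D (Sum.inl j))) := by
      rw [Prod.mk.injEq]; have := j.2; simp only [pidx]; omega
    rw [if_neg hM]
    rw [Finset.sum_eq_zero (s := Finset.range D.rank) (f := (fun e : (ℕ × ℕ) × ℤ => if e.1 = (pidx D i, pidx D (Sum.inl j)) then ((e.2 : ℤ) : F) else 0) ∘ fun i => ((i, D.rank + D.negIdx.getD r 0), (D.coroot.getD r #[]).getD i 0))]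
    swap
    · intro k hk
      rw [Function.comp_apply, if_neg]
      rw [Prod.mk.injEq]
      have := j.2
      simp only [pidx]
      omega
    rw [Finset.sum_eq_single (j : ℕ)]
    · rcases i with i | u
      · have hM2 : ¬ ((D.rank + r, (j : ℕ)) = (pidx D (Sum.inl i), pidx D (Sum.inl j))) := by
          rw [Prod.mk.injEq]
          have := i.2
          simp only [pidx]
          omega
        rw [Function.comp_apply, if_neg hM2]
        show (if i = j then (1 : F) else 0) = _
        simp only [Sum.inl.injEq, add_zero]
      · show (if u = ⟨r, hr⟩ then -(((D.cartanSR.getD (j : ℕ) #[]).getD r 0 : ℤ) : F) * 1 else 0) = _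
        rw [Function.comp_apply]
        by_cases h : u = ⟨r, hr⟩
        · have h3 : ((D.rank + r, (j : ℕ)) = (pidx D (Sum.inr u), pidx D (Sum.inl j))) := by
            rw [Prod.mk.injEq, h]; exact ⟨rfl, rfl⟩
          rw [if_pos h, if_pos h3, if_neg (by simp)]; push_cast; ring
        · have h3 : ¬ ((D.rank + r, (j : ℕ)) = (pidx D (Sum.inr u), pidx D (Sum.inl j))) := by
            rw [Prod.mk.injEq]
            rintro ⟨h4, -⟩
            exact h (Fin.ext (Nat.add_left_cancel h4).symm)
          rw [if_neg h, if_neg h3, if_neg (by simp)]; ring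
    · intro k _ hk
      rw [Function.comp_apply, if_neg]
      rw [Prod.mk.injEq]
      simp only [pidx]
      intro h
      exact hk h.2
    · intro h; exact absurd (Finset.mem_range.mpr j.2) h
  · -- root column
    have hA : (∑ k ∈ Finset.range D.rank, ((fun e : (ℕ × ℕ) × ℤ => if e.1 = (pidx D i, pidx D (Sum.inr s)) then ((e.2 : ℤ) : F) else 0) ∘ fun i => ((D.rank + r, i), -(D.cartanSR.getD i #[]).getD r 0)) k) = 0 := by
      apply Finset.sum_eq_zero
      intro k hk
      rw [Finset.mem_range] at hk
      rw [Function.comp_apply, if_neg]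
      rw [Prod.mk.injEq]
      simp only [pidx]
      omega
    rw [hA, zero_add]
    have hChain0 : (∀ e ∈ (D.chain.getD r #[]).toList, e.1 ≠ (s : ℕ)) → ((((D.chain.getD r #[]).toList.flatMap fun e => e.2.toList.map fun q => ((D.rank + q.1, D.rank + e.1), q.2)).map
      fun e => if e.1 = (pidx D i, pidx D (Sum.inr s)) then ((e.2 : ℤ) : F) else 0).sum) = 0 := by
      intro hne
      apply sum_zero_of
      intro a ha
      rw [List.mem_flatMap] at ha
      obtain ⟨e, he, ha⟩ := ha
      rw [List.mem_map] at ha
      obtain ⟨q, _, rfl⟩ := ha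
      rw [if_neg]
      rw [Prod.mk.injEq]
      have := hne e he
      simp only [pidx]
      omega
    by_cases h1 : s = ⟨r, hr⟩
    · have hsr : (s : ℕ) = r := by rw [h1]
      rw [hChain0 (fun e he => by rw [hsr]; exact (hch e he).1.1)]
      have hM : ¬ ((D.rank + r, D.rank + D.negIdx.getD r 0) = (pidx D i, pidx D (Sum.inr s))) := by
        rw [Prod.mk.injEq]; simp only [pidx]; omega
      rw [if_neg hM]
      rw [Finset.sum_eq_zero]
      swap
      · intro k hk
        rw [Function.comp_apply, if_neg]
        rw [Prod.mk.injEq]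
        simp only [pidx]
        omega
      rcases i with i | u
      · simp [ChevalleyDatum.xMat, h1]
      · simp [ChevalleyDatum.xMat, h1]
    · by_cases h2 : (s : ℕ) = D.negIdx.getD r 0
      · rw [hChain0 (fun e he => by rw [h2]; exact (hch e he).1.2)]
        simp only [ChevalleyDatum.xMat, Matrix.of_apply, if_neg h1, if_pos h2]
        rcases i with i | u
        · have hM : ¬ ((D.rank + r, D.rank + D.negIdx.getD r 0) = (pidx D (Sum.inl i), pidx D (Sum.inr s))) := by
            rw [Prod.mk.injEq]; have := i.2; simp only [pidx]; omega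
          rw [if_neg hM, if_neg (by simp : ¬ ((Sum.inl i : D.Idx) = Sum.inr s))]
          rw [Finset.sum_eq_single (i : ℕ)]
          · rw [Function.comp_apply, if_pos (by simp only [pidx, h2])]
            simp
          · intro k _ hk
            rw [Function.comp_apply, if_neg]
            rw [Prod.mk.injEq]
            simp only [pidx]
            intro h; exact hk h.1
          · intro h; exact absurd (Finset.mem_range.mpr i.2) h
        · rw [Finset.sum_eq_zero]
          swap
          · intro k hk
            rw [Finset.mem_range] at hk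
            rw [Function.comp_apply, if_neg]
            rw [Prod.mk.injEq]
            simp only [pidx]
            omega
          simp only [pidx, Prod.mk.injEq, Nat.add_left_cancel_iff, h2, and_true, Sum.inr.injEq, zero_add, add_zero, one_pow]
          by_cases h3 : u = s
          · rw [if_pos h3, if_pos h3, if_neg]
            · simp
            · intro h
              apply h1
              rw [← h3]
              exact Fin.ext h.symm
          · rw [if_neg h3, if_neg h3]
            by_cases h4 : u = ⟨r, hr⟩
            · rw [if_pos h4, if_pos (by rw [h4])]; push_cast; ring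
            · rw [if_neg h4, if_neg (fun h => h4 (Fin.ext h.symm))]; ring
      · have hM : ¬ ((D.rank + r, D.rank + D.negIdx.getD r 0) = (pidx D i, pidx D (Sum.inr s))) := by
          rw [Prod.mk.injEq]; simp only [pidx]; omega
        rw [if_neg hM]
        rw [Finset.sum_eq_zero]
        swap
        · intro k hk
          rw [Function.comp_apply, if_neg]
          rw [Prod.mk.injEq]
          simp only [pidx]
          omega
        simp only [ChevalleyDatum.xMat, Matrix.of_apply, if_neg h1, if_neg h2, zero_add]
        rcases i with i | u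
        · rw [if_neg (by simp : ¬ ((Sum.inl i : D.Idx) = Sum.inr s))]
          symm
          rw [zero_add]
          apply sum_zero_of
          intro a ha
          rw [List.mem_flatMap] at ha
          obtain ⟨e, he, ha⟩ := ha
          rw [List.mem_map] at ha
          obtain ⟨q, _, rfl⟩ := ha
          rw [if_neg]
          rw [Prod.mk.injEq]
          have := i.2
          simp only [pidx]
          omega
        · show (if u = s then (1 : F) else 0) + ((D.chainCoeff r (s : ℕ) (u : ℕ)).map fun km => ((km.2 : ℤ) : F) * 1 ^ km.1).sum = _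
          rw [chain_sum]
          congr 1
          by_cases h3 : u = s
          · rw [if_pos h3, if_pos (congrArg Sum.inr h3)]
          · rw [if_neg h3, if_neg (fun h => h3 (Sum.inr.inj h))]

theorem bedges_lt {r : ℕ} (hs : zsane D r = true) : ∀ e ∈ bedges D r, e.2 < D.rank + D.nroots := by
  unfold zsane at hs
  simp only [Bool.and_eq_true, decide_eq_true_eq, List.all_eq_true] at hs
  obtain ⟨⟨⟨hr, hnl⟩, hnr⟩, hch⟩ := hs
  intro e he
  unfold bedges at he
  rw [List.mem_map] at he
  obtain ⟨a, ha, rfl⟩ := he
  rw [List.mem_filter] at ha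
  have h := ha.1
  unfold zedges at h
  rw [List.mem_append, List.mem_append, List.mem_cons, List.mem_map, List.mem_map, List.mem_flatMap] at h
  rcases h with ⟨i, hi, rfl⟩ | ⟨i, hi, rfl⟩ | rfl | ⟨c, hc, h⟩
  · rw [List.mem_range] at hi
    show i < _
    omega
  · show D.rank + D.negIdx.getD r 0 < _
    omega
  · show D.rank + D.negIdx.getD r 0 < _
    omega
  · rw [List.mem_map] at h
    obtain ⟨q, _, rfl⟩ := h
    have := (hch c hc).2
    show D.rank + c.1 < _
    omega

/-- the packed product with a root element -/
theorem bmat_applyX {F : Type*} [Field F] [CharP F 2] {r : ℕ} (hs : zsane D r = true) (M : ℕ) :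
    bmat D F (applyX (D.rank + D.nroots) (bedges D r) M) = D.x F r 1 * bmat D F M := by
  ext i j
  rw [bmat, Matrix.of_apply, testBit_applyX (bedges D r) (pidx_lt j), Matrix.mul_apply]
  have h1 : ∀ k : D.Idx, D.x F r 1 i k * bmat D F M k j = (if i = k then bmat D F M k j else 0) +
      ((bedges D r).map fun e => if e = (pidx D i, pidx D k) then bmat D F M k j else 0).sum := by
    intro k
    rw [x_entry hs, ← sum_filter_edges, add_mul, ite_mul, one_mul, zero_mul]
    congr 1
    rw [← bedges, ← List.sum_map_mul_right]
    congr 1
    apply List.map_congr_left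
    intro e _
    rw [ite_mul, one_mul, zero_mul]
  rw [Finset.sum_congr rfl fun k _ => h1 k, Finset.sum_add_distrib, Finset.sum_ite_eq, if_pos (Finset.mem_univ _)]
  congr 1
  have h2 := bedges_lt hs
  revert h2
  generalize bedges D r = L
  intro h2
  induction L with
  | nil => simp
  | cons e L ih =>
    rw [List.map_cons, List.sum_cons, ih fun e he => h2 e (List.mem_cons_of_mem _ he)]
    simp only [List.map_cons, List.sum_cons]
    rw [Finset.sum_add_distrib]
    congr 1
    have h3 : ∀ k : D.Idx, (if e = (pidx D i, pidx D k) then bmat D F M k j else 0) =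
        if e.2 = pidx D k then (if e.1 = pidx D i then bF F (M.testBit (pidx D k * (D.rank + D.nroots) + pidx D j)) else 0) else 0 := by
      intro k
      by_cases h4 : e.2 = pidx D k
      · by_cases h5 : e.1 = pidx D i
        · rw [if_pos (Prod.ext h5 h4), if_pos h4, if_pos h5]; rfl
        · rw [if_neg (fun h => h5 (congrArg Prod.fst h)), if_pos h4, if_neg h5]
      · rw [if_neg (fun h => h4 (congrArg Prod.snd h)), if_neg h4]
    rw [Finset.sum_congr rfl fun k _ => h3 k,
      sum_pidx (fun k => if e.1 = pidx D i then bF F (M.testBit (k * (D.rank + D.nroots) + pidx D j)) else 0) (h2 e (List.mem_cons_self))]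

/-- a packed word in root elements -/
def bword (D : ChevalleyDatum) (W : List ℕ) : ℕ :=
  W.foldr (fun r M => applyX (D.rank + D.nroots) (bedges D r) M) (idM (D.rank + D.nroots))

theorem bmat_bword {F : Type*} [Field F] [CharP F 2] {W : List ℕ} (hW : ∀ r ∈ W, zsane D r = true) :
    bmat D F (bword D W) = (W.map fun r => D.x F r 1).prod := by
  induction W with
  | nil => exact bmat_idM
  | cons r W ih =>
    rw [List.map_cons, List.prod_cons, ← ih fun r hr => hW r (List.mem_cons_of_mem _ hr)]
    exact bmat_applyX (hW r List.mem_cons_self) _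

/-- equality of two words -/
def chkWord (D : ChevalleyDatum) (W W' : List ℕ) : Bool :=
  W.all (zsane D) && W'.all (zsane D) && bword D W == bword D W'

theorem eq_of_chkWord {F : Type*} [Field F] [CharP F 2] {W W' : List ℕ} (h : chkWord D W W' = true) :
    (W.map fun r => D.x F r 1).prod = (W'.map fun r => D.x F r 1).prod := by
  unfold chkWord at h
  rw [Bool.and_eq_true, Bool.and_eq_true, List.all_eq_true, List.all_eq_true, beq_iff_eq] at h
  rw [← bmat_bword h.1.1, ← bmat_bword h.1.2, h.2]

end Cfsg.Agent.ChevU
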