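import Cfsg.Agent.ChevU.InvCanon

set_option autoImplicit false
set_option linter.unusedSectionVars false
set_option linter.unusedVariables false

/-!
# Ranks of packed matrices, and classes of involutions from ranks (helper17)
-/

namespace Cfsg.Agent.ChevU

open Cfsg.Lie Cfsg.Agent.Chev Cfsg.Agent.ChevGrp Cfsg.Agent.ChevWeyl Matrix

section general
variable {F : Type*} [Field F] [CharP F 2]

theorem bF_and (a b : Bool) : bF F (a && b) = bF F a * bF F b := by
  cases a <;> cases b <;> simp

/-- linear combination of the rows of `B` -/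
def prow (N a B : ℕ) (L : List ℕ) : ℕ := L.foldl (fun r k => bif a.testBit k then r ^^^ brow N B k else r) 0

theorem testBit_prow {N a B j : ℕ} (hj : j < N) (L : List ℕ) :
    bF F ((prow N a B L).testBit j) = (L.map fun k => bF F (a.testBit k) * bF F (B.testBit (k * N + j))).sum := by
  have key : ∀ (L : List ℕ) (acc : ℕ), bF F ((L.foldl (fun r k => bif a.testBit k then r ^^^ brow N B k else r) acc).testBit j) =
      bF F (acc.testBit j) + (L.map fun k => bF F (a.testBit k) * bF F (B.testBit (k * N + j))).sum := by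
    intro L
    induction L with
    | nil => intro acc; simp
    | cons k L ih =>
      intro acc
      rw [List.foldl_cons, ih, List.map_cons, List.sum_cons, ← add_assoc]
      congr 1
      cases h : a.testBit k
      · simp
      · simp only [cond_true, Nat.testBit_xor, bF_xor, testBit_brow, decide_eq_true hj, Bool.true_and, bF_true, one_mul]
  unfold prow
  rw [key]
  simp

/-- all bits beyond `n` vanish -/
theorem prow_lt {N a B : ℕ} (L : List ℕ) : prow N a B L < 2 ^ N := by
  have key : ∀ (L : List ℕ) (acc : ℕ), acc < 2 ^ N → (L.foldl (fun r k => bif a.testBit k then r ^^^ brow N B k else r) acc) < 2 ^ N := by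
    intro L
    induction L with
    | nil => intro acc h; exact h
    | cons k L ih =>
      intro acc h
      rw [List.foldl_cons]
      apply ih
      cases h' : a.testBit k
      · simpa using h
      · simp only [cond_true]
        exact Nat.xor_lt_two_pow h (Nat.mod_lt _ (by positivity))
  exact key L 0 (by positivity)

/-- product of packed matrices -/
def pmulL (N A B : ℕ) (L : List ℕ) : ℕ := L.foldl (fun acc i => acc ^^^ (prow N (brow N A i) B L <<< (i * N))) 0
/-- product of packed matrices -/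
def pmul (N A B : ℕ) : ℕ := pmulL N A B (List.range N)

theorem testBit_shift {N p u i j : ℕ} (hj : j < N) (hp : p < 2 ^ N) : (p <<< (u * N)).testBit (i * N + j) = (decide (i = u) && p.testBit j) := by
  rw [Nat.testBit_shiftLeft]
  rcases lt_trichotomy i u with h | h | h
  · have h1 : i * N + j < u * N := by
      calc i * N + j < i * N + N := by omega
        _ = (i + 1) * N := by ring
        _ ≤ u * N := Nat.mul_le_mul_right _ h
    rw [decide_eq_false (by omega), decide_eq_false (by omega)]; simp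
  · subst h
    rw [Nat.add_sub_cancel_left, decide_eq_true (by omega), decide_eq_true rfl]
  · have h1 : u * N + N ≤ i * N + j := by
      calc u * N + N = (u + 1) * N := by ring
        _ ≤ i * N := Nat.mul_le_mul_right _ h
        _ ≤ _ := by omega
    rw [decide_eq_false (show ¬ i = u by omega), Bool.false_and]
    have h2 : p.testBit (i * N + j - u * N) = false := by
      apply Nat.testBit_eq_false_of_lt
      exact lt_of_lt_of_le hp (Nat.pow_le_pow_right (by norm_num) (by omega))
    rw [h2, Bool.and_false]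

theorem testBit_pmul {N A B i j : ℕ} (hi : i < N) (hj : j < N) :
    bF F ((pmul N A B).testBit (i * N + j)) = ∑ k ∈ Finset.range N, bF F (A.testBit (i * N + k)) * bF F (B.testBit (k * N + j)) := by
  have key : ∀ (R L : List ℕ) (acc : ℕ), bF F ((L.foldl (fun acc i => acc ^^^ (prow N (brow N A i) B R <<< (i * N))) acc).testBit (i * N + j)) =
      bF F (acc.testBit (i * N + j)) + (L.map fun k => if k = i then bF F ((prow N (brow N A k) B R).testBit j) else 0).sum := by
    intro R L
    induction L with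
    | nil => intro acc; simp
    | cons k L ih =>
      intro acc
      rw [List.foldl_cons, ih, Nat.testBit_xor, bF_xor, testBit_shift hj (prow_lt _), List.map_cons, List.sum_cons, add_assoc]
      congr 2
      by_cases h : k = i
      · rw [if_pos h, decide_eq_true h.symm, Bool.true_and]
      · rw [if_neg h, decide_eq_false (fun h' => h h'.symm), Bool.false_and, bF_false]
  unfold pmul pmulL
  rw [key, sum_range_map, Finset.sum_ite_eq' (Finset.range N) i, if_pos (Finset.mem_range.mpr hi), testBit_prow hj, sum_range_map,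
    Nat.zero_testBit, bF_false, zero_add]
  apply Finset.sum_congr rfl
  intro k hk
  rw [Finset.mem_range] at hk
  rw [testBit_brow, decide_eq_true hk, Bool.true_and]

/-- the identity of size `R` in a matrix of width `N` -/
def idR (N R : ℕ) : ℕ := (List.range R).foldl (fun acc i => acc ^^^ (1 <<< (i * N + i))) 0

theorem testBit_idR {N R i j : ℕ} (hi : i < N) (hj : j < N) (hR : R ≤ N) :
    bF F ((idR N R).testBit (i * N + j)) = if i = j ∧ i < R then 1 else 0 := by
  have key : ∀ (L : List ℕ) (acc : ℕ), bF F ((L.foldl (fun acc i => acc ^^^ (1 <<< (i * N + i))) acc).testBit (i * N + j)) =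
      bF F (acc.testBit (i * N + j)) + (L.map fun k => if i * N + j = k * N + k then (1 : F) else 0).sum := by
    intro L
    induction L with
    | nil => intro acc; simp
    | cons k L ih =>
      intro acc
      rw [List.foldl_cons, ih, Nat.testBit_xor, bF_xor, List.map_cons, List.sum_cons, add_assoc]
      congr 2
      rw [Nat.one_shiftLeft, Nat.testBit_two_pow]
      by_cases h : i * N + j = k * N + k
      · rw [if_pos h, decide_eq_true h.symm, bF_true]
      · rw [if_neg h, decide_eq_false (fun h' => h h'.symm), bF_false]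
  unfold idR
  rw [key]
  simp only [Nat.zero_testBit, bF_false, zero_add]
  have h1 : ∀ k ∈ List.range R, (if i * N + j = k * N + k then (1 : F) else 0) = if k = i then (if i = j then 1 else 0) else 0 := by
    intro k hk
    rw [List.mem_range] at hk
    have h2 : (i * N + j = k * N + k) ↔ (k = i ∧ i = j) := by
      constructor
      · intro h
        rcases lt_trichotomy i k with h' | h' | h'
        · have : i * N + N ≤ k * N := by
            calc i * N + N = (i + 1) * N := by ring
              _ ≤ k * N := Nat.mul_le_mul_right _ h'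
          omega
        · subst h'; exact ⟨rfl, by omega⟩
        · have : k * N + N ≤ i * N := by
            calc k * N + N = (k + 1) * N := by ring
              _ ≤ i * N := Nat.mul_le_mul_right _ h'
          omega
      · rintro ⟨rfl, rfl⟩; rfl
    by_cases h : k = i
    · by_cases h' : i = j
      · rw [if_pos (h2.2 ⟨h, h'⟩), if_pos h, if_pos h']
      · rw [if_neg (fun hh => h' (h2.1 hh).2), if_pos h, if_neg h']
    · rw [if_neg (fun hh => h (h2.1 hh).1), if_neg h]
  rw [List.map_congr_left h1, sum_range_map, Finset.sum_ite_eq' (Finset.range R) i]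
  by_cases h3 : i < R
  · rw [if_pos (Finset.mem_range.mpr h3)]
    by_cases h4 : i = j
    · rw [if_pos h4, if_pos ⟨h4, h3⟩]
    · rw [if_neg h4, if_neg (fun h => h4 h.1)]
  · rw [if_neg (fun h => h3 (Finset.mem_range.mp h)), if_neg (fun h => h3 h.2)]

end general

variable {D : ChevalleyDatum} {F : Type*} [Field F] [CharP F 2]

theorem sum_pidx' {M : Type*} [AddCommMonoid M] (f : ℕ → M) :
    ∑ k ∈ Finset.range (D.rank + D.nroots), f k = ∑ i : D.Idx, f (pidx D i) := by
  classical
  symm
  apply Finset.sum_bij (fun (i : D.Idx) _ => pidx D i)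
  · intro i _; exact Finset.mem_range.2 (pidx_lt i)
  · intro i _ j _ h; exact pidx_inj h
  · intro k hk
    obtain ⟨i, hi⟩ := exists_pidx (Finset.mem_range.1 hk)
    exact ⟨i, Finset.mem_univ _, hi⟩
  · intro i _; rfl

theorem bmat_pmul (A B : ℕ) : bmat D F (pmul (D.rank + D.nroots) A B) = bmat D F A * bmat D F B := by
  ext i j
  rw [bmat, Matrix.of_apply, testBit_pmul (pidx_lt i) (pidx_lt j), Matrix.mul_apply, sum_pidx']
  rfl

theorem bmat_xor (A B : ℕ) : bmat D F (A ^^^ B) = bmat D F A + bmat D F B := by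
  ext i j
  rw [bmat, Matrix.of_apply, Nat.testBit_xor, bF_xor]
  rfl

theorem bmat_idR {R : ℕ} (hR : R ≤ D.rank + D.nroots) :
    bmat D F (idR (D.rank + D.nroots) R) = Matrix.diagonal fun i => if pidx D i < R then 1 else 0 := by
  ext i j
  rw [bmat, Matrix.of_apply, testBit_idR (pidx_lt i) (pidx_lt j) hR, Matrix.diagonal_apply]
  by_cases h : i = j
  · rw [if_pos h, h]; simp
  · rw [if_neg h, if_neg fun h' => h (pidx_inj h'.1)]

theorem rank_idR {R : ℕ} (hR : R ≤ D.rank + D.nroots) : (bmat D F (idR (D.rank + D.nroots) R)).rank = R := by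
  classical
  rw [bmat_idR hR, Matrix.rank_diagonal]
  have h1 : Fintype.card {i : D.Idx // (if pidx D i < R then (1 : F) else 0) ≠ 0} = (Finset.univ.filter fun i : D.Idx => pidx D i < R).card := by
    rw [Fintype.card_subtype]
    congr 1
    ext i
    simp
  have h0 : (Finset.range R).card = R := Finset.card_range R
  rw [h1]
  refine Eq.trans ?_ h0
  apply Finset.card_bij (fun i _ => pidx D i)
  · intro i hi
    simpa using hi
  · intro i _ j _ h; exact pidx_inj h
  · intro k hk
    rw [Finset.mem_range] at hk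
    obtain ⟨i, hi⟩ := exists_pidx (D := D) (lt_of_lt_of_le hk hR)
    exact ⟨i, by rw [Finset.mem_filter, hi]; exact ⟨Finset.mem_univ _, hk⟩, hi⟩

/-- check of a rank -/
def chkRank (D : ChevalleyDatum) (W : List ℕ) (R M P Q P' Q' : ℕ) : Bool :=
  W.all (zsane D) && decide (R ≤ D.rank + D.nroots) && (bword D W ^^^ idM (D.rank + D.nroots)) == M &&
  pmul (D.rank + D.nroots) (pmul (D.rank + D.nroots) P M) Q == idR (D.rank + D.nroots) R &&
  pmul (D.rank + D.nroots) (pmul (D.rank + D.nroots) P' (idR (D.rank + D.nroots) R)) Q' == M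

theorem rank_of_chk {W : List ℕ} {R M P Q P' Q' : ℕ} (h : chkRank D W R M P Q P' Q' = true) :
    (((W.map fun r => D.x F r 1).prod : Matrix D.Idx D.Idx F) - 1).rank = R := by
  unfold chkRank at h
  simp only [Bool.and_eq_true, decide_eq_true_eq, List.all_eq_true, beq_iff_eq] at h
  obtain ⟨⟨⟨⟨h1, h2⟩, h3⟩, h4⟩, h5⟩ := h
  have e1 : bmat D F M = (W.map fun r => D.x F r 1).prod - 1 := by
    rw [← h3, bmat_xor, bmat_bword h1, bmat_idM]
    ext i j
    rw [Matrix.add_apply, Matrix.sub_apply, CharTwo.sub_eq_add]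
  rw [← e1]
  apply le_antisymm
  · rw [← h5, bmat_pmul, bmat_pmul]
    refine le_trans (Matrix.rank_mul_le_left _ _) (le_trans (Matrix.rank_mul_le_right _ _) (le_of_eq (rank_idR h2)))
  · conv_lhs => rw [← rank_idR (D := D) (F := F) h2, ← h4, bmat_pmul, bmat_pmul]
    exact le_trans (Matrix.rank_mul_le_left _ _) (Matrix.rank_mul_le_right _ _)

omit [CharP F 2] in
theorem rank_conj {a b : GL D.Idx F} (h : Eqv D F a b) : ((b : Matrix D.Idx D.Idx F) - 1).rank = ((a : Matrix D.Idx D.Idx F) - 1).rank := by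
  obtain ⟨g, hg, rfl⟩ := h
  have e : ((g * a * g⁻¹ : GL D.Idx F) : Matrix D.Idx D.Idx F) - 1 = (g : Matrix D.Idx D.Idx F) * ((a : Matrix D.Idx D.Idx F) - 1) * ((g⁻¹ : GL D.Idx F) : Matrix D.Idx D.Idx F) := by
    have e0 : (g : Matrix D.Idx D.Idx F) * ((g⁻¹ : GL D.Idx F) : Matrix D.Idx D.Idx F) = 1 := by
      rw [← Units.val_mul, mul_inv_cancel, Units.val_one]
    rw [Units.val_mul, Units.val_mul, mul_sub, sub_mul, mul_one, e0]
  rw [e, Matrix.rank_mul_eq_left_of_isUnit_det, Matrix.rank_mul_eq_right_of_isUnit_det]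
  · rw [← Matrix.isUnit_iff_isUnit_det]; exact g.isUnit
  · rw [← Matrix.isUnit_iff_isUnit_det]; exact g⁻¹.isUnit

/-! ### the classes -/

/-- check of a node against a representative -/
def chkAssoc (D : ChevalleyDatum) (a : List ℕ × List ℕ × List ℕ × List ℕ) : Bool :=
  chkWord D (a.2.2.1 ++ a.2.2.2.map (wact D a.2.1)) (a.1 ++ a.2.2.1) && (a.2.1.all fun i => decide (i < D.rank)) &&
  (a.2.2.1.all fun i => decide (i < D.nroots)) && (a.2.2.2.all fun i => decide (i < D.nroots))

theorem eqv_of_assoc (H : Good D) {a : List ℕ × List ℕ × List ℕ × List ℕ} (h : chkAssoc D a = true) :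
    Eqv D F (tL H F a.2.2.2) (tL H F a.1) := by
  unfold chkAssoc at h
  simp only [Bool.and_eq_true, decide_eq_true_eq, List.all_eq_true] at h
  obtain ⟨⟨⟨h1, h2⟩, h3⟩, h4⟩ := h
  exact (eqv_wact H h2 h4).trans (eqv_of_chk H h3 h1)

section classes
variable [Fintype F] (H : Good D) (E : DData D)

/-- data for the classes of involutions -/
structure ClassData (H : Good D) (F : Type*) [Field F] (Rs : List (List ℕ)) (rk : List ℕ → ℕ) : Prop where
  lt : ∀ L ∈ Rs, ∀ r ∈ L, r < D.nroots
  orth : ∀ L ∈ Rs, L.Pairwise (Orth D)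
  rank : ∀ L ∈ Rs, (((L.map fun r => D.x F r 1).prod : Matrix D.Idx D.Idx F) - 1).rank = rk L
  pos : ∀ L ∈ Rs, 0 < rk L
  inj : ∀ L ∈ Rs, ∀ L' ∈ Rs, rk L = rk L' → L = L'
  all : ∀ t ∈ D.group F, t * t = 1 → t ≠ 1 → ∃ L ∈ Rs, Eqv D F t (tL H F L)

variable {Rs : List (List ℕ)} {rk : List ℕ → ℕ}

include H in
theorem ClassData.one (hc : chkOC D = true) (C : ClassData H F Rs rk) :
    ∀ y : GL D.Idx F, (y : Matrix D.Idx D.Idx F) ∈ (Rs.map fun L => (L.map fun r => D.x F r 1).prod) → y ∈ D.group F ∧ orderOf y = 2 := by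
  intro y hy
  rw [List.mem_map] at hy
  obtain ⟨L, hL, hy⟩ := hy
  have e : y = tL H F L := by apply Units.ext; rw [← hy, tL_coe]
  subst e
  refine ⟨tL_mem H (C.lt L hL), ?_⟩
  apply orderOf_eq_prime
  · rw [pow_two]; exact tL_sq H hc (C.lt L hL) (C.orth L hL)
  · intro h1
    have h2 := C.rank L hL
    rw [hy, h1, Units.val_one, sub_self, Matrix.rank_zero] at h2
    exact absurd h2 (C.pos L hL).ne

include H in
theorem ClassData.two (C : ClassData H F Rs rk) :
    ∀ g ∈ D.group F, orderOf g = 2 → ∃ y ∈ D.group F, (y : Matrix D.Idx D.Idx F) ∈ (Rs.map fun L => (L.map fun r => D.x F r 1).prod) ∧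
      ∃ h ∈ D.group F, h * g * h⁻¹ = y := by
  intro g hg h2
  have h3 : g * g = 1 := by rw [← pow_two, ← h2]; exact pow_orderOf_eq_one g
  have h4 : g ≠ 1 := by rintro rfl; rw [orderOf_one] at h2; omega
  obtain ⟨L, hL, h5⟩ := C.all g hg h3 h4
  exact ⟨tL H F L, tL_mem H (C.lt L hL), List.mem_map.2 ⟨L, hL, (tL_coe H L).symm⟩, h5⟩

include H in
theorem ClassData.three (C : ClassData H F Rs rk) :
    ∀ y₁ ∈ D.group F, ∀ y₂ ∈ D.group F, (y₁ : Matrix D.Idx D.Idx F) ∈ (Rs.map fun L => (L.map fun r => D.x F r 1).prod) →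
      (y₂ : Matrix D.Idx D.Idx F) ∈ (Rs.map fun L => (L.map fun r => D.x F r 1).prod) →
      (∃ h ∈ D.group F, h * y₁ * h⁻¹ = y₂) → (y₁ : Matrix D.Idx D.Idx F) = y₂ := by
  intro y₁ _ y₂ _ h1 h2 h3
  rw [List.mem_map] at h1 h2
  obtain ⟨L1, hL1, e1⟩ := h1
  obtain ⟨L2, hL2, e2⟩ := h2
  have h4 := rank_conj h3
  rw [← e1, ← e2, C.rank L1 hL1, C.rank L2 hL2] at h4
  rw [← e1, ← e2, C.inj L2 hL2 L1 hL1 h4]

include H in
theorem ClassData.ncard (hc : chkOC D = true) (C : ClassData H F Rs rk) (hnd : Rs.Nodup) :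
    (ConjClasses.mk '' {g : ↥(D.group F) | orderOf g = 2}).ncard = Rs.length := by
  classical
  have hmem : ∀ L ∈ Rs, tL H F L ∈ D.group F := fun L hL => tL_mem H (C.lt L hL)
  have hcoe : ∀ L ∈ Rs, ((tL H F L : GL D.Idx F) : Matrix D.Idx D.Idx F) ∈ (Rs.map fun L => (L.map fun r => D.x F r 1).prod) :=
    fun L hL => List.mem_map.2 ⟨L, hL, (tL_coe H L).symm⟩
  let f : {L // L ∈ Rs} → ConjClasses ↥(D.group F) := fun L => ConjClasses.mk ⟨tL H F L.1, hmem L.1 L.2⟩
  have hf : Function.Injective f := by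
    rintro ⟨L1, h1⟩ ⟨L2, h2⟩ h
    have h3 : IsConj (⟨tL H F L1, hmem L1 h1⟩ : ↥(D.group F)) ⟨tL H F L2, hmem L2 h2⟩ := ConjClasses.mk_eq_mk_iff_isConj.1 h
    rw [isConj_iff] at h3
    obtain ⟨c, hc'⟩ := h3
    have h4 := rank_conj (D := D) (F := F) (a := tL H F L1) (b := tL H F L2) ⟨c, c.2, congrArg Subtype.val hc'⟩
    rw [tL_coe, tL_coe, C.rank L1 h1, C.rank L2 h2] at h4
    exact Subtype.ext (C.inj L1 h1 L2 h2 h4.symm)
  have himg : ConjClasses.mk '' {g : ↥(D.group F) | orderOf g = 2} = Set.range f := by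
    ext c
    constructor
    · rintro ⟨g, hg, rfl⟩
      have hg' : orderOf (g : GL D.Idx F) = 2 := by rw [Subgroup.orderOf_coe]; exact hg
      have h3 : (g : GL D.Idx F) * g = 1 := by rw [← pow_two, ← hg']; exact pow_orderOf_eq_one _
      have h4 : (g : GL D.Idx F) ≠ 1 := by intro h; rw [h, orderOf_one] at hg'; omega
      obtain ⟨L, hL, k, hk, hk'⟩ := C.all g g.2 h3 h4
      refine ⟨⟨L, hL⟩, ?_⟩
      symm
      apply ConjClasses.mk_eq_mk_iff_isConj.2
      rw [isConj_iff]
      exact ⟨⟨k, hk⟩, Subtype.ext hk'⟩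
    · rintro ⟨⟨L, hL⟩, rfl⟩
      refine ⟨⟨tL H F L, hmem L hL⟩, ?_, rfl⟩
      show orderOf _ = 2
      rw [← Subgroup.orderOf_coe]
      exact (C.one H hc _ (hcoe L hL)).2
  rw [himg, ← Set.image_univ, Set.ncard_image_of_injective _ hf, Set.ncard_univ]
  rw [Nat.card_congr (Equiv.subtypeEquivRight (p := fun L => L ∈ Rs) (q := fun L => L ∈ Rs.toFinset) (fun L => List.mem_toFinset.symm))]
  rw [Nat.card_eq_fintype_card, Fintype.card_coe, List.toFinset_card_of_nodup hnd]

end classes

end Cfsg.Agent.ChevU
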