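import Cfsg.Agent.ChevU.BRank

set_option autoImplicit false
set_option linter.unusedSectionVars false
set_option linter.unusedVariables false

/-!
# Cheaper rank certificates, and fast versions of the checks (helper17)
-/

namespace Cfsg.Agent.ChevU

open Cfsg.Lie Cfsg.Agent.Chev Cfsg.Agent.ChevGrp Cfsg.Agent.ChevWeyl Matrix

section rows
variable {F : Type*} [Field F] [CharP F 2]

/-- combination of the rows of a list; the coefficients are the bits of `a` from position `k` on -/
def prowL (L : List ℕ) : ℕ → ℕ → ℕ → ℕ :=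
  List.rec (fun _ _ r => r) (fun b _ ih a k r => ih a (Nat.succ k) (Nat.xor r (Nat.mul (Nat.mod (Nat.shiftRight a k) 2) b))) L

theorem prowL_cons (b : ℕ) (L : List ℕ) (a k r : ℕ) : prowL (b :: L) a k r = prowL L a (k + 1) (r ^^^ (((a >>> k) % 2) * b)) := rfl

theorem testBit_prowL (L : List ℕ) (a r j : ℕ) : ∀ k : ℕ, ∀ r : ℕ,
    bF F ((prowL L a k r).testBit j) = bF F (r.testBit j) + ∑ i ∈ Finset.range L.length, bF F (a.testBit (k + i)) * bF F ((L.getD i 0).testBit j) := by
  induction L with
  | nil => intro k r; show bF F (r.testBit j) = _; simp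
  | cons b L ih =>
    intro k r
    rw [prowL_cons, ih, List.length_cons, Finset.sum_range_succ', Nat.testBit_xor, bF_xor, add_assoc]
    congr 1
    rw [add_comm]
    congr 1
    · apply Finset.sum_congr rfl
      intro i _
      rw [List.getD_cons_succ, show k + 1 + i = k + (i + 1) by ring]
    · have hk : a.testBit k = decide ((a >>> k) % 2 = 1) := by
        rw [Nat.testBit_eq_decide_div_mod_eq, Nat.shiftRight_eq_div_pow]
      rw [List.getD_cons_zero, Nat.add_zero, hk]
      rcases Nat.mod_two_eq_zero_or_one (a >>> k) with h | h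
      · rw [h]; simp
      · rw [h]; simp

/-- product of lists of rows; the rows of the first factor are salted by 64 bits -/
def mulEqL (B : List ℕ) : List ℕ → List ℕ → Bool
  | [], [] => true
  | a :: A, c :: C => Nat.beq (prowL B a 64 0) c && mulEqL B A C
  | _, _ => false

theorem mulEqL_getD {B : List ℕ} : ∀ {A C : List ℕ}, mulEqL B A C = true → ∀ k, prowL B (A.getD k 0) 64 0 = C.getD k 0
  | [], [], _, k => by
    have key : ∀ (B : List ℕ) (k : ℕ), prowL B 0 k 0 = 0 := by
      intro B
      induction B with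
      | nil => intro k; rfl
      | cons b B ih =>
        intro k
        rw [prowL_cons]
        simpa using ih (k + 1)
    simpa using key B 64
  | a :: A, c :: C, h, k => by
    unfold mulEqL at h
    rw [Bool.and_eq_true] at h
    rcases k with _ | k
    · exact Nat.eq_of_beq_eq_true h.1
    · rw [List.getD_cons_succ, List.getD_cons_succ]
      exact mulEqL_getD h.2 k
  | [], _ :: _, h, _ => by simp [mulEqL] at h
  | _ :: _, [], h, _ => by simp [mulEqL] at h

/-- removing the salt -/
def unsalt : List ℕ → List ℕ → Bool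
  | [], [] => true
  | a :: A, c :: C => Nat.beq (Nat.shiftRight a 64) c && unsalt A C
  | _, _ => false

theorem unsalt_getD : ∀ {A C : List ℕ}, unsalt A C = true → ∀ k, (A.getD k 0) >>> 64 = C.getD k 0
  | [], [], _, k => by simp
  | a :: A, c :: C, h, k => by
    unfold unsalt at h
    rw [Bool.and_eq_true] at h
    rcases k with _ | k
    · exact Nat.eq_of_beq_eq_true h.1
    · rw [List.getD_cons_succ, List.getD_cons_succ]
      exact unsalt_getD h.2 k
  | [], _ :: _, h, _ => by simp [unsalt] at h
  | _ :: _, [], h, _ => by simp [unsalt] at h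

/-- sublist check -/
def subL : List ℕ → List ℕ → Bool
  | _, [] => false
  | [], _ => true
  | c :: C, m :: M => bif Nat.beq c m then (C.isEmpty || subL C M) else subL (c :: C) M

theorem subL_mem : ∀ {M C : List ℕ}, subL C M = true → ∀ c ∈ C, c ∈ M
  | [], C, h, _, _ => by cases C <;> simp [subL] at h
  | m :: M, [], _, c, hc => by simp at hc
  | m :: M, c :: C, h, x, hx => by
    unfold subL at h
    cases hb : Nat.beq c m with
    | true =>
      rw [hb, cond_true, Bool.or_eq_true] at h
      have h1 := Nat.eq_of_beq_eq_true hb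
      rw [List.mem_cons] at hx ⊢
      rcases hx with rfl | hx
      · exact Or.inl h1
      · rcases h with h | h
        · rw [List.isEmpty_iff] at h; subst h; simp at hx
        · exact Or.inr (subL_mem h x hx)
    | false =>
      rw [hb, cond_false] at h
      exact List.mem_cons_of_mem _ (subL_mem h x hx)

/-- the rows of a packed matrix -/
def rowsEq (N : ℕ) : List ℕ → ℕ → Bool
  | [], _ => true
  | c :: C, M => Nat.beq (Nat.mod M (Nat.pow 2 N)) c && rowsEq N C (Nat.shiftRight M N)

theorem rowsEq_getD {N : ℕ} : ∀ {L : List ℕ} {M : ℕ}, rowsEq N L M = true → ∀ k < L.length, brow N M k = L.getD k 0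
  | [], _, _, k, hk => by simp at hk
  | c :: C, M, h, k, hk => by
    unfold rowsEq at h
    rw [Bool.and_eq_true] at h
    rcases k with _ | k
    · have := Nat.eq_of_beq_eq_true h.1
      rw [List.getD_cons_zero, ← this]
      show (M >>> (0 * N)) % 2 ^ N = M % 2 ^ N
      rw [Nat.zero_mul, Nat.shiftRight_zero]
    · rw [List.getD_cons_succ, ← rowsEq_getD h.2 k (by simpa using hk)]
      show (M >>> ((k + 1) * N)) % 2 ^ N = ((M >>> N) >>> (k * N)) % 2 ^ N
      rw [← Nat.shiftRight_add]
      congr 2
      ring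

end rows

variable {D : ChevalleyDatum} {F : Type*} [Field F] [CharP F 2]

/-- the matrix of a list of rows -/
def bmatL (D : ChevalleyDatum) (F : Type*) [Field F] (L : List ℕ) : Matrix D.Idx D.Idx F :=
  Matrix.of fun i j => bF F ((L.getD (pidx D i) 0).testBit (pidx D j))

/-- the matrix of a salted list of rows -/
def bmatS (D : ChevalleyDatum) (F : Type*) [Field F] (L : List ℕ) : Matrix D.Idx D.Idx F :=
  Matrix.of fun i j => bF F ((L.getD (pidx D i) 0).testBit (64 + pidx D j))

theorem bmatS_of_unsalt {A C : List ℕ} (h : unsalt A C = true) : bmatS D F A = bmatL D F C := by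
  ext i j
  rw [bmatS, bmatL, Matrix.of_apply, Matrix.of_apply, ← unsalt_getD h, Nat.testBit_shiftRight]

theorem bmatL_mul {A B C : List ℕ} (h : mulEqL B A C = true) (hB : B.length ≤ D.rank + D.nroots) :
    bmatL D F C = bmatS D F A * bmatL D F B := by
  ext i j
  rw [bmatL, Matrix.of_apply, ← mulEqL_getD h, testBit_prowL _ _ 0, Matrix.mul_apply, Nat.zero_testBit, bF_false, zero_add]
  simp only [bmatL, bmatS, Matrix.of_apply]
  rw [← sum_pidx' (D := D) (fun k => bF F ((A.getD (pidx D i) 0).testBit (64 + k)) * bF F ((B.getD k 0).testBit (pidx D j)))]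
  apply Finset.sum_subset
  · intro k hk
    rw [Finset.mem_range] at hk ⊢
    omega
  · intro k _ hk
    rw [Finset.mem_range, not_lt] at hk
    rw [List.getD_eq_default _ _ hk]
    simp

theorem exists_mul_of_mem {A B : List ℕ} (h : ∀ a ∈ A, a ∈ B) (hB : B.length ≤ D.rank + D.nroots) :
    ∃ P : Matrix D.Idx D.Idx F, bmatL D F A = P * bmatL D F B := by
  classical
  have key : ∀ i : D.Idx, pidx D i < A.length → ∃ j : D.Idx, B.getD (pidx D j) 0 = A.getD (pidx D i) 0 := by
    intro i hi
    have h1 : A.getD (pidx D i) 0 ∈ A := by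
      rw [List.getD_eq_getElem _ _ hi]; exact List.getElem_mem hi
    obtain ⟨k, hk, e⟩ := List.getElem_of_mem (h _ h1)
    obtain ⟨j, hj⟩ := exists_pidx (D := D) (lt_of_lt_of_le hk hB)
    refine ⟨j, ?_⟩
    rw [hj, List.getD_eq_getElem _ _ hk, e]
  choose f hf using key
  refine ⟨Matrix.of fun i j => if h : pidx D i < A.length then (if j = f i h then 1 else 0) else 0, ?_⟩
  ext i j
  rw [Matrix.mul_apply]
  by_cases h : pidx D i < A.length
  · simp only [Matrix.of_apply, dif_pos h, ite_mul, one_mul, zero_mul, Finset.sum_ite_eq', Finset.mem_univ, if_true]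
    simp only [bmatL, Matrix.of_apply]
    rw [hf i h]
  · simp only [Matrix.of_apply, dif_neg h, zero_mul, Finset.sum_const_zero]
    rw [bmatL, Matrix.of_apply, List.getD_eq_default _ _ (not_lt.1 h), Nat.zero_testBit, bF_false]

theorem bmatL_of_rows {M : ℕ} {L : List ℕ} (h : rowsEq (D.rank + D.nroots) L M = true) (hL : L.length = D.rank + D.nroots) :
    bmatL D F L = bmat D F M := by
  ext i j
  rw [bmatL, bmat, Matrix.of_apply, Matrix.of_apply, ← rowsEq_getD h _ (by rw [hL]; exact pidx_lt i), testBit_brow,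
    decide_eq_true (pidx_lt j), Bool.true_and]

/-- one-hot rows -/
def idL (R : ℕ) : List ℕ := (List.range R).map fun k => 2 ^ k

theorem rank_idL {R : ℕ} (hR : R ≤ D.rank + D.nroots) : (bmatL D F (idL R)).rank = R := by
  have h : bmatL D F (idL R) = bmat D F (idR (D.rank + D.nroots) R) := by
    rw [bmat_idR hR]
    ext i j
    rw [bmatL, Matrix.of_apply, Matrix.diagonal_apply]
    unfold idL
    by_cases h1 : pidx D i < R
    · rw [List.getD_eq_getElem _ _ (by simpa using h1), List.getElem_map, List.getElem_range, Nat.testBit_two_pow]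
      by_cases h2 : i = j
      · rw [h2, decide_eq_true rfl, if_pos rfl, if_pos (h2 ▸ h1), bF_true]
      · rw [decide_eq_false (fun h => h2 (pidx_inj h)), if_neg h2, bF_false]
    · rw [List.getD_eq_default _ _ (by simpa using h1), Nat.zero_testBit, if_neg h1, bF_false]
      split_ifs <;> rfl
  rw [h, rank_idR hR]

/-- cheap check of a rank: `ML` rows of `t-1`, `MS` some of the rows, `MS·Q = 1_R`, `ML = A·MS` -/
def chkRankL (D : ChevalleyDatum) (W : List ℕ) (R : ℕ) (ML MS MSs Q A : List ℕ) : Bool :=
  W.all (zsane D) && Nat.ble R (D.rank + D.nroots) && Nat.beq ML.length (D.rank + D.nroots) && Nat.ble MS.length (D.rank + D.nroots) &&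
  Nat.ble Q.length (D.rank + D.nroots) &&
  rowsEq (D.rank + D.nroots) ML (bword D W ^^^ idM (D.rank + D.nroots)) &&
  subL MS ML && (unsalt MSs MS && mulEqL Q MSs (idL R)) && mulEqL MS A ML && Nat.ble MS.length R

theorem rank_of_chkL {W : List ℕ} {R : ℕ} {ML MS MSs Q A : List ℕ} (h : chkRankL D W R ML MS MSs Q A = true) :
    (((W.map fun r => D.x F r 1).prod : Matrix D.Idx D.Idx F) - 1).rank = R := by
  unfold chkRankL at h
  simp only [Bool.and_eq_true, List.all_eq_true] at h
  obtain ⟨⟨⟨⟨⟨⟨⟨⟨⟨h1, h2⟩, h3⟩, h4⟩, h5⟩, h6⟩, h7⟩, h8', h8⟩, h9⟩, h10⟩ := h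
  have h2 := Nat.le_of_ble_eq_true h2
  have h3 := Nat.eq_of_beq_eq_true h3
  have h4 := Nat.le_of_ble_eq_true h4
  have h5 := Nat.le_of_ble_eq_true h5
  have h10 := Nat.le_of_ble_eq_true h10
  have e1 : bmatL D F ML = (W.map fun r => D.x F r 1).prod - 1 := by
    rw [bmatL_of_rows h6 h3, bmat_xor, bmat_bword h1, bmat_idM]
    ext i j
    rw [Matrix.add_apply, Matrix.sub_apply, CharTwo.sub_eq_add]
  rw [← e1]
  apply le_antisymm
  · rw [bmatL_mul (D := D) (F := F) h9 h4]
    refine le_trans (Matrix.rank_mul_le_right _ _) ?_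
    -- `MS` has at most `R` rows
    have e2 : bmatL D F MS = bmatL D F (idL R) * bmatL D F MS := by
      ext i j
      rw [Matrix.mul_apply]
      have e3 : ∀ k : D.Idx, bmatL D F (idL R) i k = if i = k ∧ pidx D i < R then 1 else 0 := by
        intro k
        rw [bmatL, Matrix.of_apply]
        unfold idL
        by_cases h1 : pidx D i < R
        · rw [List.getD_eq_getElem _ _ (by simpa using h1), List.getElem_map, List.getElem_range, Nat.testBit_two_pow]
          by_cases h2 : i = k
          · rw [if_pos ⟨h2, h1⟩, h2, decide_eq_true rfl, bF_true]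
          · rw [decide_eq_false (fun h => h2 (pidx_inj h)), if_neg (fun h => h2 h.1), bF_false]
        · rw [List.getD_eq_default _ _ (by simpa using h1), Nat.zero_testBit, if_neg (fun h => h1 h.2), bF_false]
      simp only [e3]
      rw [Finset.sum_eq_single i]
      · by_cases h1 : pidx D i < R
        · rw [if_pos ⟨rfl, h1⟩, one_mul]
        · rw [if_neg (fun h => h1 h.2), zero_mul, bmatL, Matrix.of_apply, List.getD_eq_default _ _ (by omega), Nat.zero_testBit, bF_false]
      · intro k _ hk
        rw [if_neg (fun h => hk h.1.symm), zero_mul]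
      · intro h; exact absurd (Finset.mem_univ _) h
    rw [e2]
    exact le_trans (Matrix.rank_mul_le_left _ _) (le_of_eq (rank_idL h2))
  · obtain ⟨P, hP⟩ := exists_mul_of_mem (D := D) (F := F) (subL_mem h7) (le_of_eq h3)
    conv_lhs => rw [← rank_idL (D := D) (F := F) h2, bmatL_mul (D := D) (F := F) h8 h5, bmatS_of_unsalt h8', hP]
    exact le_trans (Matrix.rank_mul_le_left _ _) (Matrix.rank_mul_le_right _ _)

/-! ### fast versions of the combinatorial checks -/

theorem zeq_self (a : ℤ) : zeq a a = true := by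
  cases a <;> simp [zeq]

theorem zeq_eq {a b : ℤ} : zeq a b = decide (a = b) := by
  by_cases h : a = b
  · rw [h, zeq_self]; simp
  · rw [decide_eq_false h]
    rw [← Bool.not_eq_true]
    exact fun h' => h (zeq_iff h')

/-- fast pairing -/
def prF (D : ChevalleyDatum) (r s : ℕ) : ℤ := sumN D.rank fun j => ccF D r j * cartF D j s

theorem prF_eq (H : Fast D) {r s : ℕ} (hr : r < D.nroots) (hs : s < D.nroots) : prF D r s = pr D r s := by
  unfold prF pr
  rw [sumN_eq]
  apply Finset.sum_congr rfl
  intro j hj
  rw [Finset.mem_range] at hj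
  rw [H.ccE r hr j hj, H.cart j hj s hs]

/-- fast orthogonality -/
def orthF (D : ChevalleyDatum) (r s : ℕ) : Bool := zeq (prF D r s) 0 && zeq (prF D s r) 0

theorem orthF_eq (H : Fast D) {r s : ℕ} (hr : r < D.nroots) (hs : s < D.nroots) : orthF D r s = decide (Orth D r s) := by
  unfold orthF
  rw [prF_eq H hr hs, prF_eq H hs hr, zeq_eq, zeq_eq, Bool.eq_iff_iff, Bool.and_eq_true, decide_eq_true_iff, decide_eq_true_iff,
    decide_eq_true_iff]
  exact Iff.rfl

/-- all members orthogonal to `s` -/
def allOrthF (D : ChevalleyDatum) (L : List ℕ) (s : ℕ) : Bool := L.all fun f => orthF D f s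

theorem allOrthF_eq (H : Fast D) {L : List ℕ} (hL : ∀ r ∈ L, r < D.nroots) {s : ℕ} (hs : s < D.nroots) :
    allOrthF D L s = allOrth D L s := by
  unfold allOrthF allOrth
  rw [Bool.eq_iff_iff, List.all_eq_true, List.all_eq_true]
  constructor
  · intro h f hf; rw [← orthF_eq H (hL f hf) hs]; exact h f hf
  · intro h f hf; rw [orthF_eq H (hL f hf) hs]; exact h f hf

/-- fast raising -/
def raiseF (D : ChevalleyDatum) (J : List ℕ) : ℕ → ℕ → ℕ
  | 0, r => r
  | n + 1, r => match J.find? (fun i => !znn (cartF D i r)) with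
    | none => r
    | some i => fz (wv (wP D i) r) fun r' => raiseF D J n r'

theorem znn_eq (a : ℤ) : (!znn a) = decide (a < 0) := by
  cases a with
  | ofNat m => simp [znn]
  | negSucc m => simp [znn, Int.negSucc_lt_zero]

theorem raiseF_eq (H : Fast D) {J : List ℕ} (hJ : ∀ i ∈ J, i < D.rank) (n : ℕ) : ∀ {r : ℕ}, r < D.nroots → raiseF D J n r = raise D J n r := by
  induction n with
  | zero => intro r hr; rfl
  | succ n ih =>
    intro r hr
    unfold raiseF raise
    have h1 : J.find? (fun i => !znn (cartF D i r)) = J.find? (fun i => decide (D.cartan i r < 0)) := by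
      have : ∀ L : List ℕ, (∀ i ∈ L, i < D.rank) → L.find? (fun i => !znn (cartF D i r)) = L.find? (fun i => decide (D.cartan i r < 0)) := by
        intro L
        induction L with
        | nil => intro _; rfl
        | cons i L ihL =>
          intro hL
          rw [List.find?_cons, List.find?_cons, ihL fun j hj => hL j (List.mem_cons_of_mem _ hj), znn_eq, H.cart i (hL i List.mem_cons_self) r hr]
      exact this J hJ
    rw [h1]
    cases hi : J.find? (fun i => decide (D.cartan i r < 0)) with
    | none => rfl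
    | some i =>
      have h2 : i < D.rank := hJ i (List.mem_of_find?_eq_some hi)
      show fz (wv (wP D i) r) (fun r' => raiseF D J n r') = raise D J n (D.reflectRoot i r)
      rw [fz_eq, H.wv_eq i h2 r hr]
      exact ih (H.w_lt i h2 r hr)

/-- fast stabilizer -/
def JofF (D : ChevalleyDatum) (L : List ℕ) : List ℕ := (List.range D.rank).filter fun i => L.all fun f => zeq (cartF D i f) 0

theorem JofF_eq (H : Fast D) {L : List ℕ} (hL : ∀ r ∈ L, r < D.nroots) : JofF D L = Jof D L := by
  unfold JofF Jof
  apply List.filter_congr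
  intro i hi
  rw [List.mem_range] at hi
  rw [Bool.eq_iff_iff, List.all_eq_true, List.all_eq_true]
  constructor
  · intro h f hf
    have := h f hf
    rw [zeq_eq, H.cart i hi f (hL f hf)] at this
    exact this
  · intro h f hf
    rw [zeq_eq, H.cart i hi f (hL f hf)]
    exact h f hf

/-- fast check of a node -/
def chkNodeF (D : ChevalleyDatum) (nodes : List (List ℕ)) (leafs : List (List ℕ × List ℕ × List ℕ)) (L : List ℕ) : Bool :=
  (L.all fun r => Nat.blt r D.nroots) &&
  allN D.nroots fun r => !(allOrthF D L r) || (fz (raiseF D (JofF D L) D.nroots r) fun c =>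
    (nodes.contains (L ++ [c]) || leafs.any fun l => l.1 == L ++ [c]))

theorem chkNode_of_fast (H : Fast D) {nodes : List (List ℕ)} {leafs : List (List ℕ × List ℕ × List ℕ)} {L : List ℕ}
    (h : chkNodeF D nodes leafs L = true) : chkNode D nodes leafs L = true := by
  unfold chkNodeF at h
  unfold chkNode
  rw [Bool.and_eq_true, List.all_eq_true, allN_iff] at h
  rw [Bool.and_eq_true, List.all_eq_true, List.all_eq_true]
  have hL : ∀ r ∈ L, r < D.nroots := fun r hr => blt_lt (h.1 r hr)
  have hJ : ∀ i ∈ JofF D L, i < D.rank := fun i hi => by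
    unfold JofF at hi
    rw [List.mem_filter, List.mem_range] at hi
    exact hi.1
  refine ⟨fun r hr => decide_eq_true (hL r hr), fun r hr => ?_⟩
  rw [List.mem_range] at hr
  have := h.2 r hr
  rw [fz_eq, raiseF_eq H hJ _ hr, allOrthF_eq H hL hr, JofF_eq H hL] at this
  exact this

/-- fast pairwise orthogonality -/
def chkLeafF (D : ChevalleyDatum) (l : List ℕ × List ℕ × List ℕ) : Bool :=
  (l.1.all fun r => Nat.blt r D.nroots) && (l.2.1.all fun r => Nat.blt r D.nroots) && (l.2.2.all fun r => Nat.blt r D.nroots) &&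
  chkWord D (l.2.1 ++ l.1) (l.2.2 ++ l.2.1) && Nat.blt l.2.2.length l.1.length && pwOrth D l.2.2 &&
  allN D.nroots fun s => !(allOrthF D l.1 s) || (allOrthF D l.2.1 s && allOrthF D l.2.2 s)

theorem chkLeaf_of_fast (H : Fast D) {l : List ℕ × List ℕ × List ℕ} (h : chkLeafF D l = true) : chkLeaf D l = true := by
  unfold chkLeafF at h
  simp only [Bool.and_eq_true, List.all_eq_true, allN_iff] at h
  obtain ⟨⟨⟨⟨⟨⟨a1, a2⟩, a3⟩, a4⟩, a5⟩, a6⟩, a7⟩ := h
  unfold chkLeaf
  simp only [Bool.and_eq_true, List.all_eq_true, decide_eq_true_eq]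
  refine ⟨⟨⟨⟨⟨a4, blt_lt a5⟩, a6⟩, fun r hr => blt_lt (a2 r hr)⟩, fun r hr => blt_lt (a3 r hr)⟩, fun s hs => ?_⟩
  rw [List.mem_range] at hs
  have := a7 s hs
  rw [allOrthF_eq H (fun r hr => blt_lt (a1 r hr)) hs, allOrthF_eq H (fun r hr => blt_lt (a2 r hr)) hs,
    allOrthF_eq H (fun r hr => blt_lt (a3 r hr)) hs] at this
  exact this

/-- fast check that orthogonal roots have commuting root subgroups (simply laced types) -/
def chkOCF (D : ChevalleyDatum) : Bool :=
  allN D.nroots fun s => allN D.rank fun i => !zeq (cartF D i s) 0 || ((lookN D (D.simple i) s).isEmpty && (lookN D s (D.simple i)).isEmpty)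

theorem chkOC_of_fast (H : Fast D) (h : chkOCF D = true) : chkOC D = true := by
  unfold chkOCF at h
  unfold chkOC
  rw [List.all_eq_true]
  intro i hi
  rw [List.all_eq_true]
  intro s hs
  rw [List.mem_range] at hi hs
  rw [allN_iff] at h
  have h1 := h s hs
  rw [allN_iff] at h1
  have h2 := h1 i hi
  rw [zeq_eq, H.cart i hi s hs, H.toGood0.lookN_eq, H.toGood0.lookN_eq] at h2
  rw [Bool.or_eq_true] at h2 ⊢
  rcases h2 with h2 | h2
  · exact Or.inl h2
  · right
    rw [Bool.and_eq_true, List.isEmpty_iff, List.isEmpty_iff] at h2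
    have : D.commTerms (D.simple i) s = [] := by
      unfold ChevalleyDatum.commTerms ChevalleyDatum.chainRoot ChevalleyDatum.chainM
      rw [h2.1, h2.2]
      simp
    rw [this]
    rfl

end Cfsg.Agent.ChevU
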