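import Cfsg.Agent.ChevU.HighRoot
import Cfsg.Agent.ChevU.CentU
import Cfsg.Agent.ChevU.Over

set_option autoImplicit false
set_option linter.unusedSectionVars false
set_option linter.unusedVariables false

/-!
# Products of commuting root elements and their centralisers in characteristic two (helper17)
-/

namespace Cfsg.Agent.ChevU

open Cfsg.Lie Matrix Subgroup

variable {D : ChevalleyDatum} {F : Type*} [Field F] (R : RootFacts D) (G : Chev.Good D)

/-- product over a list of roots -/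
noncomputable def pl (L : List ℕ) (f : ℕ → F) : GL D.Idx F := (L.map fun r => xr R (elemOfGood G F) r (f r)).prod

theorem pl_nil (f : ℕ → F) : pl R G [] f = 1 := rfl
theorem pl_cons (a : ℕ) (L : List ℕ) (f : ℕ → F) : pl R G (a :: L) f = xr R (elemOfGood G F) a (f a) * pl R G L f := by simp [pl]
theorem pl_append (L L' : List ℕ) (f : ℕ → F) : pl R G (L ++ L') f = pl R G L f * pl R G L' f := by simp [pl]
theorem pl_congr {L : List ℕ} {f f' : ℕ → F} (h : ∀ r ∈ L, f r = f' r) : pl R G L f = pl R G L f' := by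
  unfold pl
  rw [List.map_congr_left fun r hr => by rw [h r hr]]

/-- all root elements of the list commute -/
def CommL (L : List ℕ) (f : ℕ → F) : Prop :=
  ∀ r ∈ L, ∀ s ∈ L, Commute (xr R (elemOfGood G F) r (f r)) (xr R (elemOfGood G F) s (f s))

theorem pl_perm {L L' : List ℕ} (h : L.Perm L') (f : ℕ → F) (hc : CommL R G L f) : pl R G L f = pl R G L' f := by
  unfold pl
  apply List.Perm.prod_eq' (h.map _)
  rw [List.pairwise_map]
  apply List.Pairwise.imp_of_mem (R := fun _ _ => True)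
  · intro a b ha hb _
    exact hc a ha b hb
  · exact List.pairwise_of_forall (fun _ _ => trivial)

theorem pl_filter (L : List ℕ) (f : ℕ → F) (p : ℕ → Bool) (h : ∀ r ∈ L, p r = false → f r = 0) :
    pl R G (L.filter p) f = pl R G L f := by
  induction L with
  | nil => rfl
  | cons a L ih =>
    have h' := ih fun r hr => h r (List.mem_cons_of_mem _ hr)
    by_cases ha : p a = true
    · rw [List.filter_cons_of_pos ha, pl_cons, pl_cons, h']
    · rw [List.filter_cons_of_neg ha, pl_cons, h a List.mem_cons_self (by simpa using ha), xr_zero, one_mul, h']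

/-- the product over a list in terms of the ordered product over all positive roots -/
theorem pl_eq_prodFrom {L : List ℕ} (hnd : L.Nodup) (hL : ∀ r ∈ L, R.half ≤ r ∧ r < D.nroots) {f : ℕ → F} (hc : CommL R G L f) :
    pl R G L f = prodFrom R.tab (elemOfGood G F) R.half R.half (fun r => if r ∈ L then f r else 0) := by
  classical
  have hn := R.n_eq
  have h1 : L.Perm ((List.range' R.half R.half).filter fun r => decide (r ∈ L)) := by
    rw [List.perm_ext_iff_of_nodup hnd ((List.nodup_range').filter _)]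
    intro a
    rw [List.mem_filter, List.mem_range'_1, decide_eq_true_iff]
    constructor
    · intro ha
      have := hL a ha
      exact ⟨⟨this.1, by omega⟩, ha⟩
    · rintro ⟨-, ha⟩; exact ha
  rw [pl_perm R G h1 f hc]
  have h2 : pl R G ((List.range' R.half R.half).filter fun r => decide (r ∈ L)) f =
      pl R G ((List.range' R.half R.half).filter fun r => decide (r ∈ L)) (fun r => if r ∈ L then f r else 0) := by
    apply pl_congr
    intro r hr
    rw [List.mem_filter, decide_eq_true_iff] at hr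
    rw [if_pos hr.2]
  rw [h2, pl_filter]
  · rfl
  · intro r _ hr
    rw [decide_eq_false_iff_not] at hr
    rw [if_neg hr]

theorem pl_coord {L L' : List ℕ} (hnd : L.Nodup) (hL : ∀ r ∈ L, R.half ≤ r ∧ r < D.nroots) (hnd' : L'.Nodup)
    (hL' : ∀ r ∈ L', R.half ≤ r ∧ r < D.nroots) {f f' : ℕ → F} (hc : CommL R G L f) (hc' : CommL R G L' f')
    (h : pl R G L f = pl R G L' f') : ∀ r, (if r ∈ L then f r else 0) = if r ∈ L' then f' r else 0 := by
  classical
  intro r
  by_cases h1 : R.half ≤ r ∧ r < D.nroots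
  · rw [pl_eq_prodFrom R G hnd hL hc, pl_eq_prodFrom R G hnd' hL' hc'] at h
    have h2 := prodFrom_injective R.tab (elemOfGood G F) R.half R.half le_rfl (by have := R.n_eq; omega) h r h1.1 h1.2
    exact h2
  · rw [if_neg fun h2 => h1 (hL r h2), if_neg fun h2 => h1 (hL' r h2)]

/-! ### commutators modulo two -/

/-- all terms with odd coefficient lie in `T` -/
def inM (D : ChevalleyDatum) (T : List ℕ) (r s : ℕ) : Bool := (D.commTerms r s).all fun c => c.2.1 % 2 == 0 || T.contains c.1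

variable [CharP F 2]

omit [CharP F 2] in
theorem even_cast [CharP F 2] {z : ℤ} (h : z % 2 = 0) : ((z : ℤ) : F) = 0 := by
  have h8 : ((z : ℤ) : F) = ((z % 2 : ℤ) : F) := by
    conv_lhs => rw [← Int.emod_add_mul_ediv z 2]
    push_cast
    rw [(CharTwo.two_eq_zero : (2 : F) = 0), zero_mul, add_zero]
  rw [h8, h]; simp

omit [CharP F 2] in
theorem odd_cast [CharP F 2] {z : ℤ} (h : z % 2 = 1) : ((z : ℤ) : F) = 1 := by
  have h8 : ((z : ℤ) : F) = ((z % 2 : ℤ) : F) := by
    conv_lhs => rw [← Int.emod_add_mul_ediv z 2]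
    push_cast
    rw [(CharTwo.two_eq_zero : (2 : F) = 0), zero_mul, add_zero]
  rw [h8, h]; simp

include R G in
theorem commWord_mem_clo {T : List ℕ} {r s : ℕ} (h : inM D T r s = true) (t u : F) :
    wu R.tab (elemOfGood G F) (D.commWord F r s t u) ∈ clo D F (· ∈ T) := by
  unfold inM at h
  rw [List.all_eq_true] at h
  apply wu_mem
  intro p hp
  unfold ChevalleyDatum.commWord at hp
  rw [List.mem_map] at hp
  obtain ⟨c, hc, rfl⟩ := hp
  have h1 := h c hc
  rw [Bool.or_eq_true, beq_iff_eq, List.contains_iff_mem] at h1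
  rcases h1 with h1 | h1
  · rw [even_cast h1, zero_mul, zero_mul]
    have : xu R.tab (elemOfGood G F) c.1 (0 : F) = 1 := xu_zero R.tab _ _
    rw [this]
    exact one_mem _
  · exact xr_mem_clo R (elemOfGood G F) (P := (· ∈ T)) h1 _

include R G in
theorem conj_mem_clo {T : List ℕ} {r s : ℕ} (hr : r < D.nroots) (hs : s < D.nroots) (hn : s ≠ D.neg r)
    (h : r = s ∨ inM D T r s = true) (t u : F) :
    (xr R (elemOfGood G F) r t)⁻¹ * xr R (elemOfGood G F) s u * xr R (elemOfGood G F) r t * (xr R (elemOfGood G F) s u)⁻¹ ∈ clo D F (· ∈ T) := by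
  by_cases hrs : r = s
  · subst hrs
    have : (xr R (elemOfGood G F) r t)⁻¹ * xr R (elemOfGood G F) r u * xr R (elemOfGood G F) r t * (xr R (elemOfGood G F) r u)⁻¹ = 1 := by
      rw [xr_inv, xr_inv, xr_add, xr_add, xr_add]
      have : -t + u + t + -u = 0 := by ring
      rw [this, xr_zero]
    rw [this]; exact one_mem _
  · have h' := h.resolve_left hrs
    have h1 := conj_xu R.tab (elemOfGood G F) hr hs (Ne.symm hrs) hn t u
    -- `x_r(t)⁻¹ x_s(u) x_r(t) = x_s(u) z` ; conjugate the other way round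
    have h2 := conj_xu R.tab (elemOfGood G F) hr hs (Ne.symm hrs) hn t (-u)
    have h3 : (xr R (elemOfGood G F) r t)⁻¹ * xr R (elemOfGood G F) s u * xr R (elemOfGood G F) r t * (xr R (elemOfGood G F) s u)⁻¹ =
        (wu R.tab (elemOfGood G F) (D.commWord F r s t (-u)))⁻¹ := by
      have h4 : (xr R (elemOfGood G F) r t)⁻¹ * xr R (elemOfGood G F) s u * xr R (elemOfGood G F) r t =
          ((xr R (elemOfGood G F) r t)⁻¹ * xr R (elemOfGood G F) s (-u) * xr R (elemOfGood G F) r t)⁻¹ := by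
        rw [← xr_inv R (elemOfGood G F) s u]; group
      rw [h4]
      have h5 : (xr R (elemOfGood G F) r t)⁻¹ * xr R (elemOfGood G F) s (-u) * xr R (elemOfGood G F) r t =
        xr R (elemOfGood G F) s (-u) * wu R.tab (elemOfGood G F) (D.commWord F r s t (-u)) := h2
      rw [h5, ← xr_inv R (elemOfGood G F) s u]; group
    rw [h3]
    exact inv_mem (commWord_mem_clo R G h' t (-u))

include R G in
theorem commute_of_inM {r s : ℕ} (hr : r < D.nroots) (hs : s < D.nroots) (hn : s ≠ D.neg r)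
    (h : r = s ∨ inM D [] r s = true) (t u : F) : Commute (xr R (elemOfGood G F) r t) (xr R (elemOfGood G F) s u) := by
  have h1 := conj_mem_clo R G (T := []) hr hs hn h t u
  have h2 : clo D F (· ∈ ([] : List ℕ)) = ⊥ := by
    rw [eq_bot_iff]
    apply clo_le R (elemOfGood G F)
    intro s hs; simp at hs
  rw [h2, mem_bot] at h1
  have h3 : xr R (elemOfGood G F) s u * xr R (elemOfGood G F) r t = xr R (elemOfGood G F) r t * xr R (elemOfGood G F) s u := by
    have := mul_inv_eq_one.1 h1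
    calc xr R (elemOfGood G F) s u * xr R (elemOfGood G F) r t = xr R (elemOfGood G F) r t * ((xr R (elemOfGood G F) r t)⁻¹ * xr R (elemOfGood G F) s u * xr R (elemOfGood G F) r t) := by group
      _ = _ := by rw [this]
  exact h3.symm

/-! ### support data -/

/-- the support `S` of an element, the list `T` of further roots of its conjugates under `U` -/
structure Supp (D : ChevalleyDatum) (S T : List ℕ) : Prop where
  nd : (S ++ T).Nodup
  pos : ∀ s ∈ S ++ T, D.IsPosRoot s
  com : ∀ r ∈ S ++ T, ∀ s ∈ S ++ T, r = s ∨ inM D [] r s = true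
  up : ∀ r, D.IsPosRoot r → ∀ s ∈ S ++ T, r = s ∨ inM D T r s = true

section supp

variable {S T : List ℕ} (Z : Supp D S T)

include R in
theorem pos_ne_neg {r s : ℕ} (hr : D.IsPosRoot r) (hs : D.IsPosRoot s) : s ≠ D.neg r := by
  have h1 := (R.pos_iff r hr.1).mp hr
  have h2 := (R.pos_iff s hs.1).mp hs
  have := R.n_eq
  rw [R.neg_eq r hr.1]
  have := hr.1
  omega

include R G Z in
theorem Supp.commute {r s : ℕ} (hr : r ∈ S ++ T) (hs : s ∈ S ++ T) (t u : F) :
    Commute (xr R (elemOfGood G F) r t) (xr R (elemOfGood G F) s u) :=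
  commute_of_inM R G (Z.pos r hr).1 (Z.pos s hs).1 (pos_ne_neg R (Z.pos r hr) (Z.pos s hs)) (Z.com r hr s hs) t u

include Z in
theorem Supp.commL {L : List ℕ} (hL : ∀ r ∈ L, r ∈ S ++ T) (f : ℕ → F) : CommL R G L f :=
  fun r hr s hs => Z.commute R G (hL r hr) (hL s hs) _ _

include R in
theorem Supp.half (Z : Supp D S T) {L : List ℕ} (hL : ∀ r ∈ L, r ∈ S ++ T) : ∀ r ∈ L, R.half ≤ r ∧ r < D.nroots := fun r hr =>
  ⟨(R.pos_iff r (Z.pos r (hL r hr)).1).mp (Z.pos r (hL r hr)), (Z.pos r (hL r hr)).1⟩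

include Z in
theorem pl_mul {L : List ℕ} (hL : ∀ r ∈ L, r ∈ S ++ T) (f g : ℕ → F) :
    pl R G L f * pl R G L g = pl R G L (fun r => f r + g r) := by
  induction L with
  | nil => simp [pl_nil]
  | cons a L ih =>
    have hL' : ∀ r ∈ L, r ∈ S ++ T := fun r hr => hL r (List.mem_cons_of_mem _ hr)
    rw [pl_cons, pl_cons, pl_cons, ← ih hL', ← xr_add]
    have h1 : Commute (pl R G L f) (xr R (elemOfGood G F) a (g a)) := by
      unfold pl
      apply Commute.list_prod_left
      intro x hx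
      rw [List.mem_map] at hx
      obtain ⟨s, hs, rfl⟩ := hx
      exact Z.commute R G (hL' s hs) (hL a List.mem_cons_self) _ _
    calc xr R (elemOfGood G F) a (f a) * pl R G L f * (xr R (elemOfGood G F) a (g a) * pl R G L g)
        = xr R (elemOfGood G F) a (f a) * (pl R G L f * xr R (elemOfGood G F) a (g a)) * pl R G L g := by group
      _ = _ := by rw [h1.eq]; group

theorem pl_zero (L : List ℕ) : pl R G L (fun _ => (0 : F)) = 1 := by
  induction L with
  | nil => rfl
  | cons a L ih => rw [pl_cons, ih, xr_zero, one_mul]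

include Z in
theorem pl_inv {L : List ℕ} (hL : ∀ r ∈ L, r ∈ S ++ T) (f : ℕ → F) : (pl R G L f)⁻¹ = pl R G L (fun r => - f r) := by
  rw [inv_eq_iff_mul_eq_one, pl_mul R G Z hL]
  have : (fun r => f r + -f r) = fun _ => (0 : F) := by funext r; ring
  rw [this, pl_zero]

theorem pl_mem_clo (L : List ℕ) (f : ℕ → F) : pl R G L f ∈ clo D F (· ∈ L) := by
  unfold pl
  apply Subgroup.list_prod_mem
  intro x hx
  rw [List.mem_map] at hx
  obtain ⟨r, hr, rfl⟩ := hx
  exact xr_mem_clo R (elemOfGood G F) (P := (· ∈ L)) hr _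

include Z in
theorem Supp.repr {L : List ℕ} (hL : ∀ r ∈ L, r ∈ S ++ T) (hnd : L.Nodup) {y : GL D.Idx F} (hy : y ∈ clo D F (· ∈ L)) :
    ∃ f : ℕ → F, y = pl R G L f := by
  classical
  unfold clo at hy
  induction hy using closure_induction with
  | mem x hx =>
    obtain ⟨s, t, hs, h2⟩ := hx
    rw [← eq_xu_iff R.tab (elemOfGood G F)] at h2
    subst h2
    refine ⟨fun r => if r = s then t else 0, ?_⟩
    have h3 : pl R G L (fun r => if r = s then t else 0) = pl R G (L.filter fun r => decide (r = s)) (fun r => if r = s then t else 0) := by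
      symm
      apply pl_filter
      intro r _ hr
      rw [decide_eq_false_iff_not] at hr
      rw [if_neg hr]
    have h4 : (L.filter fun r => decide (r = s)) = [s] := by
      have h5 : (L.filter fun r => decide (r = s)).Perm [s] := by
        rw [List.perm_ext_iff_of_nodup (hnd.filter _) (List.nodup_singleton s)]
        intro a
        rw [List.mem_filter, decide_eq_true_iff, List.mem_singleton]
        constructor
        · exact fun h => h.2
        · rintro rfl; exact ⟨hs, rfl⟩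
      exact List.perm_singleton.1 h5
    rw [h3, h4, pl_cons, pl_nil, mul_one, if_pos rfl]
  | one => exact ⟨fun _ => 0, (pl_zero R G L).symm⟩
  | mul x y _ _ hx hy =>
    obtain ⟨f, rfl⟩ := hx
    obtain ⟨g, rfl⟩ := hy
    exact ⟨_, pl_mul R G Z hL f g⟩
  | inv x _ hx =>
    obtain ⟨f, rfl⟩ := hx
    exact ⟨_, pl_inv R G Z hL f⟩

include Z R G in
theorem Supp.comm_clo {x y : GL D.Idx F} (hx : x ∈ clo D F (· ∈ S ++ T)) (hy : y ∈ clo D F (· ∈ S ++ T)) : x * y = y * x := by
  obtain ⟨f, rfl⟩ := Z.repr R G (fun r hr => hr) Z.nd hx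
  obtain ⟨g, rfl⟩ := Z.repr R G (fun r hr => hr) Z.nd hy
  rw [pl_mul R G Z (fun r hr => hr), pl_mul R G Z (fun r hr => hr)]
  congr 1
  funext r; ring

omit [CharP F 2] in
theorem clo_T_le : clo D F (· ∈ T) ≤ clo D F (· ∈ S ++ T) := clo_mono fun s hs => List.mem_append_right _ hs

include R G in
/-- the action of the unipotent group on the commutative group -/
theorem Supp.act (Z : Supp D S T) {b : GL D.Idx F} (hb : b ∈ D.posUnipotent F) {y : GL D.Idx F} (hy : y ∈ clo D F (· ∈ S ++ T)) :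
    b⁻¹ * y * b * y⁻¹ ∈ clo D F (· ∈ T) := by
  have key : ∀ r, D.IsPosRoot r → ∀ t : F, ∀ y ∈ clo D F (· ∈ S ++ T),
      (xr R (elemOfGood G F) r t)⁻¹ * y * xr R (elemOfGood G F) r t * y⁻¹ ∈ clo D F (· ∈ T) := by
    intro r hr t y hy
    unfold clo at hy
    induction hy using closure_induction with
    | mem x hx =>
      obtain ⟨s, u, hs, h2⟩ := hx
      rw [← eq_xu_iff R.tab (elemOfGood G F)] at h2
      subst h2
      exact conj_mem_clo R G hr.1 (Z.pos s hs).1 (pos_ne_neg R hr (Z.pos s hs)) (Z.up r hr s hs) t u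
    | one => rw [mul_one, inv_mul_cancel, one_mul, inv_one]; exact one_mem _
    | mul x y hx' hy' hx hy =>
      set b := xr R (elemOfGood G F) r t
      have h1 : b⁻¹ * (x * y) * b * (x * y)⁻¹ = (b⁻¹ * x * b * x⁻¹) * (x * (b⁻¹ * y * b * y⁻¹) * x⁻¹) := by group
      have h2 : x * (b⁻¹ * y * b * y⁻¹) = (b⁻¹ * y * b * y⁻¹) * x := Z.comm_clo R G hx' (clo_T_le hy)
      rw [h1, h2, mul_inv_cancel_right]
      exact mul_mem hx hy
    | inv x hx' hx =>
      set b := xr R (elemOfGood G F) r t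
      have h1 : b⁻¹ * x⁻¹ * b * x⁻¹⁻¹ = x⁻¹ * (b⁻¹ * x * b * x⁻¹)⁻¹ * x := by
        have h3 : (b⁻¹ * x * b * x⁻¹) * x = x * (b⁻¹ * x * b * x⁻¹) := Z.comm_clo R G (clo_T_le hx) hx'
        have h4 : b⁻¹ * x * b = (b⁻¹ * x * b * x⁻¹) * x := by group
        have h5 : b⁻¹ * x⁻¹ * b = (b⁻¹ * x * b)⁻¹ := by group
        rw [inv_inv, h5, h4, h3]
        group
      have h2 : x⁻¹ * (b⁻¹ * x * b * x⁻¹)⁻¹ = (b⁻¹ * x * b * x⁻¹)⁻¹ * x⁻¹ :=
        Z.comm_clo R G (inv_mem hx') (inv_mem (clo_T_le hx))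
      rw [h1, h2, inv_mul_cancel_right]
      exact inv_mem hx
  have key2 : ∀ b ∈ D.posUnipotent F, ∀ y ∈ clo D F (· ∈ S ++ T), b⁻¹ * y * b * y⁻¹ ∈ clo D F (· ∈ T) := by
    intro b hb
    rw [posUnipotent_eq_clo] at hb
    unfold clo at hb
    induction hb using closure_induction'' with
    | mem x hx =>
      obtain ⟨s, u, hs, h2⟩ := hx
      rw [← eq_xu_iff R.tab (elemOfGood G F)] at h2
      subst h2
      exact key s hs u
    | inv_mem x hx =>
      obtain ⟨s, u, hs, h2⟩ := hx
      rw [← eq_xu_iff R.tab (elemOfGood G F)] at h2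
      subst h2
      have := key s hs (-u)
      rw [← xr_inv] at this
      exact this
    | one => intro y _; rw [inv_one, one_mul, mul_one, mul_inv_cancel]; exact one_mem _
    | mul b c _ _ hb hc =>
      intro y hy
      have h1 := hb y hy
      have h2 : b⁻¹ * y * b ∈ clo D F (· ∈ S ++ T) := by
        have h3 := mul_mem (clo_T_le (S := S) h1) hy
        rwa [inv_mul_cancel_right] at h3
      have h3 := hc _ h2
      have h4 : (b * c)⁻¹ * y * (b * c) * y⁻¹ = (c⁻¹ * (b⁻¹ * y * b) * c * (b⁻¹ * y * b)⁻¹) * (b⁻¹ * y * b * y⁻¹) := by group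
      rw [h4]
      exact mul_mem h3 h1
  exact key2 b hb y hy

/-- an element with full support -/
def Full (S T : List ℕ) (y : GL D.Idx F) : Prop := ∃ f : ℕ → F, (∀ s ∈ S, f s ≠ 0) ∧ y = pl R G (S ++ T) f

include Z in
theorem Supp.full_mul {y z : GL D.Idx F} (hy : Full R G S T y) (hz : z ∈ clo D F (· ∈ T)) : Full R G S T (z * y) := by
  classical
  obtain ⟨f, hf, rfl⟩ := hy
  obtain ⟨g, rfl⟩ := Z.repr R G (L := T) (fun r hr => List.mem_append_right _ hr) (List.nodup_append.1 Z.nd).2.1 hz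
  have h1 : pl R G T g = pl R G (S ++ T) (fun r => if r ∈ S then 0 else g r) := by
    rw [pl_append]
    have h2 : pl R G S (fun r => if r ∈ S then 0 else g r) = 1 := by
      rw [← pl_zero R G S]
      apply pl_congr
      intro r hr
      rw [if_pos hr]
    rw [h2, one_mul]
    apply pl_congr
    intro r hr
    rw [if_neg]
    intro hs
    exact (List.nodup_append.1 Z.nd).2.2 r hs r hr rfl
  rw [h1, pl_mul R G Z fun r hr => hr]
  refine ⟨_, ?_, rfl⟩
  intro s hs
  rw [if_pos hs, zero_add]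
  exact hf s hs

include R G in
theorem hHom_conj' {h : GL D.Idx F} (hh : h ∈ D.diagonalSubgroup F) : ∃ χ : ℕ → Fˣ, ∀ r < D.nroots, ∀ t : F,
    h * xr R (elemOfGood G F) r t * h⁻¹ = xr R (elemOfGood G F) r ((χ r : F) * t) := by
  rw [diag_eq_range R G] at hh
  obtain ⟨c, rfl⟩ := hh
  exact ⟨fun r => ∏ i : Fin D.rank, c i ^ D.cartan i r, fun r hr t => hHom_conj R G c hr t⟩

theorem conj_pl {h : GL D.Idx F} {χ : ℕ → Fˣ} (hχ : ∀ r < D.nroots, ∀ t : F,
    h * xr R (elemOfGood G F) r t * h⁻¹ = xr R (elemOfGood G F) r ((χ r : F) * t)) {L : List ℕ} (hL : ∀ r ∈ L, r < D.nroots) (f : ℕ → F) :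
    h * pl R G L f * h⁻¹ = pl R G L (fun r => (χ r : F) * f r) := by
  induction L with
  | nil => simp [pl_nil]
  | cons a L ih =>
    rw [pl_cons, pl_cons, ← ih fun r hr => hL r (List.mem_cons_of_mem _ hr), ← hχ a (hL a List.mem_cons_self)]
    group

include R G in
theorem Supp.full_conj (Z : Supp D S T) {b : GL D.Idx F} (hb : b ∈ D.borelSubgroup F) {y : GL D.Idx F} (hy : Full R G S T y) :
    Full R G S T (b⁻¹ * y * b) := by
  have hH : D.diagonalSubgroup F ≤ normalizer (D.posUnipotent F : Set (GL D.Idx F)) := (borel_semidirect R G).1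
  obtain ⟨u, hu, h, hh, rfl⟩ := mem_sup_of_le_normalizer hH hb
  have hy' : y ∈ clo D F (· ∈ S ++ T) := by
    obtain ⟨f, _, rfl⟩ := hy
    exact pl_mem_clo R G _ f
  have h1 := Z.full_mul R G hy (Z.act R G hu hy')
  rw [inv_mul_cancel_right] at h1
  obtain ⟨f, hf, e⟩ := h1
  obtain ⟨χ, hχ⟩ := hHom_conj' R G (inv_mem hh)
  have h2 : (u * h)⁻¹ * y * (u * h) = h⁻¹ * (u⁻¹ * y * u) * h⁻¹⁻¹ := by group
  rw [h2, e, conj_pl R G hχ fun r hr => (Z.pos r hr).1]
  exact ⟨_, fun s hs => mul_ne_zero (Units.ne_zero _) (hf s hs), rfl⟩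

end supp

/-! ### the monomial part -/

section mono

variable (E : ChevGrp.DData D)

include E in
theorem xr_conj_act {m : GL D.Idx F} {u : Equiv.Perm (Fin D.nroots)} (hu : (ChevGrp.chev E G F).Act m u) (r : Fin D.nroots) (t : F) :
    ∃ c : F, m * xr R (elemOfGood G F) r t * m⁻¹ = xr R (elemOfGood G F) (u r : Fin D.nroots) c ∧ (t ≠ 0 → c ≠ 0) := by
  have h1 : xr R (elemOfGood G F) (r : ℕ) t ∈ (ChevGrp.chev E G F).X r := by
    rw [ChevGrp.chev_X, rootSubgroup_eq]; exact xr_mem_clo R _ (P := fun s => s = (r : ℕ)) rfl t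
  have h2 := hu.conj h1
  rw [ChevGrp.chev_X] at h2
  obtain ⟨c, hc⟩ := (ChevGrp.Inst.mem_rootSubgroup G.toGood2 (u r).2).1 h2
  refine ⟨c, Units.ext (by rw [hc]; rfl), ?_⟩
  rintro ht rfl
  have h3 : m * xr R (elemOfGood G F) r t * m⁻¹ = 1 := by
    apply Units.ext
    rw [hc]
    exact congrArg (fun g : GL D.Idx F => (g : Matrix D.Idx D.Idx F)) (ChevGrp.Inst.xU_zero G.toGood2 _)
  have h4 : xr R (elemOfGood G F) (r : ℕ) t = 1 := by
    have : xr R (elemOfGood G F) (r : ℕ) t = m⁻¹ * (m * xr R (elemOfGood G F) r t * m⁻¹) * m := by group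
    rw [this, h3]; group
  exact xr_ne_one R G r.2 ht h4

/-- a permutation of the roots as a function on numbers -/
def nf (u : Equiv.Perm (Fin D.nroots)) (r : ℕ) : ℕ := if h : r < D.nroots then (u ⟨r, h⟩ : Fin D.nroots) else r

omit [CharP F 2] in
theorem nf_lt (u : Equiv.Perm (Fin D.nroots)) {r : ℕ} (h : r < D.nroots) : nf u r < D.nroots := by
  unfold nf; rw [dif_pos h]; exact Fin.is_lt _

theorem nf_inv (u : Equiv.Perm (Fin D.nroots)) {r : ℕ} (h : r < D.nroots) : nf u⁻¹ (nf u r) = r := by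
  have h1 := nf_lt u h
  unfold nf at h1 ⊢
  rw [dif_pos h1]
  simp [dif_pos h]

theorem nf_fin (u : Equiv.Perm (Fin D.nroots)) (r : Fin D.nroots) : nf u r = (u r : Fin D.nroots) := by
  unfold nf; rw [dif_pos r.2]

include E R G in
theorem act_supp {S T S' T' : List ℕ} (Z : Supp D S T) (Z' : Supp D S' T') {m : GL D.Idx F} {u : Equiv.Perm (Fin D.nroots)}
    (hu : (ChevGrp.chev E G F).Act m u) {y y' : GL D.Idx F} (hy : Full R G S T y) (hy' : Full R G S' T' y')
    (h : m * y * m⁻¹ = y') : ∀ s ∈ S, nf u s ∈ S' ++ T' := by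
  classical
  obtain ⟨f, hf, rfl⟩ := hy
  obtain ⟨f', hf', rfl⟩ := hy'
  have hlt : ∀ r ∈ S ++ T, r < D.nroots := fun r hr => (Z.pos r hr).1
  -- images
  have him : ∀ r, ∃ c : F, r < D.nroots → (m * xr R (elemOfGood G F) r (f r) * m⁻¹ = xr R (elemOfGood G F) (nf u r) c ∧ (f r ≠ 0 → c ≠ 0)) := by
    intro r
    by_cases hr : r < D.nroots
    · obtain ⟨c, h1, h2⟩ := xr_conj_act R G E hu ⟨r, hr⟩ (f r)
      refine ⟨c, fun _ => ⟨?_, h2⟩⟩
      rw [h1]
      congr 1
      unfold nf; rw [dif_pos hr]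
    · exact ⟨0, fun h => absurd h hr⟩
  choose g hg using him
  set L := (S ++ T).filter fun r => decide (f r ≠ 0) with hL
  have hLsub : ∀ r ∈ L, r ∈ S ++ T := fun r hr => (List.mem_filter.1 hr).1
  have hLne : ∀ r ∈ L, f r ≠ 0 := fun r hr => of_decide_eq_true (List.mem_filter.1 hr).2
  have hLnd : L.Nodup := Z.nd.filter _
  have e1 : pl R G (S ++ T) f = pl R G L f := by
    symm
    apply pl_filter
    intro r _ hr
    rw [decide_eq_false_iff_not, not_not] at hr
    exact hr
  have hconj : ∀ M : List ℕ, (∀ r ∈ M, r < D.nroots) → m * pl R G M f * m⁻¹ = (M.map fun r => xr R (elemOfGood G F) (nf u r) (g r)).prod := by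
    intro M hM
    induction M with
    | nil => simp [pl_nil]
    | cons a M ih =>
      rw [pl_cons, List.map_cons, List.prod_cons, ← ih fun r hr => hM r (List.mem_cons_of_mem _ hr), ← (hg a (hM a List.mem_cons_self)).1]
      group
  set Lp := L.filter fun r => decide (R.half ≤ nf u r) with hLp
  set Ln := L.filter fun r => !decide (R.half ≤ nf u r) with hLn
  have hperm : L.Perm (Lp ++ Ln) := (List.filter_append_perm _ L).symm
  have hLpsub : ∀ r ∈ Lp, r ∈ L := fun r hr => (List.mem_filter.1 hr).1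
  have hLnsub : ∀ r ∈ Ln, r ∈ L := fun r hr => (List.mem_filter.1 hr).1
  have e2 : pl R G L f = pl R G Lp f * pl R G Ln f := by
    rw [← pl_append]
    exact pl_perm R G hperm f (Z.commL R G hLsub f)
  have hA : m * pl R G Lp f * m⁻¹ ∈ D.posUnipotent F := by
    rw [hconj Lp fun r hr => hlt r (hLsub r (hLpsub r hr)), posUnipotent_eq_clo]
    apply Subgroup.list_prod_mem
    intro x hx
    rw [List.mem_map] at hx
    obtain ⟨r, hr, rfl⟩ := hx
    have h1 := hlt r (hLsub r (hLpsub r hr))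
    refine xr_mem_clo R (elemOfGood G F) (P := D.IsPosRoot) ((R.pos_iff _ (nf_lt u h1)).mpr ?_) _
    exact of_decide_eq_true (List.mem_filter.1 hr).2
  have hB : m * pl R G Ln f * m⁻¹ ∈ D.negUnipotent F := by
    rw [hconj Ln fun r hr => hlt r (hLsub r (hLnsub r hr)), negUnipotent_eq_clo]
    apply Subgroup.list_prod_mem
    intro x hx
    rw [List.mem_map] at hx
    obtain ⟨r, hr, rfl⟩ := hx
    have h1 := hlt r (hLsub r (hLnsub r hr))
    refine xr_mem_clo R (elemOfGood G F) (P := D.IsNegRoot) ((R.neg_iff _ (nf_lt u h1)).mpr ?_) _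
    have h2 := (List.mem_filter.1 hr).2
    simp only [Bool.not_eq_true', decide_eq_false_iff_not, not_le] at h2
    exact h2
  have hy'U : pl R G (S' ++ T') f' ∈ D.posUnipotent F := by
    rw [posUnipotent_eq_clo]
    exact clo_mono (fun s hs => Z'.pos s hs) (pl_mem_clo R G _ f')
  have e3 : m * pl R G Lp f * m⁻¹ * (m * pl R G Ln f * m⁻¹) = pl R G (S' ++ T') f' := by
    rw [← h, e1, e2]; group
  have hB1 : m * pl R G Ln f * m⁻¹ = 1 := by
    have h1 : m * pl R G Ln f * m⁻¹ ∈ D.borelSubgroup F := by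
      have h2 : m * pl R G Ln f * m⁻¹ = (m * pl R G Lp f * m⁻¹)⁻¹ * pl R G (S' ++ T') f' := by rw [← e3]; group
      rw [h2]
      exact mem_sup_left (mul_mem (inv_mem hA) hy'U)
    have h3 : m * pl R G Ln f * m⁻¹ ∈ D.borelSubgroup F ⊓ D.negUnipotent F := ⟨h1, hB⟩
    rw [(borel_inf_neg R G).1] at h3
    exact h3
  have hLn1 : pl R G Ln f = pl R G [] f := by
    rw [pl_nil]
    have : pl R G Ln f = m⁻¹ * (m * pl R G Ln f * m⁻¹) * m := by group
    rw [this, hB1]; group
  have hLnnil : ∀ r ∈ L, R.half ≤ nf u r := by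
    intro r hr
    by_contra hcon
    have h1 : r ∈ Ln := by
      rw [hLn, List.mem_filter]
      exact ⟨hr, by simp only [Bool.not_eq_true', decide_eq_false_iff_not]; exact hcon⟩
    have h2 := pl_coord R G (hLnd.filter _) (Z.half R fun r hr => hLsub r (hLnsub r hr)) List.nodup_nil (by simp)
      (Z.commL R G (fun r hr => hLsub r (hLnsub r hr)) f) (by intro r hr; simp at hr) hLn1 r
    rw [if_pos h1, if_neg (by simp)] at h2
    exact hLne r hr h2
  -- now the image list
  have hmap : (Lp.map fun r => xr R (elemOfGood G F) (nf u r) (g r)).prod = pl R G (Lp.map (nf u)) (fun k => g (nf u⁻¹ k)) := by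
    unfold pl
    rw [List.map_map]
    congr 1
    apply List.map_congr_left
    intro r hr
    simp only [Function.comp_apply]
    rw [nf_inv u (hlt r (hLsub r (hLpsub r hr)))]
  have e4 : pl R G (Lp.map (nf u)) (fun k => g (nf u⁻¹ k)) = pl R G (S' ++ T') f' := by
    rw [← hmap, ← hconj Lp fun r hr => hlt r (hLsub r (hLpsub r hr)), ← e3, hB1, mul_one]
  intro s hs
  have hsL : s ∈ L := List.mem_filter.2 ⟨List.mem_append_left _ hs, decide_eq_true (hf s hs)⟩
  have hsLp : s ∈ Lp := List.mem_filter.2 ⟨hsL, decide_eq_true (hLnnil s hsL)⟩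
  have hcL : CommL R G (Lp.map (nf u)) (fun k => g (nf u⁻¹ k)) := by
    intro a ha b hb
    rw [List.mem_map] at ha hb
    obtain ⟨a, ha, rfl⟩ := ha
    obtain ⟨b, hb, rfl⟩ := hb
    have ha' := hLsub a (hLpsub a ha)
    have hb' := hLsub b (hLpsub b hb)
    beta_reduce
    rw [nf_inv u (hlt a ha'), nf_inv u (hlt b hb'), ← (hg a (hlt a ha')).1, ← (hg b (hlt b hb')).1]
    have h1 := (Z.commute R G ha' hb' (f a) (f b)).eq
    show m * xr R (elemOfGood G F) a (f a) * m⁻¹ * (m * xr R (elemOfGood G F) b (f b) * m⁻¹) =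
      m * xr R (elemOfGood G F) b (f b) * m⁻¹ * (m * xr R (elemOfGood G F) a (f a) * m⁻¹)
    calc m * xr R (elemOfGood G F) a (f a) * m⁻¹ * (m * xr R (elemOfGood G F) b (f b) * m⁻¹)
        = m * (xr R (elemOfGood G F) a (f a) * xr R (elemOfGood G F) b (f b)) * m⁻¹ := by group
      _ = m * (xr R (elemOfGood G F) b (f b) * xr R (elemOfGood G F) a (f a)) * m⁻¹ := by rw [h1]
      _ = _ := by group
  have hnd' : (Lp.map (nf u)).Nodup := by
    apply List.Nodup.map_on _ (hLnd.filter _)
    intro a ha b hb hab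
    have h1 := nf_inv u (hlt a (hLsub a (hLpsub a ha)))
    rw [← h1, hab, nf_inv u (hlt b (hLsub b (hLpsub b hb)))]
  have hpos' : ∀ r ∈ Lp.map (nf u), R.half ≤ r ∧ r < D.nroots := by
    intro r hr
    rw [List.mem_map] at hr
    obtain ⟨a, ha, rfl⟩ := hr
    exact ⟨hLnnil a (hLpsub a ha), nf_lt u (hlt a (hLsub a (hLpsub a ha)))⟩
  have h2 := pl_coord R G hnd' hpos' Z'.nd (Z'.half R fun r hr => hr) hcL (Z'.commL R G (fun r hr => hr) f') e4 (nf u s)
  by_contra hcon
  rw [if_pos (List.mem_map_of_mem hsLp), if_neg hcon, nf_inv u (hlt s (hLsub s hsL))] at h2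
  exact (hg s (hlt s (hLsub s hsL))).2 (hf s hs) h2

end mono

end Cfsg.Agent.ChevU
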