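import Cfsg.Agent.ChevU.CentInv

set_option autoImplicit false
set_option linter.unusedSectionVars false
set_option linter.unusedVariables false

/-!
# Centralisers of products of commuting root elements in characteristic two (helper17)
-/

namespace Cfsg.Agent.ChevU

open Cfsg.Lie Matrix Subgroup

variable {D : ChevalleyDatum} {F : Type*} [Field F] (R : RootFacts D) (G : Chev.Good D) (E : ChevGrp.DData D)

/-! ### the functional -/

/-- the functional `Σ w_s ⟨s^∨, ·⟩` -/
def Lam (D : ChevalleyDatum) (S : List ℕ) (wt : ℕ → ℤ) (r : ℕ) : ℤ := (S.map fun s => wt s * Chev.pr D s r).sum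

include G in
theorem pr_vec (s : ℕ) {r : ℕ} (hr : r < D.nroots) : Chev.pr D s r = ∑ k ∈ Finset.range D.rank, Chev.vec D r k * Chev.pr D s (D.simple k) := by
  unfold Chev.pr
  have h1 : ∀ i ∈ Finset.range D.rank, Chev.cc D s i * D.cartan i r = ∑ k ∈ Finset.range D.rank, Chev.vec D r k * (Chev.cc D s i * D.cartan i (D.simple k)) := by
    intro i hi
    rw [G.cartan_vec i (Finset.mem_range.1 hi) r hr, Finset.mul_sum]
    apply Finset.sum_congr rfl
    intro k _
    ring
  rw [Finset.sum_congr rfl h1, Finset.sum_comm]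
  apply Finset.sum_congr rfl
  intro k _
  rw [Finset.mul_sum]

include G in
theorem Lam_vec (S : List ℕ) (wt : ℕ → ℤ) {r : ℕ} (hr : r < D.nroots) :
    Lam D S wt r = ∑ k ∈ Finset.range D.rank, Chev.vec D r k * Lam D S wt (D.simple k) := by
  unfold Lam
  induction S with
  | nil => simp
  | cons s S ih =>
    simp only [List.map_cons, List.sum_cons]
    rw [ih, pr_vec G s hr, Finset.mul_sum, ← Finset.sum_add_distrib]
    apply Finset.sum_congr rfl
    intro k _
    ring

include G in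
theorem pr_refl (s : ℕ) {i r : ℕ} (hi : i < D.rank) (hr : r < D.nroots) :
    Chev.pr D s (D.reflectRoot i r) = Chev.pr D s r - D.cartan i r * Chev.pr D s (D.simple i) := by
  unfold Chev.pr
  rw [Finset.mul_sum, ← Finset.sum_sub_distrib]
  apply Finset.sum_congr rfl
  intro j hj
  rw [G.cartan_w i hi r hr j (Finset.mem_range.1 hj)]
  ring

include G in
theorem Lam_refl (S : List ℕ) (wt : ℕ → ℤ) {i r : ℕ} (hi : i < D.rank) (hr : r < D.nroots) :
    Lam D S wt (D.reflectRoot i r) = Lam D S wt r - D.cartan i r * Lam D S wt (D.simple i) := by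
  unfold Lam
  induction S with
  | nil => simp
  | cons s S ih =>
    simp only [List.map_cons, List.sum_cons]
    rw [ih, pr_refl G s hi hr]
    ring

include G E in
theorem pr_W {u : Equiv.Perm (Fin D.nroots)} (hu : u ∈ E.rp.wsys.W) (a b : Fin D.nroots) :
    Chev.pr D (u a : Fin D.nroots) (u b : Fin D.nroots) = Chev.pr D a b := by
  refine E.rp.wsys.W_induction (Q := fun w => ∀ a b : Fin D.nroots, Chev.pr D (w a : Fin D.nroots) (w b : Fin D.nroots) = Chev.pr D a b)
    (fun a b => rfl) ?_ hu a b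
  intro i u _ ih a b
  rw [Equiv.Perm.mul_apply, Equiv.Perm.mul_apply, ← ChevGrp.Inst.reflect_eq E, ← ChevGrp.Inst.reflect_eq E,
    Chev.pr_w G.toGood1 i.2 (u a).2 (u b).2, ih]

include G E in
theorem Lam_fix {S : List ℕ} (hS : ∀ s ∈ S, s < D.nroots) (wt : ℕ → ℤ) {u : Equiv.Perm (Fin D.nroots)} (hu : u ∈ E.rp.wsys.W)
    (hfix : ∀ s ∈ S, nf u s = s) (r : Fin D.nroots) : Lam D S wt (u r : Fin D.nroots) = Lam D S wt r := by
  unfold Lam
  congr 1
  apply List.map_congr_left
  intro s hs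
  have h1 := pr_W G E hu ⟨s, hS s hs⟩ r
  have h2 : ((u ⟨s, hS s hs⟩ : Fin D.nroots) : ℕ) = s := by
    have := hfix s hs
    unfold nf at this
    rwa [dif_pos (hS s hs)] at this
  rw [h2] at h1
  rw [h1]

include G in
theorem stab_lam {S : List ℕ} {wt : ℕ → ℤ} {J : List ℕ}
    (h0 : ∀ k < D.rank, 0 ≤ Lam D S wt (D.simple k)) (hJ : ∀ k < D.rank, k ∉ J → 0 < Lam D S wt (D.simple k)) :
    ∀ k : ℕ, ∀ (m : GL D.Idx F) (u : Equiv.Perm (Fin D.nroots)), (ChevGrp.chev E G F).Act m u → m ∈ (ChevGrp.chev E G F).N →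
      E.rp.wsys.N u = k → (∀ r : Fin D.nroots, Lam D S wt (u r : Fin D.nroots) = Lam D S wt r) →
      m ∈ D.diagonalSubgroup F ⊔ Subgroup.closure {g : GL D.Idx F | ∃ j ∈ J, j < D.rank ∧ (g : Matrix D.Idx D.Idx F) = D.nMat F (D.simple j) 1} := by
  intro k
  induction k using Nat.strong_induction_on with
  | _ k ih =>
    intro m u hu hm hk hur
    by_cases h1 : u = 1
    · rw [h1] at hu
      exact mem_sup_left (ChevGrp.RGrp.mem_H_of_act_one hm hu)
    · obtain ⟨j, hj⟩ := E.rp.wsys.descent u hu.1 h1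
      have hp : ((E.rp.wsys.p j : Fin D.nroots) : ℕ) = D.simple j := E.hp j
      have hle : Lam D S wt (u (E.rp.wsys.p j) : Fin D.nroots) ≤ 0 := by
        rw [Lam_vec G S wt (Fin.is_lt _)]
        apply Finset.sum_nonpos
        intro i hi
        rw [Finset.mem_range] at hi
        apply mul_nonpos_of_nonpos_of_nonneg _ (h0 i hi)
        have h2 : ((u (E.rp.wsys.p j) : Fin D.nroots) : ℕ) < D.nroots / 2 := by
          have := (ChevGrp.Inst.lt_of_pos E (u (E.rp.wsys.p j)) G).not.1 hj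
          omega
        have h3 := G.vec_neg' i hi _ (Fin.is_lt (u (E.rp.wsys.p j)))
        have h4 := G.vec_nonneg i hi (D.nroots - 1 - (u (E.rp.wsys.p j) : Fin D.nroots)) (by omega) (by
          have := G.n_even; omega)
        omega
      rw [hur, hp] at hle
      have hjJ : (j : ℕ) ∈ J := by
        by_contra hcon
        have := hJ j j.2 hcon
        omega
      have hz : Lam D S wt (D.simple j) = 0 := le_antisymm hle (h0 j j.2)
      have h13 := E.rp.wsys.N_neg hu.1 hj
      have h14 := ih (E.rp.wsys.N (u * E.rp.wsys.w j)) (by omega) (m * (ChevGrp.chev E G F).nn j) (u * E.rp.wsys.w j)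
        (hu.mul (ChevGrp.RGrp.act_nn j)) (mul_mem hm ((ChevGrp.chev E G F).nn_mem_N j)) rfl (by
          intro r
          rw [Equiv.Perm.mul_apply, hur, ← ChevGrp.Inst.reflect_eq E, Lam_refl G S wt j.2 r.2, hz, mul_zero, sub_zero])
      have h15 : (ChevGrp.chev E G F).nn j ∈ D.diagonalSubgroup F ⊔ Subgroup.closure {g : GL D.Idx F | ∃ j ∈ J, j < D.rank ∧ (g : Matrix D.Idx D.Idx F) = D.nMat F (D.simple j) 1} := by
        apply mem_sup_right
        exact subset_closure ⟨j, hjJ, j.2, rfl⟩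
      have h16 := mul_mem h14 (inv_mem h15)
      rwa [mul_inv_cancel_right] at h16

/-! ### the data of a centraliser -/

variable [CharP F 2]

/-- checked data for a centraliser -/
structure CData (D : ChevalleyDatum) (S T J A2 : List ℕ) (A1 : List (ℕ × ℕ × ℕ)) (wt : ℕ → ℤ) : Prop where
  supp : Supp D S T
  Jlt : ∀ j ∈ J, j < D.rank
  lam0 : ∀ k < D.rank, 0 ≤ Lam D S wt (D.simple k)
  lamJ : ∀ k < D.rank, k ∉ J → 0 < Lam D S wt (D.simple k)
  cen : ∀ r, ((D.IsPosRoot r ∧ r ∉ A1.map Prod.fst) ∨ ∃ j ∈ J, r = D.neg (D.simple j)) → ∀ s ∈ S, r = s ∨ (s ≠ D.neg r ∧ inM D [] r s = true)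
  tor : ∀ i < D.rank, i ∉ J → ∃ K : ℕ → ℤ, ∀ j < D.rank, (S.map fun s => K s * D.cartan j s).sum = if j = i then 1 else 0
  a1out : ∀ a ∈ A1, Out D {j | j ∈ J} a.1
  a1nd : (A1.map Prod.fst).Nodup
  tnd : (A1.map fun a => a.2.2).Nodup
  a1s : ∀ a ∈ A1, a.2.1 ∈ S ∧ a.2.2 ∈ T ∧ a.1 ≠ a.2.1 ∧
    (∃ z : ℤ, z % 2 = 1 ∧ (D.commTerms a.1 a.2.1).filter (fun c => c.2.1 % 2 != 0) = [(a.2.2, z, 1, 1)])
  a1S : ∀ a ∈ A1, ∀ s ∈ S, s ≠ a.2.1 → (a.1 = s ∨ inM D [] a.1 s = true)
  a1T : ∀ a ∈ A1, ∀ s ∈ T, a.1 = s ∨ inM D [] a.1 s = true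
  a2 : ∀ r, r ∈ A2 ↔ (Out D {j | j ∈ J} r ∧ r ∉ A1.map Prod.fst)
  a2norm : ∀ r, Out D {j | j ∈ J} r → ∀ a ∈ A2, r = a ∨ inM D A2 r a = true
  a1norm : ∀ a ∈ A1, ∀ a' ∈ A1, a.1 = a'.1 ∨ inM D A2 a.1 a'.1 = true

section cdata

variable {S T J A2 : List ℕ} {A1 : List (ℕ × ℕ × ℕ)} {wt : ℕ → ℤ} (C : CData D S T J A2 A1 wt)

local notation "ef" => elemOfGood G F

include R G C in
theorem CData.norm2 {r : ℕ} (hr : Out D {j | j ∈ J} r) (t : F) {z : GL D.Idx F} (hz : z ∈ clo D F (· ∈ A2)) :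
    (xr R (elemOfGood G F) r t)⁻¹ * z * xr R (elemOfGood G F) r t ∈ clo D F (· ∈ A2) := by
  unfold clo at hz
  induction hz using closure_induction with
  | mem x hx =>
    obtain ⟨s, u, hs, h2⟩ := hx
    rw [← eq_xu_iff R.tab (elemOfGood G F)] at h2
    subst h2
    have h3 := ((C.a2 s).1 hs).1
    have h1 := conj_mem_clo R G hr.1.1 h3.1.1 (pos_ne_neg R hr.1 h3.1) (C.a2norm r hr s hs) t u
    have h4 := mul_mem h1 (xr_mem_clo R (elemOfGood G F) (P := (· ∈ A2)) hs u)
    rwa [inv_mul_cancel_right] at h4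
  | one => rw [mul_one, inv_mul_cancel]; exact one_mem _
  | mul x y _ _ hx hy =>
    have : (xr R (elemOfGood G F) r t)⁻¹ * (x * y) * xr R (elemOfGood G F) r t =
      ((xr R (elemOfGood G F) r t)⁻¹ * x * xr R (elemOfGood G F) r t) * ((xr R (elemOfGood G F) r t)⁻¹ * y * xr R (elemOfGood G F) r t) := by group
    rw [this]; exact mul_mem hx hy
  | inv x _ hx =>
    have : (xr R (elemOfGood G F) r t)⁻¹ * x⁻¹ * xr R (elemOfGood G F) r t = ((xr R (elemOfGood G F) r t)⁻¹ * x * xr R (elemOfGood G F) r t)⁻¹ := by group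
    rw [this]; exact inv_mem hx

include C in
theorem CData.norm2' {L : List ℕ} (hL : ∀ r ∈ L, Out D {j | j ∈ J} r) (f : ℕ → F) {z : GL D.Idx F} (hz : z ∈ clo D F (· ∈ A2)) :
    (pl R G L f)⁻¹ * z * pl R G L f ∈ clo D F (· ∈ A2) := by
  induction L generalizing z with
  | nil => simpa [pl_nil] using hz
  | cons a L ih =>
    rw [pl_cons]
    have h1 := C.norm2 R G (hL a List.mem_cons_self) (f a) hz
    have h2 := ih (fun r hr => hL r (List.mem_cons_of_mem _ hr)) h1
    have : (xr R (elemOfGood G F) a (f a) * pl R G L f)⁻¹ * z * (xr R (elemOfGood G F) a (f a) * pl R G L f) =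
      (pl R G L f)⁻¹ * ((xr R (elemOfGood G F) a (f a))⁻¹ * z * xr R (elemOfGood G F) a (f a)) * pl R G L f := by group
    rw [this]; exact h2

include C in
theorem CData.insert (a : ℕ × ℕ × ℕ) (ha : a ∈ A1) (c : F) : ∀ {L : List ℕ}, L.Nodup → (∀ r ∈ L, r ∈ A1.map Prod.fst) → a.1 ∈ L →
    ∀ f : ℕ → F, ∃ g : ℕ → F, ∃ z ∈ clo D F (· ∈ A2), xr R (elemOfGood G F) a.1 c * pl R G L f = pl R G L g * z := by
  classical
  intro L
  induction L with
  | nil => intro _ _ h; simp at h
  | cons b L ih =>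
    intro hnd hsub hmem f
    rw [List.nodup_cons] at hnd
    have hsub' : ∀ r ∈ L, r ∈ A1.map Prod.fst := fun r hr => hsub r (List.mem_cons_of_mem _ hr)
    have hout : ∀ r ∈ L, Out D {j | j ∈ J} r := by
      intro r hr
      obtain ⟨a', ha', rfl⟩ := List.mem_map.1 (hsub' r hr)
      exact C.a1out a' ha'
    by_cases hab : a.1 = b
    · subst hab
      refine ⟨Function.update f a.1 (c + f a.1), 1, one_mem _, ?_⟩
      rw [pl_cons, pl_cons, Function.update_self, mul_one, ← mul_assoc, xr_add]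
      congr 1
      apply pl_congr
      intro r hr
      rw [Function.update_of_ne]
      rintro rfl
      exact hnd.1 hr
    · have haL : a.1 ∈ L := (List.mem_cons.1 hmem).resolve_left hab
      obtain ⟨g, z, hz, e⟩ := ih hnd.2 hsub' haL f
      obtain ⟨b', hb', rfl⟩ := List.mem_map.1 (hsub b List.mem_cons_self)
      have h1 := C.a1out a ha
      have h2 := C.a1out b' hb'
      -- `x_b⁻¹ x_a x_b = z' x_a`
      have h3 := conj_mem_clo R G h2.1.1 h1.1.1 (pos_ne_neg R h2.1 h1.1) (C.a1norm b' hb' a ha) (f b'.1) c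
      set xa := xr R (elemOfGood G F) a.1 c with hxa
      set xb := xr R (elemOfGood G F) b'.1 (f b'.1) with hxb
      set z1 := xb⁻¹ * xa * xb * xa⁻¹ with hz1
      have h4 : xa * xb = xb * z1 * xa := by rw [hz1]; group
      -- move `z1` to the right
      have h5 : (xa)⁻¹ * z1 * xa ∈ clo D F (· ∈ A2) := C.norm2 R G h1 c h3
      have h6 := C.norm2' R G hout f h5
      refine ⟨Function.update g b'.1 (f b'.1), z * ((pl R G L f)⁻¹ * (xa⁻¹ * z1 * xa) * pl R G L f), mul_mem hz h6, ?_⟩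
      have h7 : pl R G L (Function.update g b'.1 (f b'.1)) = pl R G L g := by
        apply pl_congr
        intro r hr
        rw [Function.update_of_ne]
        rintro rfl
        exact hnd.1 hr
      rw [pl_cons, pl_cons, Function.update_self, h7, ← hxb]
      calc xa * (xb * pl R G L f) = (xa * xb) * pl R G L f := by group
        _ = xb * (xa * pl R G L f) * ((pl R G L f)⁻¹ * (xa⁻¹ * z1 * xa) * pl R G L f) := by rw [h4]; group
        _ = xb * (pl R G L g * z) * ((pl R G L f)⁻¹ * (xa⁻¹ * z1 * xa) * pl R G L f) := by rw [e]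
        _ = _ := by group

include C in
/-- decomposition of the unipotent radical -/
theorem CData.rep1 {n : GL D.Idx F} (hn : n ∈ clo D F (Out D {j | j ∈ J})) :
    ∃ f : ℕ → F, ∃ y ∈ clo D F (· ∈ A2), n = pl R G (A1.map Prod.fst) f * y := by
  classical
  have houtA : ∀ r ∈ A1.map Prod.fst, Out D {j | j ∈ J} r := by
    intro r hr
    obtain ⟨a', ha', rfl⟩ := List.mem_map.1 hr
    exact C.a1out a' ha'
  have step : ∀ r, Out D {j | j ∈ J} r → ∀ c : F, ∀ n : GL D.Idx F, (∃ f : ℕ → F, ∃ y ∈ clo D F (· ∈ A2), n = pl R G (A1.map Prod.fst) f * y) →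
      ∃ f : ℕ → F, ∃ y ∈ clo D F (· ∈ A2), xr R (elemOfGood G F) r c * n = pl R G (A1.map Prod.fst) f * y := by
    rintro r hr c n ⟨f, y, hy, rfl⟩
    by_cases hA : r ∈ A1.map Prod.fst
    · obtain ⟨a, ha, rfl⟩ := List.mem_map.1 hA
      obtain ⟨g, z, hz, e⟩ := C.insert R G a ha c C.a1nd (fun r hr => hr) hA f
      exact ⟨g, z * y, mul_mem hz hy, by rw [← mul_assoc, e, mul_assoc]⟩
    · have h1 : xr R (elemOfGood G F) r c ∈ clo D F (· ∈ A2) := xr_mem_clo R (elemOfGood G F) (P := (· ∈ A2)) ((C.a2 r).2 ⟨hr, hA⟩) c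
      have h2 := C.norm2' R G houtA f h1
      refine ⟨f, (pl R G (A1.map Prod.fst) f)⁻¹ * xr R (elemOfGood G F) r c * pl R G (A1.map Prod.fst) f * y, mul_mem h2 hy, by group⟩
  unfold clo at hn
  induction hn using closure_induction_left with
  | one => exact ⟨fun _ => 0, 1, one_mem _, by rw [pl_zero, mul_one]⟩
  | mul_left x hx y _ hy =>
    obtain ⟨s, u, hs, h2⟩ := hx
    rw [← eq_xu_iff R.tab (elemOfGood G F)] at h2
    subst h2
    exact step s hs u y hy
  | inv_mul_cancel x hx y _ hy =>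
    obtain ⟨s, u, hs, h2⟩ := hx
    rw [← eq_xu_iff R.tab (elemOfGood G F)] at h2
    subst h2
    have := step s hs (-u) y hy
    rwa [← xr_inv] at this

theorem wu_filter {w : List (ℕ × ℤ × ℕ × ℕ)} (f : ℕ × ℤ × ℕ × ℕ → ℕ × F) (hf : ∀ c ∈ w, c.2.1 % 2 = 0 → (f c).2 = 0) :
    wu R.tab (elemOfGood G F) (w.map f) = wu R.tab (elemOfGood G F) ((w.filter fun c => c.2.1 % 2 != 0).map f) := by
  induction w with
  | nil => rfl
  | cons c w ih =>
    have h1 := ih fun c hc => hf c (List.mem_cons_of_mem _ hc)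
    by_cases h : c.2.1 % 2 = 0
    · rw [List.filter_cons_of_neg (by simp [h]), ← h1, List.map_cons]
      have h2 := hf c List.mem_cons_self h
      unfold wu
      rw [List.map_cons, List.prod_cons, h2, xu_zero, one_mul]
    · rw [List.filter_cons_of_pos (by simpa using h), List.map_cons, List.map_cons]
      unfold wu at h1 ⊢
      rw [List.map_cons, List.prod_cons, List.map_cons, List.prod_cons, h1]

include C in
theorem CData.conj1 {a : ℕ × ℕ × ℕ} (ha : a ∈ A1) (c : F) :
    (xr R (elemOfGood G F) a.1 c)⁻¹ * xr R (elemOfGood G F) a.2.1 1 * xr R (elemOfGood G F) a.1 c =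
      xr R (elemOfGood G F) a.2.1 1 * xr R (elemOfGood G F) a.2.2 c := by
  obtain ⟨h1, h2, h3, z, hz, h4⟩ := C.a1s a ha
  have ho := C.a1out a ha
  have hp := C.supp.pos a.2.1 (List.mem_append_left _ h1)
  rw [conj_xu R.tab (elemOfGood G F) ho.1.1 hp.1 (Ne.symm h3) (pos_ne_neg R ho.1 hp)]
  congr 1
  unfold ChevalleyDatum.commWord
  rw [wu_filter R G _ (by intro c hc h; simp only; rw [even_cast h]; ring), h4]
  unfold wu
  rw [List.map_cons, List.map_nil, List.map_cons, List.map_nil, List.prod_cons, List.prod_nil, mul_one]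
  simp only [pow_one, mul_one]
  rw [odd_cast hz, one_mul, CharTwo.neg_eq]

include C in
theorem CData.conjS {a : ℕ × ℕ × ℕ} (ha : a ∈ A1) (c : F) : ∀ {L : List ℕ}, L.Nodup → (∀ s ∈ L, s ∈ S) →
    (xr R (elemOfGood G F) a.1 c)⁻¹ * pl R G L (fun _ => 1) * xr R (elemOfGood G F) a.1 c =
      pl R G L (fun _ => 1) * (if a.2.1 ∈ L then xr R (elemOfGood G F) a.2.2 c else 1) := by
  obtain ⟨h1, h2, h3, z, hz, h4⟩ := C.a1s a ha
  have ho := C.a1out a ha
  intro L
  induction L with
  | nil => intro _ _; simp [pl_nil]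
  | cons b L ih =>
    intro hnd hsub
    rw [List.nodup_cons] at hnd
    have hsub' : ∀ s ∈ L, s ∈ S := fun s hs => hsub s (List.mem_cons_of_mem _ hs)
    have ih' := ih hnd.2 hsub'
    have hb := hsub b List.mem_cons_self
    have e1 : (xr R (elemOfGood G F) a.1 c)⁻¹ * pl R G (b :: L) (fun _ => 1) * xr R (elemOfGood G F) a.1 c =
        ((xr R (elemOfGood G F) a.1 c)⁻¹ * xr R (elemOfGood G F) b 1 * xr R (elemOfGood G F) a.1 c) *
        ((xr R (elemOfGood G F) a.1 c)⁻¹ * pl R G L (fun _ => 1) * xr R (elemOfGood G F) a.1 c) := by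
      rw [pl_cons]; group
    rw [e1, ih', pl_cons]
    by_cases hab : b = a.2.1
    · subst hab
      rw [if_neg hnd.1, if_pos List.mem_cons_self, C.conj1 R G ha, mul_one, mul_assoc, mul_assoc]
      congr 1
      have h5 : Commute (xr R (elemOfGood G F) a.2.2 c) (pl R G L (fun _ => 1)) := by
        unfold pl
        apply Commute.list_prod_right
        intro x hx
        rw [List.mem_map] at hx
        obtain ⟨s, hs, rfl⟩ := hx
        exact C.supp.commute R G (List.mem_append_right _ h2) (List.mem_append_left _ (hsub' s hs)) _ _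
      exact h5.eq
    · have h5 := C.a1S a ha b hb hab
      have h6 := commute_of_inM R G ho.1.1 (C.supp.pos b (List.mem_append_left _ hb)).1
        (pos_ne_neg R ho.1 (C.supp.pos b (List.mem_append_left _ hb))) h5 c 1
      have h7 : (xr R (elemOfGood G F) a.1 c)⁻¹ * xr R (elemOfGood G F) b 1 * xr R (elemOfGood G F) a.1 c = xr R (elemOfGood G F) b 1 := by
        rw [mul_assoc, ← h6.eq]; group
      rw [h7, mul_assoc]
      congr 2
      by_cases hL : a.2.1 ∈ L
      · rw [if_pos hL, if_pos (List.mem_cons_of_mem _ hL)]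
      · rw [if_neg hL, if_neg]
        intro h8
        rcases List.mem_cons.1 h8 with h8 | h8
        · exact hab h8.symm
        · exact hL h8

include C in
theorem CData.conjA (f : ℕ → F) : ∀ {L : List (ℕ × ℕ × ℕ)}, (∀ a ∈ L, a ∈ A1) →
    (pl R G (L.map Prod.fst) f)⁻¹ * pl R G S (fun _ => 1) * pl R G (L.map Prod.fst) f =
      pl R G S (fun _ => 1) * (L.map fun a => xr R (elemOfGood G F) a.2.2 (f a.1)).prod := by
  intro L
  induction L with
  | nil => intro _; simp [pl_nil]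
  | cons a L ih =>
    intro hsub
    have hsub' : ∀ a ∈ L, a ∈ A1 := fun a ha => hsub a (List.mem_cons_of_mem _ ha)
    have ha := hsub a List.mem_cons_self
    have h1 := C.a1s a ha
    set P := pl R G (L.map Prod.fst) f with hP
    have e1 := C.conjS R G ha (f a.1) (List.nodup_append.1 C.supp.nd).1 (fun s hs => hs)
    rw [if_pos h1.1] at e1
    rw [List.map_cons, pl_cons, List.map_cons, List.prod_cons]
    have e2 : (xr R (elemOfGood G F) a.1 (f a.1) * P)⁻¹ * pl R G S (fun _ => 1) * (xr R (elemOfGood G F) a.1 (f a.1) * P) =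
        P⁻¹ * ((xr R (elemOfGood G F) a.1 (f a.1))⁻¹ * pl R G S (fun _ => 1) * xr R (elemOfGood G F) a.1 (f a.1)) * P := by group
    have hc : Commute (xr R (elemOfGood G F) a.2.2 (f a.1)) P := by
      rw [hP]
      unfold pl
      apply Commute.list_prod_right
      intro x hx
      rw [List.mem_map] at hx
      obtain ⟨s, hs, rfl⟩ := hx
      obtain ⟨a', ha', rfl⟩ := List.mem_map.1 hs
      have h2 := C.a1out a' (hsub' a' ha')
      have h3 := C.supp.pos a.2.2 (List.mem_append_right _ h1.2.1)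
      exact (commute_of_inM R G h2.1.1 h3.1 (pos_ne_neg R h2.1 h3) (C.a1T a' (hsub' a' ha') a.2.2 h1.2.1) _ _).symm
    have hc2 : Commute (xr R (elemOfGood G F) a.2.2 (f a.1)) ((L.map fun a => xr R (elemOfGood G F) a.2.2 (f a.1)).prod) := by
      apply Commute.list_prod_right
      intro x hx
      rw [List.mem_map] at hx
      obtain ⟨a', ha', rfl⟩ := hx
      exact C.supp.commute R G (List.mem_append_right _ h1.2.1) (List.mem_append_right _ (C.a1s a' (hsub' a' ha')).2.1) _ _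
    have ih' := ih hsub'
    have e3 : P⁻¹ * (pl R G S (fun _ => 1) * xr R (elemOfGood G F) a.2.2 (f a.1)) * P =
        (P⁻¹ * pl R G S (fun _ => 1) * P) * (P⁻¹ * (xr R (elemOfGood G F) a.2.2 (f a.1) * P)) := by group
    rw [e2, e1, e3, ih', hc.eq, ← mul_assoc P⁻¹ P, inv_mul_cancel, one_mul, mul_assoc, hc2.eq]

end cdata

end Cfsg.Agent.ChevU
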