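import Cfsg.Agent.ChevU.CentInv2

set_option autoImplicit false
set_option linter.unusedSectionVars false
set_option linter.unusedVariables false

/-!
# Centralisers of products of commuting root elements in characteristic two: the main theorem (helper17)
-/

namespace Cfsg.Agent.ChevU

open Cfsg.Lie Matrix Subgroup

variable {D : ChevalleyDatum} {F : Type*} [Field F] (R : RootFacts D) (G : Chev.Good D) (E : ChevGrp.DData D) [CharP F 2]

theorem exists_fun_of_nodup {α β : Type*} [DecidableEq β] {K : Type*} [Zero K] (key : α → β) (val : α → K) : ∀ {L : List α},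
    (L.map key).Nodup → ∃ f : β → K, ∀ a ∈ L, f (key a) = val a := by
  intro L
  induction L with
  | nil => intro _; exact ⟨fun _ => 0, by simp⟩
  | cons a L ih =>
    intro h
    rw [List.map_cons, List.nodup_cons] at h
    obtain ⟨f, hf⟩ := ih h.2
    refine ⟨Function.update f (key a) (val a), ?_⟩
    intro b hb
    rcases List.mem_cons.1 hb with rfl | hb
    · rw [Function.update_self]
    · rw [Function.update_of_ne]
      · exact hf b hb
      · intro h2
        apply h.1
        rw [← h2]
        exact List.mem_map_of_mem hb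

section cdata

variable {S T J A2 : List ℕ} {A1 : List (ℕ × ℕ × ℕ)} {wt : ℕ → ℤ} (C : CData D S T J A2 A1 wt)

include C in
theorem CData.trivial_of_commute {f : ℕ → F} (h : Commute (pl R G (A1.map Prod.fst) f) (pl R G S (fun _ => 1))) :
    pl R G (A1.map Prod.fst) f = 1 := by
  classical
  have e1 := C.conjA R G f (L := A1) (fun a ha => ha)
  have e2 : (pl R G (A1.map Prod.fst) f)⁻¹ * pl R G S (fun _ => 1) * pl R G (A1.map Prod.fst) f = pl R G S (fun _ => 1) := by
    rw [mul_assoc, ← h.eq]; group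
  rw [e2] at e1
  have e3 : (A1.map fun a => xr R (elemOfGood G F) a.2.2 (f a.1)).prod = 1 := by
    have := mul_left_cancel (e1.symm.trans (mul_one _).symm)
    exact this
  obtain ⟨g, hg⟩ := exists_fun_of_nodup (fun a : ℕ × ℕ × ℕ => a.2.2) (fun a => f a.1) C.tnd
  have e4 : pl R G (A1.map fun a => a.2.2) g = pl R G [] g := by
    rw [pl_nil, ← e3]
    unfold pl
    rw [List.map_map]
    congr 1
    apply List.map_congr_left
    intro a ha
    simp only [Function.comp_apply]
    rw [hg a ha]
  have hsub : ∀ r ∈ A1.map (fun a => a.2.2), r ∈ S ++ T := by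
    intro r hr
    obtain ⟨a, ha, rfl⟩ := List.mem_map.1 hr
    exact List.mem_append_right _ (C.a1s a ha).2.1
  have h0 : ∀ a ∈ A1, f a.1 = 0 := by
    intro a ha
    have h1 := pl_coord R G C.tnd (C.supp.half R hsub) List.nodup_nil (by simp) (C.supp.commL R G hsub g)
      (by intro r hr; simp at hr) e4 a.2.2
    have h2 : a.2.2 ∈ A1.map (fun a => a.2.2) := List.mem_map.2 ⟨a, ha, rfl⟩
    rw [if_pos h2, if_neg (by simp)] at h1
    rw [← hg a ha]
    exact h1
  rw [← pl_zero R G (A1.map Prod.fst)]
  apply pl_congr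
  intro r hr
  obtain ⟨a, ha, rfl⟩ := List.mem_map.1 hr
  exact h0 a ha

theorem full_one (Z : Supp D S T) : Full R G S T (pl R G S (fun _ => (1 : F))) := by
  classical
  refine ⟨fun r => if r ∈ S then 1 else 0, fun s hs => by beta_reduce; rw [if_pos hs]; exact one_ne_zero, ?_⟩
  rw [pl_append]
  have h1 : pl R G T (fun r => if r ∈ S then (1 : F) else 0) = 1 := by
    rw [← pl_zero R G T]
    apply pl_congr
    intro r hr
    rw [if_neg]
    intro hs
    exact (List.nodup_append.1 Z.nd).2.2 r hs r hr rfl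
  rw [h1, mul_one]
  apply pl_congr
  intro r hr
  rw [if_pos hr]

include R G E in
/-- conjugacy of two such elements gives a Weyl element -/
theorem exists_W_of_conj {S T S' T' : List ℕ} (Z : Supp D S T) (Z' : Supp D S' T') {g : GL D.Idx F} (hg : g ∈ D.group F)
    (h : g * pl R G S (fun _ => 1) * g⁻¹ = pl R G S' (fun _ => 1)) :
    ∃ u ∈ E.rp.wsys.W, (∀ s ∈ S, nf u s ∈ S' ++ T') := by
  obtain ⟨b, hb, m, hm, b', hb', rfl⟩ := bruhat G E g hg
  have hm' : m ∈ (ChevGrp.chev E G F).N := by rw [ChevGrp.chev_N]; exact hm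
  obtain ⟨u, hu⟩ := ChevGrp.RGrp.exists_act hm'
  have h1 := Z.full_conj R G (inv_mem hb') (full_one R G Z)
  have h2 := Z'.full_conj R G hb (full_one R G Z')
  refine ⟨u, hu.1, act_supp R G E Z Z' hu h1 h2 ?_⟩
  rw [← h]; group

include R G E in
/-- **centralisers** -/
theorem centralizer_inv {S T J A2 : List ℕ} {A1 : List (ℕ × ℕ × ℕ)} {wt : ℕ → ℤ} (C : CData D S T J A2 A1 wt)
    (hfix : ∀ u ∈ E.rp.wsys.W, (∀ s ∈ S, nf u s ∈ S ++ T) → ∀ s ∈ S, nf u s = s) :
    D.group F ⊓ Subgroup.centralizer {pl R G S (fun _ => (1 : F))} =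
      clo D F (fun r => (D.IsPosRoot r ∧ r ∉ A1.map Prod.fst) ∨ ∃ j ∈ J, r = D.neg (D.simple j)) := by
  classical
  set Ef := elemOfGood G F
  set P : ℕ → Prop := fun r => (D.IsPosRoot r ∧ r ∉ A1.map Prod.fst) ∨ ∃ j ∈ J, r = D.neg (D.simple j) with hP
  set t : GL D.Idx F := pl R G S (fun _ => (1 : F)) with ht
  have hn := R.n_eq
  have hPlt : ∀ s, P s → s < D.nroots := by
    rintro s (h | ⟨j, hj, rfl⟩)
    · exact h.1.1
    · exact R.neg_lt (R.simple_lt j (C.Jlt j hj))
  -- simple roots in `J` are not in `A1`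
  have hsimp : ∀ j ∈ J, D.IsPosRoot (D.simple j) ∧ D.simple j ∉ A1.map Prod.fst := by
    intro j hj
    have hj' := C.Jlt j hj
    refine ⟨(R.pos_iff _ (R.simple_lt j hj')).mpr (R.half_le_simple hj'), ?_⟩
    intro hA
    obtain ⟨a, ha, h1⟩ := List.mem_map.1 hA
    have h2 := C.a1out a ha
    rw [h1] at h2
    apply h2.2
    rw [inRootSub_iff R (R.simple_lt j hj')]
    intro i hi hiJ
    rw [R.vec_simple j hj' i, if_neg]
    rintro rfl; exact hiJ hj
  have msimple : ∀ j ∈ J, ∀ c : F, xr R Ef (D.simple j) c ∈ clo D F P := fun j hj c => xr_mem_clo R Ef (P := P) (Or.inl (hsimp j hj)) c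
  have mneg : ∀ j ∈ J, ∀ c : F, xr R Ef (D.neg (D.simple j)) c ∈ clo D F P := fun j hj c => xr_mem_clo R Ef (P := P) (Or.inr ⟨j, hj, rfl⟩) c
  have hHW : D.diagonalSubgroup F ≤ normalizer (clo D F P : Set (GL D.Idx F)) := diag_le_normalizer R G hPlt
  have hcen : clo D F P ≤ Subgroup.centralizer {t} := by
    apply clo_le R Ef
    intro r hr c
    rw [Subgroup.mem_centralizer_singleton_iff]
    have h1 : Commute (xr R Ef r c) t := by
      rw [ht]
      unfold pl
      apply Commute.list_prod_right
      intro x hx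
      rw [List.mem_map] at hx
      obtain ⟨s, hs, rfl⟩ := hx
      rcases C.cen r hr s hs with h | ⟨h, h'⟩
      · subst h
        show xr R Ef r c * xr R Ef r 1 = xr R Ef r 1 * xr R Ef r c
        rw [xr_add, xr_add, add_comm]
      · exact commute_of_inM R G (hPlt r hr) (C.supp.pos s (List.mem_append_left _ hs)).1 h (Or.inr h') c 1
    exact h1.eq
  have hcen' : ∀ w ∈ clo D F P, w * t = t * w := fun w hw => Subgroup.mem_centralizer_singleton_iff.mp (hcen hw)
  apply le_antisymm
  · rintro g ⟨hg, hgc⟩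
    have hgc' : g * t = t * g := Subgroup.mem_centralizer_singleton_iff.mp hgc
    obtain ⟨b, hb, m, hm, b', hb', hgb⟩ := bruhat G E g hg
    have hm' : m ∈ (ChevGrp.chev E G F).N := by rw [ChevGrp.chev_N]; exact hm
    obtain ⟨u, hu⟩ := ChevGrp.RGrp.exists_act hm'
    have h1 := C.supp.full_conj R G (inv_mem hb') (full_one R G C.supp)
    have h2 := C.supp.full_conj R G hb (full_one R G C.supp)
    have h3 : m * (b'⁻¹⁻¹ * t * b'⁻¹) * m⁻¹ = b⁻¹ * t * b := by
      have h4 : b * m * b' * t = t * (b * m * b') := by rw [← hgb]; exact hgc'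
      have h5 : m * (b'⁻¹⁻¹ * t * b'⁻¹) * m⁻¹ = b⁻¹ * (b * m * b' * t) * (b'⁻¹ * m⁻¹) := by group
      rw [h5, h4]; group
    have h4 := hfix u hu.1 (act_supp R G E C.supp C.supp hu h1 h2 h3)
    have hSlt : ∀ s ∈ S, s < D.nroots := fun s hs => (C.supp.pos s (List.mem_append_left _ hs)).1
    have hmM := stab_lam G E C.lam0 C.lamJ _ m u hu hm' rfl (Lam_fix G E hSlt wt hu.1 h4)
    -- the group `W'`
    set P' : ℕ → Prop := fun r => D.IsPosRoot r ∨ ∃ j ∈ J, r = D.neg (D.simple j) with hP'
    have hP'lt : ∀ s, P' s → s < D.nroots := by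
      rintro s (h | ⟨j, hj, rfl⟩)
      · exact h.1
      · exact R.neg_lt (R.simple_lt j (C.Jlt j hj))
    have hBW : D.borelSubgroup F ≤ clo D F P' ⊔ D.diagonalSubgroup F := by
      refine sup_le_sup ?_ le_rfl
      rw [posUnipotent_eq_clo]; exact clo_mono fun s hs => Or.inl hs
    have hstM : D.diagonalSubgroup F ⊔ Subgroup.closure {g : GL D.Idx F | ∃ j ∈ J, j < D.rank ∧ (g : Matrix D.Idx D.Idx F) = D.nMat F (D.simple j) 1} ≤
        clo D F P' ⊔ D.diagonalSubgroup F := by
      refine sup_le le_sup_right ?_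
      rw [closure_le]
      rintro x ⟨j, hj, hjr, hx⟩
      have h5 : x = nU R Ef (D.simple j) 1 := (eq_nU_iff R _).mpr hx
      rw [h5, nU_eq]
      have h6 : ∀ c : F, xr R Ef (D.simple j) c ∈ clo D F P' := fun c => xr_mem_clo R Ef (P := P') (Or.inl (hsimp j hj).1) c
      have h7 : ∀ c : F, xr R Ef (D.neg (D.simple j)) c ∈ clo D F P' := fun c => xr_mem_clo R Ef (P := P') (Or.inr ⟨j, hj, rfl⟩) c
      exact mem_sup_left (mul_mem (mul_mem (h6 _) (h7 _)) (h6 _))
    have hgW : g ∈ clo D F P' ⊔ D.diagonalSubgroup F := by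
      rw [hgb]
      exact mul_mem (mul_mem (hBW hb) (hstM hmM)) (hBW hb')
    obtain ⟨w, hw, h, hh, rfl⟩ := mem_sup_of_le_normalizer (diag_le_normalizer R G hP'lt) hgW
    -- split `w`
    have hC0N : clo D F P ≤ normalizer (clo D F (Out D {j | j ∈ J}) : Set (GL D.Idx F)) := by
      have h5 := parabolic_le_normalizer (F := F) R G {j | j ∈ J}
      rw [unipotentRadical_eq_clo] at h5
      refine le_trans ?_ h5
      rw [parabolic_eq R G]
      refine le_trans ?_ le_sup_right
      apply clo_mono
      rintro s (hs | ⟨j, hj, rfl⟩)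
      · exact Or.inl hs.1
      · right
        have hj' := C.Jlt j hj
        rw [inRootSub_iff R (R.neg_lt (R.simple_lt j hj'))]
        intro i hi hiJ
        rw [R.vec_neg' (R.simple_lt j hj'), R.vec_simple j hj' i, if_neg, _root_.neg_zero]
        rintro rfl; exact hiJ hj
    have hWsub : clo D F P' ≤ clo D F (Out D {j | j ∈ J}) ⊔ clo D F P := by
      rw [clo_sup]
      apply clo_mono
      rintro s (hs | hs)
      · by_cases h5 : Out D {j | j ∈ J} s
        · exact Or.inl h5
        · right; left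
          refine ⟨hs, fun hA => h5 ?_⟩
          obtain ⟨a, ha, rfl⟩ := List.mem_map.1 hA
          exact C.a1out a ha
      · exact Or.inr (Or.inr hs)
    obtain ⟨n1, hn1, c0, hc0, rfl⟩ := mem_sup_of_le_normalizer hC0N (hWsub hw)
    have hc0' : h⁻¹ * c0 * h ∈ clo D F P := by
      have := (mem_normalizer_iff.mp (hHW (inv_mem hh)) c0).mp hc0
      rwa [inv_inv] at this
    have hg0 : n1 * h * t = t * (n1 * h) := by
      have e1 : n1 * h = n1 * c0 * h * (h⁻¹ * c0 * h)⁻¹ := by group
      have e2 := hcen' _ (inv_mem hc0')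
      rw [e1, mul_assoc, e2, ← mul_assoc, hgc', mul_assoc]
    -- the torus part
    have hhR := hh
    rw [diag_eq_range R G] at hhR
    obtain ⟨c, rfl⟩ := hhR
    set χ : ℕ → Fˣ := fun r => ∏ i : Fin D.rank, c i ^ D.cartan i r with hχ
    have hconj : ∀ r < D.nroots, ∀ t : F, hHom D F c * xr R Ef r t * (hHom D F c)⁻¹ = xr R Ef r ((χ r : F) * t) :=
      fun r hr t => hHom_conj R G c hr t
    have hy : hHom D F c * t * (hHom D F c)⁻¹ = pl R G S (fun r => (χ r : F) * 1) := conj_pl R G hconj hSlt _
    have hn1U : n1 ∈ D.posUnipotent F := by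
      have := radical_le_pos (F := F) {j | j ∈ J} (D := D)
      rw [unipotentRadical_eq_clo] at this
      exact this hn1
    have hSsub : ∀ r ∈ S, r ∈ S ++ T := fun r hr => List.mem_append_left _ hr
    have hTsub : ∀ r ∈ T, r ∈ S ++ T := fun r hr => List.mem_append_right _ hr
    have hSnd := (List.nodup_append.1 C.supp.nd).1
    have hTnd := (List.nodup_append.1 C.supp.nd).2.1
    have hyM : pl R G S (fun r => (χ r : F) * 1) ∈ clo D F (· ∈ S ++ T) := clo_mono (fun s hs => hSsub s hs) (pl_mem_clo R G S _)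
    have h5 := C.supp.act R G (inv_mem hn1U) hyM
    rw [inv_inv] at h5
    have h6 : n1 * pl R G S (fun r => (χ r : F) * 1) * n1⁻¹ = t := by
      rw [← hy]
      calc n1 * (hHom D F c * t * (hHom D F c)⁻¹) * n1⁻¹ = (n1 * hHom D F c * t) * (n1 * hHom D F c)⁻¹ := by group
        _ = t := by rw [hg0]; group
    rw [h6, ht, pl_inv R G C.supp hSsub, pl_mul R G C.supp hSsub] at h5
    obtain ⟨q, hq⟩ := C.supp.repr R G hTsub hTnd h5
    have hχ1 : ∀ s ∈ S, χ s = 1 := by
      intro s hs
      have h7 := pl_coord R G hSnd (C.supp.half R hSsub) hTnd (C.supp.half R hTsub) (C.supp.commL R G hSsub _)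
        (C.supp.commL R G hTsub _) hq s
      have hsT : s ∉ T := fun h8 => (List.nodup_append.1 C.supp.nd).2.2 s hs s h8 rfl
      rw [if_pos hs, if_neg hsT, mul_one] at h7
      apply Units.ext
      rw [Units.val_one]
      have : (1 : F) - (χ s : F) = 0 := by rw [sub_eq_add_neg]; exact h7
      exact (sub_eq_zero.1 this).symm
    have hyt : pl R G S (fun r => (χ r : F) * 1) = t := by
      rw [ht]
      apply pl_congr
      intro r hr
      rw [hχ1 r hr, Units.val_one, mul_one]
    have hhC : hHom D F c ∈ clo D F P := by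
      have hc1 : ∀ i : Fin D.rank, (i : ℕ) ∉ J → c i = 1 := by
        intro i hiJ
        obtain ⟨K, hK⟩ := C.tor i i.2 hiJ
        have e1 : ∀ L : List ℕ, (∀ s ∈ L, s ∈ S) → ∏ j : Fin D.rank, c j ^ ((L.map fun s => K s * D.cartan j s).sum) = 1 := by
          intro L
          induction L with
          | nil => intro _; simp
          | cons s L ih =>
            intro hL
            have h8 : ∀ j : Fin D.rank, c j ^ (((s :: L).map fun s => K s * D.cartan j s).sum) =
                (c j ^ D.cartan j s) ^ K s * c j ^ ((L.map fun s => K s * D.cartan j s).sum) := by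
              intro j
              rw [List.map_cons, List.sum_cons, _root_.zpow_add, mul_comm (K s), _root_.zpow_mul]
            rw [Finset.prod_congr rfl fun j _ => h8 j, Finset.prod_mul_distrib, ih fun s hs => hL s (List.mem_cons_of_mem _ hs),
              Finset.prod_zpow, mul_one]
            have h9 := hχ1 s (hL s List.mem_cons_self)
            rw [hχ] at h9
            simp only at h9
            rw [h9, _root_.one_zpow]
        have e2 := e1 S fun s hs => hs
        rw [Finset.prod_eq_single i] at e2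
        · rw [hK i i.2, if_pos rfl, _root_.zpow_one] at e2
          exact e2
        · intro j _ hj
          rw [hK j j.2, if_neg (fun h => hj (Fin.ext h)), _root_.zpow_zero]
        · intro h; exact absurd (Finset.mem_univ _) h
      rw [hHom_eq_prod R G]
      apply Subgroup.list_prod_mem
      intro x hx
      obtain ⟨i, hi, rfl⟩ := List.mem_map.mp hx
      rw [List.mem_range] at hi
      by_cases hii : i ∈ J
      · exact hU_mem R Ef (fun u => msimple i hii u) (fun u => mneg i hii u)
      · rw [extHom_apply hi, hc1 ⟨i, hi⟩ hii, Units.val_one, hU_one R G]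
        exact one_mem _
    -- the unipotent part
    have hn1t : n1 * t = t * n1 := by
      have e1 : n1 * t * n1⁻¹ = t := by rw [← hyt]; rw [h6]; exact hyt.symm
      rw [mul_inv_eq_iff_eq_mul] at e1
      exact e1
    have hn1C : n1 ∈ clo D F P := by
      obtain ⟨f, y, hy2, e⟩ := C.rep1 R G hn1
      have hy3 : y ∈ clo D F P := clo_mono (fun s hs => Or.inl ⟨((C.a2 s).1 hs).1.1, ((C.a2 s).1 hs).2⟩) hy2
      have h8 : Commute (pl R G (A1.map Prod.fst) f) t := by
        have e1 : pl R G (A1.map Prod.fst) f = n1 * y⁻¹ := by rw [e]; group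
        show pl R G (A1.map Prod.fst) f * t = t * pl R G (A1.map Prod.fst) f
        rw [e1, mul_assoc, hcen' _ (inv_mem hy3), ← mul_assoc, hn1t, mul_assoc]
      rw [e, C.trivial_of_commute R G h8, one_mul]
      exact hy3
    have e1 : n1 * c0 * hHom D F c = n1 * hHom D F c * ((hHom D F c)⁻¹ * c0 * hHom D F c) := by group
    rw [e1]
    exact mul_mem (mul_mem hn1C hhC) hc0'
  · exact le_inf (clo_le R Ef fun s hs c => xr_mem_group R Ef (hPlt s hs) c) hcen

end cdata

end Cfsg.Agent.ChevU
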