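import Cfsg.Agent.ChevU.CentU

set_option autoImplicit false
set_option linter.unusedSectionVars false
set_option linter.unusedVariables false

/-!
# Commutators of root subgroups in unipotent radicals (helper17)
-/

namespace Cfsg.Agent.ChevU

open Cfsg.Lie Matrix Subgroup

/-- `r = s + s'` with coefficient `± 1` -/
def certA (D : ChevalleyDatum) (r s s' : ℕ) : Bool :=
  decide (D.nroots / 2 ≤ s) && decide (s < D.nroots) && decide (D.nroots / 2 ≤ s') && decide (s' < D.nroots) && s' != s &&
  match D.commTerms s s' with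
  | [] => false
  | c :: rest => c.1 == r && (c.2.1 == 1 || c.2.1 == -1) && c.2.2 == (1, 1) && rest.all fun d => d.2.2 != (1, 1)

/-- `r = 2s + s'` -/
def certB (D : ChevalleyDatum) (r s s' : ℕ) : Bool :=
  decide (D.nroots / 2 ≤ s) && decide (s < D.nroots) && decide (D.nroots / 2 ≤ s') && decide (s' < D.nroots) && s' != s &&
  match D.commTerms s s' with
  | [c, d] => (c.2.1 == 1 || c.2.1 == -1) && c.2.2 == (1, 1) && d.1 == r && (d.2.1 == 1 || d.2.1 == -1) && d.2.2 == (2, 1)
  | _ => false

/-- certificate for a root -/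
def HasCert (D : ChevalleyDatum) (r : ℕ) : Prop :=
  (∃ i < D.rank, r = D.simple i) ∨ (∃ s s', certA D r s s' = true) ∨ ∃ s s', certB D r s s' = true

/-- check through simple reflections -/
def chkSimple (D : ChevalleyDatum) : Bool :=
  (List.range D.nroots).all fun r => decide (r < D.nroots / 2) || (List.range D.rank).any (fun i => r == D.simple i) ||
    (List.range D.rank).any fun i => certA D r (D.simple i) (D.reflectRoot i r)

theorem hasCert_of_chkSimple {D : ChevalleyDatum} (h : chkSimple D = true) {r : ℕ} (hr : r < D.nroots) (hp : D.nroots / 2 ≤ r) :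
    HasCert D r := by
  unfold chkSimple at h
  rw [List.all_eq_true] at h
  have h1 := h r (List.mem_range.mpr hr)
  rw [Bool.or_eq_true, Bool.or_eq_true, decide_eq_true_eq, List.any_eq_true, List.any_eq_true] at h1
  rcases h1 with (h1 | ⟨i, hi, h1⟩) | ⟨i, hi, h1⟩
  · omega
  · exact Or.inl ⟨i, List.mem_range.mp hi, beq_iff_eq.mp h1⟩
  · exact Or.inr (Or.inl ⟨_, _, h1⟩)

/-- check by exhaustive search -/
def chkAll (D : ChevalleyDatum) : Bool :=
  (List.range D.nroots).all fun r => decide (r < D.nroots / 2) || (List.range D.rank).any (fun i => r == D.simple i) ||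
    (List.range D.nroots).any fun s => (List.range D.nroots).any fun s' => certA D r s s' || certB D r s s'

theorem hasCert_of_chkAll {D : ChevalleyDatum} (h : chkAll D = true) {r : ℕ} (hr : r < D.nroots) (hp : D.nroots / 2 ≤ r) :
    HasCert D r := by
  unfold chkAll at h
  rw [List.all_eq_true] at h
  have h1 := h r (List.mem_range.mpr hr)
  rw [Bool.or_eq_true, Bool.or_eq_true, decide_eq_true_eq, List.any_eq_true, List.any_eq_true] at h1
  rcases h1 with (h1 | ⟨i, hi, h1⟩) | ⟨s, hs, h1⟩
  · omega
  · exact Or.inl ⟨i, List.mem_range.mp hi, beq_iff_eq.mp h1⟩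
  · rw [List.any_eq_true] at h1
    obtain ⟨s', hs', h1⟩ := h1
    rw [Bool.or_eq_true] at h1
    rcases h1 with h1 | h1
    · exact Or.inr (Or.inl ⟨s, s', h1⟩)
    · exact Or.inr (Or.inr ⟨s, s', h1⟩)

theorem chk_B2 : chkAll chevB2 = true := by decide +kernel
theorem chk_F4 : chkAll chevF4 = true := by decide +kernel
theorem chk_D4 : chkSimple chevD4 = true := by decide +kernel
theorem chk_E6 : chkSimple chevE6 = true := by decide +kernel
theorem chk_E7 : chkSimple chevE7 = true := by decide +kernel
theorem chk_E8 : chkSimple chevE8 = true := by decide +kernel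

end Cfsg.Agent.ChevU
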