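import Cfsg.Agent.ChevU.Cert

set_option autoImplicit false
set_option linter.unusedSectionVars false
set_option linter.unusedVariables false

/-!
# Commutators of root subgroups in unipotent radicals (helper17)
-/

namespace Cfsg.Agent.ChevU

open Cfsg.Lie Matrix Subgroup

variable {D : ChevalleyDatum} {F : Type*} [Field F] (R : RootFacts D) (G : Chev.Good D)

theorem κ_lt_iff {r s : ℕ} (hr : r < D.nroots) (hs : s < D.nroots) : R.κ r < R.κ s → r < s := by
  intro h
  by_contra hc
  rcases Nat.lt_or_eq_of_le (not_lt.mp hc) with h1 | h1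
  · have := R.mono s r h1 hr
    unfold RootFacts.κ at h
    omega
  · rw [h1] at h; omega

/-- a term of a commutator of two positive root subgroups -/
theorem term_facts {s s' : ℕ} (hs : s < D.nroots) (hp : R.half ≤ s) (hs' : s' < D.nroots) (hp' : R.half ≤ s')
    {c : ℕ × ℤ × ℕ × ℕ} (hc : c ∈ D.commTerms s s') : c.1 < D.nroots ∧ (∀ i < D.rank, c.1 ≠ D.simple i) ∧
      (∀ i, R.vec s i + R.vec s' i ≤ R.vec c.1 i) ∧ R.κ s + R.κ s' ≤ R.κ c.1 ∧ (c.2.2 ≠ (1, 1) → R.κ s + R.κ s' < R.κ c.1) := by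
  obtain ⟨c1, c2, c3, c4⟩ := R.commTerms_vec hs hs' c hc
  have h2 : (1 : ℤ) ≤ c.2.2.1 := by exact_mod_cast c2
  have h3 : (1 : ℤ) ≤ c.2.2.2 := by exact_mod_cast c3
  have hv : ∀ i, R.vec s i + R.vec s' i ≤ R.vec c.1 i := by
    intro i
    rw [c4 i]
    have := R.vec_nonneg s hp hs i
    have := R.vec_nonneg s' hp' hs' i
    nlinarith
  have hκ : R.κ c.1 = c.2.2.1 * R.κ s + c.2.2.2 * R.κ s' := by
    unfold RootFacts.κ
    rw [Finset.mul_sum, Finset.mul_sum, ← Finset.sum_add_distrib]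
    refine Finset.sum_congr rfl fun j _ => ?_
    rw [c4 j]; ring
  have h4 := R.κ_pos hs hp
  have h5 := R.κ_pos hs' hp'
  refine ⟨c1, ?_, hv, by rw [hκ]; nlinarith, ?_⟩
  · intro k hk he
    obtain ⟨a, ha, ha1⟩ := R.exists_vec_pos hs hp
    obtain ⟨b, hb, hb1⟩ := R.exists_vec_pos hs' hp'
    have e1 := hv a
    have e2 := hv b
    have n1 := R.vec_nonneg s' hp' hs' a
    have n2 := R.vec_nonneg s hp hs b
    rw [he, R.vec_simple k hk] at e1 e2
    have e3 : a = k := by by_contra h; rw [if_neg h] at e1; omega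
    have e4 : b = k := by by_contra h; rw [if_neg h] at e2; omega
    subst e3; subst e4
    rw [if_pos rfl] at e1
    omega
  · intro hne
    rw [hκ]
    have h6 : (2 : ℤ) ≤ c.2.2.1 ∨ (2 : ℤ) ≤ c.2.2.2 := by
      by_contra hcon
      push Not at hcon
      apply hne
      have a1 : c.2.2.1 = 1 := by omega
      have a2 : c.2.2.2 = 1 := by omega
      exact Prod.ext a1 a2
    rcases h6 with h6 | h6 <;> nlinarith

section use

variable {J : Set ℕ} {Y : Subgroup (GL D.Idx F)}
  (hY1 : ∀ a ∈ D.unipotentRadical F J, ∀ b ∈ D.posUnipotent F, a * b * a⁻¹ * b⁻¹ ∈ Y)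
  (hY2 : D.posUnipotent F ≤ normalizer (Y : Set (GL D.Idx F)))

theorem xr_mem_pos {r : ℕ} (hr : r < D.nroots) (hp : R.half ≤ r) (t : F) : xr R (elemOfGood G F) r t ∈ D.posUnipotent F := by
  rw [posUnipotent_eq_clo]
  exact xr_mem_clo R (elemOfGood G F) (P := D.IsPosRoot) ((R.pos_iff r hr).mpr hp) t

include hY1 in
/-- the word of a commutator lies in `Y` -/
theorem word_mem {s s' : ℕ} (hs : s < D.nroots) (hp : R.half ≤ s) (hs' : s' < D.nroots) (hp' : R.half ≤ s') (hne : s' ≠ s)
    (hout : Out D J s ∨ Out D J s') (t u : F) : wu R.tab (elemOfGood G F) (D.commWord F s s' t u) ∈ Y := by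
  have hn : s' ≠ D.neg s := by
    intro h
    have := R.neg_lt_half hs hp
    omega
  have h1 := conj_xu R.tab (elemOfGood G F) hs hs' hne hn t u
  have h2 : wu R.tab (elemOfGood G F) (D.commWord F s s' t u) = (xu R.tab (elemOfGood G F) s' u)⁻¹ *
      ((xu R.tab (elemOfGood G F) s t)⁻¹ * xu R.tab (elemOfGood G F) s' u * xu R.tab (elemOfGood G F) s t) := by
    rw [h1]; group
  have m1 : (xu R.tab (elemOfGood G F) s t)⁻¹ ∈ D.posUnipotent F := inv_mem (xr_mem_pos R G hs hp t)
  have m2 : (xu R.tab (elemOfGood G F) s' u)⁻¹ ∈ D.posUnipotent F := inv_mem (xr_mem_pos R G hs' hp' u)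
  rcases hout with ho | ho
  · have m3 : (xu R.tab (elemOfGood G F) s t)⁻¹ ∈ D.unipotentRadical F J := inv_mem (xr_mem_radical R G ho t)
    have h3 := inv_mem (hY1 _ m3 _ m2)
    rw [h2]
    convert h3 using 1
    group
  · have m3 : (xu R.tab (elemOfGood G F) s' u)⁻¹ ∈ D.unipotentRadical F J := inv_mem (xr_mem_radical R G ho u)
    have h3 := hY1 _ m3 _ m1
    rw [h2]
    convert h3 using 1
    group

theorem out_of_sum {s s' r : ℕ} (hs : s < D.nroots) (hp : R.half ≤ s) (hs' : s' < D.nroots) (hp' : R.half ≤ s')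
    (hr : r < D.nroots) {a b : ℤ} (ha : 0 ≤ a) (hb : 0 ≤ b) (hv : ∀ i, R.vec r i = a * R.vec s i + b * R.vec s' i) (hout : Out D J r) :
    Out D J s ∨ Out D J s' := by
  rw [out_iff R hr] at hout
  obtain ⟨i, hi, hiJ, h1⟩ := hout
  rw [hv i] at h1
  have n1 := R.vec_nonneg s hp hs i
  have n2 := R.vec_nonneg s' hp' hs' i
  rcases lt_or_ge 0 (R.vec s i) with h2 | h2
  · exact Or.inl ((out_iff R hs).mpr ⟨i, hi, hiJ, h2⟩)
  · refine Or.inr ((out_iff R hs').mpr ⟨i, hi, hiJ, ?_⟩)
    have h3 : R.vec s i = 0 := by omega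
    rw [h3, mul_zero, zero_add] at h1
    by_contra h4
    have h5 : R.vec s' i = 0 := by omega
    rw [h5, mul_zero] at h1
    omega

/-- terms beyond the sum -/
theorem beyond {s s' r : ℕ} (hs : s < D.nroots) (hp : R.half ≤ s) (hs' : s' < D.nroots) (hp' : R.half ≤ s')
    (hr : r < D.nroots) (hv : ∀ i, R.vec r i = R.vec s i + R.vec s' i) (hout : Out D J r)
    {d : ℕ × ℤ × ℕ × ℕ} (hd : d ∈ D.commTerms s s') (hd11 : d.2.2 ≠ (1, 1)) :
    r < d.1 ∧ d.1 < D.nroots ∧ Out D J d.1 ∧ ∀ i < D.rank, d.1 ≠ D.simple i := by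
  obtain ⟨f1, f2, f3, f4, f5⟩ := term_facts R hs hp hs' hp' hd
  have hκ := f5 hd11
  have hκr : R.κ r = R.κ s + R.κ s' := by
    unfold RootFacts.κ
    rw [← Finset.sum_add_distrib]
    refine Finset.sum_congr rfl fun j _ => ?_
    rw [hv j]; ring
  refine ⟨κ_lt_iff R hr f1 (by omega), f1, ?_, f2⟩
  rw [out_iff R hr] at hout
  rw [out_iff R f1]
  obtain ⟨i, hi, hiJ, h1⟩ := hout
  refine ⟨i, hi, hiJ, ?_⟩
  have h2 := f3 i
  have h3 := hv i
  omega

theorem wu_cons (p : ℕ × F) (w : List (ℕ × F)) : wu R.tab (elemOfGood G F) (p :: w) =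
    xu R.tab (elemOfGood G F) p.1 p.2 * wu R.tab (elemOfGood G F) w := by
  unfold wu
  rw [List.map_cons, List.prod_cons]

theorem wu_nil : wu R.tab (elemOfGood G F) ([] : List (ℕ × F)) = 1 := rfl

include hY1 in
theorem xr_mem_of_cert (hcert : ∀ r < D.nroots, D.nroots / 2 ≤ r → HasCert D r) (ha : ∃ a : F, a ≠ 0 ∧ a ≠ 1) :
    ∀ k r : ℕ, D.nroots - r = k → r < D.nroots → Out D J r → (∀ i < D.rank, r ≠ D.simple i) → ∀ t : F,
      xr R (elemOfGood G F) r t ∈ Y := by
  have hn := R.n_eq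
  have hhalf : D.nroots / 2 = R.half := by omega
  intro k
  induction k using Nat.strong_induction_on with
  | _ k ih =>
    intro r hk hr hout hns t
    have hrp := (R.pos_iff r hr).mp hout.1
    rcases hcert r hr (by omega) with ⟨i, hi, h⟩ | ⟨s, s', h⟩ | ⟨s, s', h⟩
    · exact absurd h (hns i hi)
    · unfold certA at h
      simp only [Bool.and_eq_true, decide_eq_true_eq, bne_iff_ne, ne_eq] at h
      obtain ⟨⟨⟨⟨⟨hs1, hs⟩, hs1'⟩, hs'⟩, hne⟩, h⟩ := h
      rw [hhalf] at hs1 hs1'
      cases hct : D.commTerms s s' with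
      | nil => rw [hct] at h; exact absurd h (by simp)
      | cons c rest =>
        rw [hct] at h
        simp only [Bool.and_eq_true, beq_iff_eq, Bool.or_eq_true, List.all_eq_true, bne_iff_ne, ne_eq] at h
        obtain ⟨⟨⟨hcr, hc1⟩, hc11⟩, hrest⟩ := h
        have hcm : c ∈ D.commTerms s s' := by rw [hct]; simp
        obtain ⟨g1, g2, g3, g4⟩ := R.commTerms_vec hs hs' c hcm
        have hv : ∀ i, R.vec r i = R.vec s i + R.vec s' i := by
          intro i
          have := g4 i
          rw [hcr, hc11] at this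
          simp only [Nat.cast_one, one_mul] at this
          exact this
        have hso := out_of_sum R hs hs1 hs' hs1' hr (J := J) one_pos.le one_pos.le (fun i => by rw [hv i]; ring) hout
        have hc0 : (c.2.1 : F) ≠ 0 := by
          rcases hc1 with h1 | h1 <;> rw [h1] <;> simp
        have hw := word_mem R G hY1 hs hs1 hs' hs1' hne hso (-(t / c.2.1)) 1
        unfold ChevalleyDatum.commWord at hw
        rw [hct, List.map_cons, wu_cons R G] at hw
        have h5 := (Subgroup.mul_mem_cancel_right Y (by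
          apply wu_mem
          intro p hp
          obtain ⟨d, hd, rfl⟩ := List.mem_map.mp hp
          have hdm : d ∈ D.commTerms s s' := by rw [hct]; exact List.mem_cons_of_mem _ hd
          obtain ⟨e1, e2, e3, e4⟩ := beyond R hs hs1 hs' hs1' hr hv hout hdm (hrest d hd)
          exact ih (D.nroots - d.1) (by omega) d.1 rfl e2 e3 e4 _)).mp hw
        have h6 : (c.2.1 : F) * (-(-(t / (c.2.1 : F)))) ^ c.2.2.1 * 1 ^ c.2.2.2 = t := by
          rw [hc11]
          simp only [neg_neg, pow_one, mul_one]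
          field_simp
        simp only [h6, hcr] at h5
        exact h5
    · unfold certB at h
      simp only [Bool.and_eq_true, decide_eq_true_eq, bne_iff_ne, ne_eq] at h
      obtain ⟨⟨⟨⟨⟨hs1, hs⟩, hs1'⟩, hs'⟩, hne⟩, h⟩ := h
      rw [hhalf] at hs1 hs1'
      rcases hct : D.commTerms s s' with _ | ⟨c, _ | ⟨d, _ | ⟨e, rest⟩⟩⟩
      · rw [hct] at h; exact absurd h (by simp)
      · rw [hct] at h; exact absurd h (by simp)
      · rw [hct] at h
        simp only [Bool.and_eq_true, beq_iff_eq, Bool.or_eq_true] at h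
        obtain ⟨⟨⟨⟨hc1, hc11⟩, hdr⟩, hd1⟩, hd21⟩ := h
        have hdm : d ∈ D.commTerms s s' := by rw [hct]; simp
        obtain ⟨g1, g2, g3, g4⟩ := R.commTerms_vec hs hs' d hdm
        have hv : ∀ i, R.vec r i = 2 * R.vec s i + 1 * R.vec s' i := by
          intro i
          have := g4 i
          rw [hdr, hd21] at this
          push_cast at this
          exact this
        have hso := out_of_sum R hs hs1 hs' hs1' hr (J := J) two_pos.le one_pos.le hv hout
        have hd0 : (d.2.1 : F) ≠ 0 := by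
          rcases hd1 with h1 | h1 <;> rw [h1] <;> simp
        obtain ⟨a, ha0, ha1⟩ := ha
        have ha1' : a - 1 ≠ 0 := sub_ne_zero.mpr ha1
        set w := t / (d.2.1 * (a - 1)) with hw
        have hw1 := word_mem R G hY1 hs hs1 hs' hs1' hne hso (-1) w
        have hw2 := word_mem R G hY1 hs hs1 hs' hs1' hne hso (-a) (w / a)
        unfold ChevalleyDatum.commWord at hw1 hw2
        rw [hct, List.map_cons, List.map_cons, List.map_nil, wu_cons R G, wu_cons R G, wu_nil R G, mul_one] at hw1 hw2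
        rw [hc11, hd21] at hw1 hw2
        have e1 : (c.2.1 : F) * (-(-1)) ^ 1 * w ^ 1 = (c.2.1 : F) * (-(-a)) ^ 1 * (w / a) ^ 1 := by
          simp only [neg_neg, pow_one]
          field_simp
        simp only at hw1 hw2
        rw [e1] at hw1
        have h7 := mul_mem (inv_mem hw1) hw2
        have h8 : (xu R.tab (elemOfGood G F) c.1 ((c.2.1 : F) * (-(-a)) ^ 1 * (w / a) ^ 1) * xu R.tab (elemOfGood G F) d.1 ((d.2.1 : F) * (-(-1)) ^ 2 * w ^ 1))⁻¹ *
            (xu R.tab (elemOfGood G F) c.1 ((c.2.1 : F) * (-(-a)) ^ 1 * (w / a) ^ 1) * xu R.tab (elemOfGood G F) d.1 ((d.2.1 : F) * (-(-a)) ^ 2 * (w / a) ^ 1)) =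
            xr R (elemOfGood G F) r t := by
          have h9 : ∀ x y z : GL D.Idx F, (x * y)⁻¹ * (x * z) = y⁻¹ * z := by intro x y z; group
          rw [h9]
          show (xr R (elemOfGood G F) d.1 _)⁻¹ * xr R (elemOfGood G F) d.1 _ = _
          rw [xr_inv, xr_add, hdr]
          congr 1
          simp only [neg_neg, pow_one, one_pow, mul_one]
          rw [hw]
          field_simp
          ring
        rw [h8] at h7
        exact h7
      · rw [hct] at h; exact absurd h (by simp)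

end use

end Cfsg.Agent.ChevU
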