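import Cfsg.Agent.ChevGrp.Bruhat

set_option autoImplicit false
set_option linter.unusedSectionVars false
set_option linter.unusedVariables false

/-!
# Involutions in groups with a root system (helper17)

Every involution of `Grp` (or of a coset `Grp c`) is conjugate to an element normalising the torus.
-/

namespace Cfsg.Agent.ChevU

open Cfsg.Agent.ChevGrp Cfsg.Agent.ChevWeyl

variable {l n : ℕ} {S : WSys l n}

section words

theorem N_wd_le (L : List (Fin l)) : S.N (S.wd L) ≤ L.length := by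
  induction L using List.reverseRecOn with
  | nil => rw [WSys.wd_nil, S.N_one]; simp
  | append_singleton L j ih =>
    rw [WSys.wd_append, WSys.wd_cons, WSys.wd_nil, mul_one, List.length_append]
    have h := S.N_le (S.wd L * S.w j) (mul_mem (S.wd_mem L) (S.w_mem j)) j
    rw [mul_assoc, S.w_mul_w, mul_one] at h
    simp only [List.length_cons, List.length_nil]
    omega

theorem exists_reduced {u : Equiv.Perm (Fin n)} (hu : u ∈ S.W) : ∃ L : List (Fin l), S.wd L = u ∧ L.length = S.N u := by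
  refine S.W_induction_right (Q := fun u => ∃ L : List (Fin l), S.wd L = u ∧ L.length = S.N u) ⟨[], rfl, by simp [S.N_one]⟩ ?_ hu
  rintro u hu j hj ⟨L, rfl, h⟩
  refine ⟨L ++ [j], by simp, ?_⟩
  rw [S.N_pos _ hu j hj, ← h]; simp

theorem wd_reverse (L : List (Fin l)) : S.wd L.reverse = (S.wd L)⁻¹ := by
  induction L with
  | nil => simp
  | cons i L ih => rw [List.reverse_cons, WSys.wd_append, WSys.wd_cons, WSys.wd_cons, WSys.wd_nil, mul_one, ih, mul_inv_rev, S.w_inv]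

theorem WN_inv_le {u : Equiv.Perm (Fin n)} (hu : u ∈ S.W) : S.N u⁻¹ ≤ S.N u := by
  obtain ⟨L, rfl, h⟩ := exists_reduced hu
  rw [← h, ← wd_reverse, ← List.length_reverse]
  exact N_wd_le _

theorem WN_inv {u : Equiv.Perm (Fin n)} (hu : u ∈ S.W) : S.N u⁻¹ = S.N u := by
  apply le_antisymm (WN_inv_le hu)
  have := WN_inv_le (inv_mem hu)
  rwa [inv_inv] at this

theorem N_left_pos {u : Equiv.Perm (Fin n)} (hu : u ∈ S.W) {j : Fin l} (h : S.Pos (u⁻¹ (S.p j))) :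
    S.N (S.w j * u) = S.N u + 1 := by
  rw [← WN_inv (mul_mem (S.w_mem j) hu), mul_inv_rev, S.w_inv, S.N_pos _ (inv_mem hu) j h, WN_inv hu]

theorem N_left_neg {u : Equiv.Perm (Fin n)} (hu : u ∈ S.W) {j : Fin l} (h : ¬ S.Pos (u⁻¹ (S.p j))) :
    S.N (S.w j * u) + 1 = S.N u := by
  rw [← WN_inv (mul_mem (S.w_mem j) hu), mul_inv_rev, S.w_inv, S.N_neg (inv_mem hu) h, WN_inv hu]

/-- reflections in simple roots fixed by `w` commute with `w` -/
theorem comm_of_fix {w : Equiv.Perm (Fin n)} (hw : w ∈ S.W) {i : Fin l} (h : w (S.p i) = S.p i) : w * S.w i = S.w i * w := by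
  have := S.conj_w w hw i i h
  rw [mul_inv_eq_iff_eq_mul] at this
  exact this

end words

variable {G : Type*} [Group G] {R : RGrp S G}

section form

theorem X_inf_Ui {i : Fin l} {x : G} (hx : x ∈ R.X (S.p i)) (hx' : x ∈ R.Ui i) : x = 1 := by
  have h1 := (RGrp.act_nn (R := R) i).conj hx
  rw [S.w_p] at h1
  have h2 := RGrp.nn_Ui i x hx'
  have h3 := R.U_inf_V (R.Ui_le_U i h2) (R.X_le_V (by rw [S.pos_neg_iff]; simpa using S.pos_p i) h1)
  have : x = (R.nn i)⁻¹ * (R.nn i * x * (R.nn i)⁻¹) * R.nn i := by group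
  rw [this, h3]; group

/-- `g u = u' g x` -/
theorem exists_unu {g : G} {w : Equiv.Perm (Fin n)} (hg : R.Act g w) {u : G} (hu : u ∈ R.U) :
    ∃ u' ∈ R.U, ∃ x ∈ R.Um w, g * u = u' * g * x := by
  have hw := hg.1
  revert g u
  refine S.W_induction_right (Q := fun w => ∀ {g : G}, R.Act g w → ∀ {u : G}, u ∈ R.U →
    ∃ u' ∈ R.U, ∃ x ∈ R.Um w, g * u = u' * g * x) ?_ ?_ hw
  · intro g hg u hu
    refine ⟨g * u * g⁻¹, ?_, 1, one_mem _, by group⟩
    exact RGrp.act_gen hg (P := S.Pos) (Q := S.Pos) (fun r hr => by simpa using hr) u hu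
  · intro w hw j hj ih g hg u hu
    obtain ⟨y, hy, x, hx, rfl⟩ := RGrp.mem_U' j hu
    have hg' : R.Act (g * (R.nn j)⁻¹) w := by
      have := hg.mul (RGrp.act_nn j).inv
      rwa [mul_assoc, mul_inv_cancel, mul_one] at this
    obtain ⟨b', hb', z, hz, e⟩ := ih hg' (u := R.nn j * y * (R.nn j)⁻¹) (R.Ui_le_U j (RGrp.nn_Ui j y hy))
    have hdesc : ¬ S.Pos ((w * S.w j) (S.p j)) := by
      rw [Equiv.Perm.mul_apply, S.w_p, S.W_neg hw, S.pos_neg_iff]; simpa using hj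
    have hz' : (R.nn j)⁻¹ * z * R.nn j ∈ R.Um (w * S.w j) := by
      have h1 : z ∈ R.Um (w * S.w j * S.w j) := by rw [mul_assoc, S.w_mul_w, mul_one]; exact hz
      have := RGrp.nn_Um (mul_mem hw (S.w_mem j)) hdesc z h1
      exact gen_mono (fun r hr => ⟨hr.1.1, hr.2⟩) this
    refine ⟨b', hb', (R.nn j)⁻¹ * z * R.nn j * x, mul_mem hz' (mem_gen ⟨S.pos_p j, hdesc⟩ hx), ?_⟩
    have e1 : g * (y * x) = (g * (R.nn j)⁻¹ * (R.nn j * y * (R.nn j)⁻¹)) * R.nn j * x := by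
      group
    rw [e1, e]; group

end form

/-- a twisting element -/
structure Tw (R : RGrp S G) (c : G) : Prop where
  act : R.Act c 1
  H : ∀ h ∈ R.H, c * h * c⁻¹ ∈ R.H
  nn : ∀ i, c * R.nn i * c⁻¹ * (R.nn i)⁻¹ ∈ R.H
  sq : c * c ∈ R.H

theorem Tw.one (R : RGrp S G) : Tw R 1 := by
  refine ⟨RGrp.act_one, fun h hh => by simpa using hh, fun i => ?_, ?_⟩
  · simp [one_mem]
  · simp [one_mem]

namespace Tw

variable {c : G} (T : Tw R c)
include T

theorem N {m : G} (hm : m ∈ R.N) : c * m * c⁻¹ ∈ R.N := by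
  have h1 : R.N ≤ R.N.comap (MulAut.conj c).toMonoidHom := by
    refine sup_le ?_ ?_
    · intro h hh
      exact R.H_le_N (T.H h hh)
    · rw [Subgroup.closure_le]
      rintro _ ⟨i, rfl⟩
      show c * R.nn i * c⁻¹ ∈ R.N
      have h2 := mul_mem (R.H_le_N (T.nn i)) (R.nn_mem_N i)
      have e : c * R.nn i * c⁻¹ * (R.nn i)⁻¹ * R.nn i = c * R.nn i * c⁻¹ := by group
      rwa [e] at h2
  exact h1 hm

theorem N' {m : G} (hm : m ∈ R.N) : c⁻¹ * m * c ∈ R.N := by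
  have h1 := mul_mem (mul_mem (inv_mem (R.H_le_N T.sq)) (T.N hm)) (R.H_le_N T.sq)
  have e : (c * c)⁻¹ * (c * m * c⁻¹) * (c * c) = c⁻¹ * m * c := by group
  rwa [e] at h1

theorem H' {m : G} (hm : m ∈ R.H) : c⁻¹ * m * c ∈ R.H := by
  have h1 := mul_mem (mul_mem (inv_mem T.sq) (T.H m hm)) T.sq
  have e : (c * c)⁻¹ * (c * m * c⁻¹) * (c * c) = c⁻¹ * m * c := by group
  rwa [e] at h1

theorem U {u : G} (hu : u ∈ R.U) : c * u * c⁻¹ ∈ R.U :=
  RGrp.act_gen T.act (P := S.Pos) (Q := S.Pos) (fun r hr => by simpa using hr) u hu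

theorem U' {u : G} (hu : u ∈ R.U) : c⁻¹ * u * c ∈ R.U :=
  RGrp.act_gen' T.act (P := S.Pos) (Q := S.Pos) (fun r hr => by simpa using hr) u hu

theorem B {b : G} (hb : b ∈ R.B) : c * b * c⁻¹ ∈ R.B := by
  obtain ⟨u, hu, h, hh, rfl⟩ := RGrp.mem_B.1 hb
  have e : c * (u * h) * c⁻¹ = (c * u * c⁻¹) * (c * h * c⁻¹) := by group
  rw [e]
  exact mul_mem (R.U_le_B (T.U hu)) (R.H_le_B (T.H h hh))

theorem B' {b : G} (hb : b ∈ R.B) : c⁻¹ * b * c ∈ R.B := by
  obtain ⟨u, hu, h, hh, rfl⟩ := RGrp.mem_B.1 hb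
  have e : c⁻¹ * (u * h) * c = (c⁻¹ * u * c) * (c⁻¹ * h * c) := by group
  rw [e]
  exact mul_mem (R.U_le_B (T.U' hu)) (R.H_le_B (T.H' hh))

/-- elements of the coset `N c` acting as `w` -/
theorem acts {m : G} (hm : m * c⁻¹ ∈ R.N) : ∃ w, R.Act m w := by
  obtain ⟨w, hw⟩ := RGrp.exists_act hm
  refine ⟨w, ?_⟩
  have := hw.mul T.act
  rwa [inv_mul_cancel_right, mul_one] at this

/-- the double coset determines the Weyl group element -/
theorem act_eq {m m' : G} {w w' : Equiv.Perm (Fin n)} (hm : m * c⁻¹ ∈ R.N) (hw : R.Act m w) (hm' : m' * c⁻¹ ∈ R.N)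
    (hw' : R.Act m' w') {b b' : G} (hb : b ∈ R.B) (hb' : b' ∈ R.B) (e : m' = b * m * b') : w = w' := by
  have h1 : R.Act (m * c⁻¹) w := by have := hw.mul T.act.inv; rwa [inv_one, mul_one] at this
  have h2 : R.Act (m' * c⁻¹) w' := by have := hw'.mul T.act.inv; rwa [inv_one, mul_one] at this
  refine RGrp.act_eq_of_bnb h1 hm h2 hm' hb (b' := c * b' * c⁻¹) (T.B hb') ?_
  rw [e]; group

theorem conj_mem {m y : G} (hm : m * c⁻¹ ∈ R.N) (hy : y ∈ R.N) : y⁻¹ * m * y * c⁻¹ ∈ R.N := by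
  have h1 := mul_mem (mul_mem (inv_mem hy) hm) (T.N hy)
  have e : y⁻¹ * (m * c⁻¹) * (c * y * c⁻¹) = y⁻¹ * m * y * c⁻¹ := by group
  rwa [e] at h1

theorem conj_mem' {m y : G} (hm : m * c⁻¹ ∈ R.N) (hy : y ∈ R.N) : y * m * y⁻¹ * c⁻¹ ∈ R.N := by
  have := T.conj_mem hm (inv_mem hy)
  rwa [inv_inv] at this

/-- analysis of an involution `m u` -/
theorem invol {m u : G} {w : Equiv.Perm (Fin n)} (hm : m * c⁻¹ ∈ R.N) (hw : R.Act m w) (hu : u ∈ R.U)
    (h2 : (m * u) * (m * u) = 1) : m * m = 1 ∧ m * u * m⁻¹ = u⁻¹ ∧ w * w = 1 := by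
  -- `w` is an involution
  have hmi : m⁻¹ * c⁻¹ ∈ R.N := by
    have h3 := mul_mem (T.N' (inv_mem hm)) (inv_mem (R.H_le_N T.sq))
    have e : c⁻¹ * (m * c⁻¹)⁻¹ * c * (c * c)⁻¹ = m⁻¹ * c⁻¹ := by group
    rwa [e] at h3
  have e0 : m = u⁻¹ * m⁻¹ * u⁻¹ := by
    have h3 : m * u = (m * u)⁻¹ := eq_inv_of_mul_eq_one_left h2
    have h4 : m = (m * u)⁻¹ * u⁻¹ := by rw [← h3]; group
    rw [mul_inv_rev] at h4
    exact h4
  have hww : w⁻¹ = w := T.act_eq hmi hw.inv hm hw (inv_mem (R.U_le_B hu)) (inv_mem (R.U_le_B hu)) e0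
  have hw2 : w * w = 1 := by
    nth_rw 1 [← hww]; exact inv_mul_cancel w
  -- `m m ∈ H`
  have hmm : m * m ∈ R.H := by
    apply RGrp.mem_H_of_act_one
    · have h3 := mul_mem (mul_mem hm (T.N hm)) (R.H_le_N T.sq)
      have e : m * c⁻¹ * (c * (m * c⁻¹) * c⁻¹) * (c * c) = m * m := by group
      rwa [e] at h3
    · have := hw.mul hw
      rwa [hw2] at this
  have e1 : m * u * m⁻¹ = u⁻¹ * (m * m)⁻¹ := by
    have h3 : m * u = (m * u)⁻¹ := eq_inv_of_mul_eq_one_left h2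
    rw [h3]; group
  obtain ⟨u', hu', x, hx, e2⟩ := exists_unu hw hu
  have hB : m * u * m⁻¹ ∈ R.B := by
    rw [e1]; exact mul_mem (inv_mem (R.U_le_B hu)) (inv_mem (R.H_le_B hmm))
  have h3 : m * x * m⁻¹ = 1 := by
    apply R.B_inf_V _ (RGrp.conj_Um hw x hx)
    have e3 : m * x * m⁻¹ = u'⁻¹ * (m * u * m⁻¹) := by rw [e2]; group
    rw [e3]; exact mul_mem (inv_mem (R.U_le_B hu')) hB
  have h4 : m * u * m⁻¹ = u' := by
    rw [e2]
    have : u' * m * x * m⁻¹ = u' * (m * x * m⁻¹) := by group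
    rw [this, h3, mul_one]
  have h5 : (m * m)⁻¹ = 1 := by
    apply R.UH
    · have : (m * m)⁻¹ = u * u' := by rw [← h4, e1]; group
      rw [this]; exact mul_mem hu hu'
    · exact inv_mem hmm
  refine ⟨inv_eq_one.mp h5, ?_, hw2⟩
  rw [e1, h5, mul_one]

end Tw

section maximal

variable {c : G} (T : Tw R c) {w : Equiv.Perm (Fin n)}

/-- all elements of the `Grp`-class of `s` lie in double cosets of length at most `N w` -/
def Mx (R : RGrp S G) (c : G) (w : Equiv.Perm (Fin n)) (s : G) : Prop :=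
  ∀ y ∈ R.Grp, ∀ m' w' b b', m' * c⁻¹ ∈ R.N → R.Act m' w' → b ∈ R.B → b' ∈ R.B → y⁻¹ * s * y = b * m' * b' → S.N w' ≤ S.N w

theorem Mx.conj {s : G} (h : Mx R c w s) {z : G} (hz : z ∈ R.Grp) : Mx R c w (z⁻¹ * s * z) := by
  intro y hy m' w' b b' h1 h2 h3 h4 e
  refine h (z * y) (mul_mem hz hy) m' w' b b' h1 h2 h3 h4 ?_
  rw [← e]; group

include T in
/-- a positive simple root made positive is fixed, and the `X_i`-component of `u` is trivial -/
theorem max_step {m u : G} (hm : m * c⁻¹ ∈ R.N) (hw : R.Act m w) (hu : u ∈ R.U) (hM : Mx R c w (m * u)) (hww : w * w = 1)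
    {i : Fin l} (hi : S.Pos (w (S.p i))) : w (S.p i) = S.p i ∧ u ∈ R.Ui i := by
  have hwW := hw.1
  have hwi : w⁻¹ = w := inv_eq_of_mul_eq_one_left hww
  have hnG : R.nn i ∈ R.Grp := R.N_le_Grp (R.nn_mem_N i)
  obtain ⟨x, hx, y, hy, rfl⟩ := RGrp.mem_U i hu
  have hm' : (R.nn i)⁻¹ * m * R.nn i * c⁻¹ ∈ R.N := T.conj_mem hm (R.nn_mem_N i)
  have hA : R.Act ((R.nn i)⁻¹ * m * R.nn i) (S.w i * w * S.w i) := by
    have := ((RGrp.act_nn (R := R) i).inv.mul hw).mul (RGrp.act_nn i)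
    rwa [S.w_inv] at this
  have hy' : (R.nn i)⁻¹ * y * R.nn i ∈ R.U := R.Ui_le_U i (RGrp.nn_Ui' i y hy)
  have hfix : w (S.p i) = S.p i := by
    by_contra hne
    have hx2 := (RGrp.act_nn (R := R) i).conj' (hw.conj hx)
    rw [S.w_inv] at hx2
    have hp2 : S.Pos (S.w i (w (S.p i))) := S.pos_w i _ hi hne
    have h1 := hM (R.nn i) hnG _ _ ((R.nn i)⁻¹ * (m * x * m⁻¹) * R.nn i) ((R.nn i)⁻¹ * y * R.nn i) hm' hA
      (R.U_le_B (R.X_le_U hp2 hx2)) (R.U_le_B hy') (by group)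
    have h2 : S.N (w * S.w i) = S.N w + 1 := S.N_pos w hwW i hi
    have h3 : S.N (S.w i * w * S.w i) = S.N (S.w i * w) + 1 := by
      apply S.N_pos _ (mul_mem (S.w_mem i) hwW)
      rw [Equiv.Perm.mul_apply]; exact hp2
    have h4 : S.N (S.w i * w) = S.N w + 1 := N_left_pos hwW (by rw [hwi]; exact hi)
    omega
  refine ⟨hfix, ?_⟩
  have hcomm := comm_of_fix hwW hfix
  have hAw : S.w i * w * S.w i = w := by rw [mul_assoc, hcomm, ← mul_assoc, S.w_mul_w, one_mul]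
  rw [hAw] at hA
  by_cases hx1 : x = 1
  · rw [hx1, one_mul]; exact hy
  · exfalso
    have hx2 := (RGrp.act_nn (R := R) i).conj' hx
    rw [S.w_inv, S.w_p] at hx2
    have hne : (R.nn i)⁻¹ * x * R.nn i ≠ 1 := by
      intro h; apply hx1
      have : x = R.nn i * ((R.nn i)⁻¹ * x * R.nn i) * (R.nn i)⁻¹ := by group
      rw [this, h]; group
    obtain ⟨a, ha, h, hh, b, hb, e⟩ := R.rank1 i _ hx2 hne
    have ha' := hA.conj ha
    rw [hfix] at ha'
    have hm2 : ((R.nn i)⁻¹ * m * R.nn i * R.nn i) * c⁻¹ ∈ R.N := by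
      have h1 := mul_mem hm' (T.N (R.nn_mem_N i))
      have e : (R.nn i)⁻¹ * m * R.nn i * c⁻¹ * (c * R.nn i * c⁻¹) = ((R.nn i)⁻¹ * m * R.nn i * R.nn i) * c⁻¹ := by group
      rwa [e] at h1
    have h1 := hM (R.nn i) hnG _ _ ((R.nn i)⁻¹ * m * R.nn i * a * ((R.nn i)⁻¹ * m * R.nn i)⁻¹) (h * b * ((R.nn i)⁻¹ * y * R.nn i))
      hm2 (hA.mul (RGrp.act_nn i)) (R.U_le_B (R.X_le_U (S.pos_p i) ha'))
      (mul_mem (mul_mem (R.H_le_B hh) (R.U_le_B (R.X_le_U (S.pos_p i) hb))) (R.U_le_B hy')) (by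
        have e2 : (R.nn i)⁻¹ * (m * (x * y)) * R.nn i = (R.nn i)⁻¹ * m * R.nn i * ((R.nn i)⁻¹ * x * R.nn i) * ((R.nn i)⁻¹ * y * R.nn i) := by
          group
        rw [e2, e]; group)
    have h2 : S.N (w * S.w i) = S.N w + 1 := S.N_pos w hwW i hi
    omega

include T in
/-- `m` commutes with the root subgroups of the fixed simple roots -/
theorem max_comm {m u : G} (hm : m * c⁻¹ ∈ R.N) (hw : R.Act m w) (hu : u ∈ R.U) (hM : Mx R c w (m * u)) (hww : w * w = 1)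
    {i : Fin l} (hi : S.Pos (w (S.p i))) : ∀ z ∈ R.X (S.p i), m * z = z * m := by
  intro z hz
  have hwi : w⁻¹ = w := inv_eq_of_mul_eq_one_left hww
  obtain ⟨hfix, hui⟩ := max_step T hm hw hu hM hww hi
  have hzU := R.X_le_U (S.pos_p i) hz
  have hzG : z ∈ R.Grp := R.B_le_Grp (R.U_le_B hzU)
  have h1 := hw.conj' (inv_mem hz)
  rw [hwi, hfix] at h1
  have h2 : z⁻¹ * u * z ∈ R.Ui i := by
    have := R.XU i z⁻¹ (inv_mem hz) u hui
    rwa [inv_inv] at this
  have h3 : m⁻¹ * z⁻¹ * m * z ∈ R.X (S.p i) := mul_mem h1 hz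
  have e : z⁻¹ * (m * u) * z = m * ((m⁻¹ * z⁻¹ * m * z) * (z⁻¹ * u * z)) := by group
  have h4 := hM.conj hzG
  rw [e] at h4
  have h5 := (max_step T hm hw (mul_mem (R.X_le_U (S.pos_p i) h3) (R.Ui_le_U i h2)) h4 hww hi).2
  have h6 : m⁻¹ * z⁻¹ * m * z ∈ R.Ui i := by
    have := mul_mem h5 (inv_mem h2)
    rwa [mul_inv_cancel_right] at this
  have h7 := X_inf_Ui h3 h6
  have h8 : m * (m⁻¹ * z⁻¹ * m * z) = z⁻¹ * m * z := by group
  rw [h7, mul_one] at h8
  have h9 : z * m = z * (z⁻¹ * m * z) := by rw [← h8]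
  rw [h9]; group

include T in
/-- the unipotent part is trivial -/
theorem max_trivial {m u : G} (hm : m * c⁻¹ ∈ R.N) (hw : R.Act m w) (hu : u ∈ R.U) (hM : Mx R c w (m * u)) (hww : w * w = 1)
    (hinv : m * u * m⁻¹ = u⁻¹) : u = 1 := by
  have hwW := hw.1
  have key : ∀ a ∈ S.W, (∀ r, S.Pos r → ¬ S.Pos (a r) → S.Pos (w r)) → ∀ m u, m * c⁻¹ ∈ R.N → R.Act m w → u ∈ R.U →
      Mx R c w (m * u) → ∀ g, R.Act g a → g * u * g⁻¹ ∈ R.U := by
    intro a ha
    refine S.W_induction_right (Q := fun a => (∀ r, S.Pos r → ¬ S.Pos (a r) → S.Pos (w r)) → ∀ m u, m * c⁻¹ ∈ R.N → R.Act m w → u ∈ R.U →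
      Mx R c w (m * u) → ∀ g, R.Act g a → g * u * g⁻¹ ∈ R.U) ?_ ?_ ha
    · intro _ m u _ _ hu _ g hg
      exact RGrp.act_gen hg (P := S.Pos) (Q := S.Pos) (fun r hr => by simpa using hr) u hu
    · intro a ha j hj ih hcond m u hm hw hu hM g hg
      have hpj : S.Pos (w (S.p j)) := by
        apply hcond _ (S.pos_p j)
        rw [Equiv.Perm.mul_apply, S.w_p, S.W_neg ha, S.pos_neg_iff]; simpa using hj
      obtain ⟨hfix, huj⟩ := max_step T hm hw hu hM hww hpj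
      have hcomm := comm_of_fix hwW hfix
      have hAw : S.w j * w * S.w j = w := by rw [mul_assoc, hcomm, ← mul_assoc, S.w_mul_w, one_mul]
      have hnG : (R.nn j)⁻¹ ∈ R.Grp := inv_mem (R.N_le_Grp (R.nn_mem_N j))
      have hA : R.Act (R.nn j * m * (R.nn j)⁻¹) w := by
        have := ((RGrp.act_nn (R := R) j).mul hw).mul (RGrp.act_nn j).inv
        rwa [S.w_inv, hAw] at this
      have hM' := hM.conj hnG
      have e : (R.nn j)⁻¹⁻¹ * (m * u) * (R.nn j)⁻¹ = (R.nn j * m * (R.nn j)⁻¹) * (R.nn j * u * (R.nn j)⁻¹) := by group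
      rw [e] at hM'
      have h1 := ih ?_ _ _ (T.conj_mem' hm (R.nn_mem_N j)) hA (R.Ui_le_U j (RGrp.nn_Ui j u huj)) hM' (g * (R.nn j)⁻¹) (by
        have := hg.mul (RGrp.act_nn j).inv
        rwa [mul_assoc, mul_inv_cancel, mul_one] at this)
      · have e2 : g * (R.nn j)⁻¹ * (R.nn j * u * (R.nn j)⁻¹) * (g * (R.nn j)⁻¹)⁻¹ = g * u * g⁻¹ := by group
        rwa [e2] at h1
      · intro r hr har
        have hne : r ≠ S.p j := by rintro rfl; exact har hj
        have h2 := hcond (S.w j r) (S.pos_w j r hr hne) (by rw [Equiv.Perm.mul_apply, S.w_w]; exact har)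
        have h3 : w (S.w j r) = S.w j (w r) := by
          have := congrArg (fun f : Equiv.Perm (Fin n) => f r) hcomm
          exact this
        rw [h3] at h2
        by_contra h4
        have h5 : S.Pos (S.neg (w r)) := (S.pos_neg_iff _).2 h4
        have h6 : ¬ S.Pos (S.w j (S.neg (w r))) := by rw [S.w_neg, S.pos_neg_iff]; simpa using h2
        have h7 := (S.neg_w_iff h5).1 h6
        have h8 : w r = S.neg (S.p j) := by rw [← h7, S.neg_neg]
        have h9 : r = S.neg (S.p j) := by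
          have h10 : w (w r) = r := by
            have := congrArg (fun f : Equiv.Perm (Fin n) => f r) hww
            exact this
          rw [← h10, h8, S.W_neg hwW, hfix]
        rw [h9, S.pos_neg_iff] at hr
        exact hr (S.pos_p j)
  obtain ⟨u0, hu0, h0⟩ := S.exists_longest'
  obtain ⟨L, rfl⟩ := S.exists_wd hu0
  have h1 := key (S.wd L * w) (mul_mem (S.wd_mem L) hwW) ?_ m u hm hw hu hM (R.nd L * m) (RGrp.act_nd L |>.mul hw)
  · have h2 : R.nd L * m * u * (R.nd L * m)⁻¹ ∈ R.V := by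
      have e : R.nd L * m * u * (R.nd L * m)⁻¹ = R.nd L * (m * u * m⁻¹) * (R.nd L)⁻¹ := by group
      rw [e, hinv]
      exact RGrp.act_gen (RGrp.act_nd L) (P := S.Pos) (Q := fun r => ¬ S.Pos r) h0 _ (inv_mem hu)
    have h3 := R.U_inf_V h1 h2
    have e : u = (R.nd L * m)⁻¹ * (R.nd L * m * u * (R.nd L * m)⁻¹) * (R.nd L * m) := by group
    rw [e, h3]; group
  · intro r hr h
    by_contra h2
    have h3 := h0 _ ((S.pos_neg_iff (w r)).2 h2)
    rw [S.W_neg (S.wd_mem L), S.pos_neg_iff, not_not] at h3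
    exact h h3

include T in
/-- **Involutions normalise tori**: every involution in the coset `Grp c` is conjugate to an element `m` of `N c`, whose Weyl
group element `w` fixes every simple root which it does not make negative, and `m` commutes with the root subgroups of the
fixed simple roots. -/
theorem exists_conj_monomial {t : G} (ht : t * c⁻¹ ∈ R.Grp) (h2 : t * t = 1) :
    ∃ y ∈ R.Grp, ∃ m w, y⁻¹ * t * y = m ∧ m * c⁻¹ ∈ R.N ∧ R.Act m w ∧ m * m = 1 ∧ w * w = 1 ∧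
      ∀ i, ¬ S.Pos (w (S.p i)) ∨ (w (S.p i) = S.p i ∧ ∀ z ∈ R.X (S.p i), m * z = z * m) := by
  classical
  -- the set of Weyl group elements occurring
  let P : Set (Equiv.Perm (Fin n)) := {w | ∃ y ∈ R.Grp, ∃ m b b', m * c⁻¹ ∈ R.N ∧ R.Act m w ∧ b ∈ R.B ∧ b' ∈ R.B ∧
    y⁻¹ * t * y = b * m * b'}
  have hne : P.Nonempty := by
    obtain ⟨b, hb, m, hm, b', hb', e⟩ := RGrp.exists_bnb ht
    obtain ⟨w, hw⟩ := RGrp.exists_act hm
    refine ⟨w, 1, one_mem _, m * c, b, c⁻¹ * b' * c, ?_, ?_, hb, T.B' hb', ?_⟩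
    · rwa [mul_inv_cancel_right]
    · have := hw.mul T.act; rwa [mul_one] at this
    · have : t = b * m * b' * c := by rw [← e]; group
      rw [this]; group
  obtain ⟨w, ⟨y, hy, m, b, b', hm, hw, hb, hb', e⟩, hmax⟩ := Set.exists_max_image P S.N (Set.toFinite _) hne
  -- normal form
  obtain ⟨h, hh, u, hu, hbb⟩ := RGrp.mem_B'.1 (mul_mem hb' hb)
  have hyb : y * b ∈ R.Grp := mul_mem hy (R.B_le_Grp hb)
  have e1 : (y * b)⁻¹ * t * (y * b) = (m * h) * u := by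
    have : (y * b)⁻¹ * t * (y * b) = b⁻¹ * (y⁻¹ * t * y) * b := by group
    rw [this, e, mul_assoc (m) h u, ← hbb]; group
  have hm1 : m * h * c⁻¹ ∈ R.N := by
    have h1 := mul_mem hm (R.H_le_N (T.H h hh))
    have e : m * c⁻¹ * (c * h * c⁻¹) = m * h * c⁻¹ := by group
    rwa [e] at h1
  have hw1 : R.Act (m * h) w := by have := hw.mul (RGrp.act_H hh); rwa [mul_one] at this
  have hM : Mx R c w (m * h * u) := by
    intro y' hy' m' w' b₁ b₂ g1 g2 g3 g4 e2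
    apply hmax w'
    refine ⟨y * b * y', mul_mem hyb hy', m', b₁, b₂, g1, g2, g3, g4, ?_⟩
    rw [← e2, ← e1]; group
  have hs2 : (m * h * u) * (m * h * u) = 1 := by
    rw [← e1]
    have : (y * b)⁻¹ * t * (y * b) * ((y * b)⁻¹ * t * (y * b)) = (y * b)⁻¹ * (t * t) * (y * b) := by group
    rw [this, h2]; group
  obtain ⟨h3, h4, h5⟩ := T.invol hm1 hw1 hu hs2
  have h6 := max_trivial T hm1 hw1 hu hM h5 h4
  refine ⟨y * b, hyb, m * h, w, by rw [e1, h6, mul_one], hm1, hw1, h3, h5, fun i => ?_⟩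
  by_cases hi : S.Pos (w (S.p i))
  · exact Or.inr ⟨(max_step T hm1 hw1 hu hM h5 hi).1, max_comm T hm1 hw1 hu hM h5 hi⟩
  · exact Or.inl hi

end maximal

end Cfsg.Agent.ChevU
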