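import Cfsg.Agent.ChevU.InvChev
import Cfsg.Agent.ChevU.BMat

set_option autoImplicit false
set_option linter.unusedSectionVars false
set_option linter.unusedVariables false

/-!
# Canonical forms of involutions in characteristic two (helper17)
-/

namespace Cfsg.Agent.ChevU

open Cfsg.Lie Cfsg.Agent.Chev Cfsg.Agent.ChevGrp Cfsg.Agent.ChevWeyl Matrix

variable {D : ChevalleyDatum} {F : Type*} [Field F] [CharP F 2] (H : Good D) (E : DData D)

/-- the action of a word in fundamental reflections -/
def wact (D : ChevalleyDatum) (W : List ℕ) (r : ℕ) : ℕ := W.foldr (fun i r => D.reflectRoot i r) r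

theorem wact_cons (i : ℕ) (W : List ℕ) (r : ℕ) : wact D (i :: W) r = D.reflectRoot i (wact D W r) := rfl

theorem wact_append (W W' : List ℕ) (r : ℕ) : wact D (W ++ W') r = wact D W (wact D W' r) := by
  unfold wact; rw [List.foldr_append]

include H in
theorem wact_lt {W : List ℕ} (hW : ∀ i ∈ W, i < D.rank) {r : ℕ} (hr : r < D.nroots) : wact D W r < D.nroots := by
  induction W with
  | nil => exact hr
  | cons i W ih => exact H.w_lt i (hW i List.mem_cons_self) _ (ih fun j hj => hW j (List.mem_cons_of_mem _ hj))

include H in
theorem wact_orth {W : List ℕ} (hW : ∀ i ∈ W, i < D.rank) {r s : ℕ} (hr : r < D.nroots) (hs : s < D.nroots) (h : Orth D r s) :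
    Orth D (wact D W r) (wact D W s) := by
  induction W with
  | nil => exact h
  | cons i W ih =>
    have hW' : ∀ j ∈ W, j < D.rank := fun j hj => hW j (List.mem_cons_of_mem _ hj)
    exact (ih hW').refl H (hW i List.mem_cons_self) (wact_lt H hW' hr) (wact_lt H hW' hs)

include H in
theorem wact_fix {W : List ℕ} {r : ℕ} (hr : r < D.nroots) (hW : ∀ i ∈ W, i < D.rank ∧ D.cartan i r = 0) : wact D W r = r := by
  induction W with
  | nil => rfl
  | cons i W ih =>
    rw [wact_cons, ih fun j hj => hW j (List.mem_cons_of_mem _ hj)]
    exact refl_of_cartan_zero H (hW i List.mem_cons_self).1 hr (hW i List.mem_cons_self).2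

theorem nn_mem_group {i : ℕ} (hi : i < D.rank) : Inst.nn H F i ∈ D.group F := by
  show Inst.nU H (D.simple i) 1 ∈ D.group F
  rw [nU_eq2]
  exact mul_mem (mul_mem (xU_mem_group H (H.simple_lt i hi) 1) (xU_mem_group H (neg_lt H.toGood1 (H.simple_lt i hi)) 1))
    (xU_mem_group H (H.simple_lt i hi) 1)

theorem eqv_refl {i : ℕ} (hi : i < D.rank) {L : List ℕ} (hL : ∀ r ∈ L, r < D.nroots) :
    Eqv D F (tL H F L) (tL H F (L.map fun r => D.reflectRoot i r)) := by
  refine ⟨Inst.nn H F i, nn_mem_group H hi, ?_⟩
  induction L with
  | nil => simp [tL]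
  | cons r L ih =>
    rw [List.map_cons, tL_cons, tL_cons, ← ih fun s hs => hL s (List.mem_cons_of_mem _ hs), ← nn_conj H hi (hL r List.mem_cons_self)]
    group

theorem eqv_wact {W : List ℕ} (hW : ∀ i ∈ W, i < D.rank) {L : List ℕ} (hL : ∀ r ∈ L, r < D.nroots) :
    Eqv D F (tL H F L) (tL H F (L.map (wact D W))) := by
  induction W with
  | nil =>
    have : L.map (wact D []) = L := by
      conv_rhs => rw [← List.map_id L]
      rfl
    rw [this]
    exact Eqv.refl _
  | cons i W ih =>
    have hW' : ∀ j ∈ W, j < D.rank := fun j hj => hW j (List.mem_cons_of_mem _ hj)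
    refine (ih hW').trans ?_
    have h1 := eqv_refl (F := F) H (hW i List.mem_cons_self) (L := L.map (wact D W)) (by
      intro r hr
      rw [List.mem_map] at hr
      obtain ⟨s, hs, rfl⟩ := hr
      exact wact_lt H hW' (hL s hs))
    rwa [List.map_map] at h1

/-- raise a root by fundamental reflections in `J` -/
def raise (D : ChevalleyDatum) (J : List ℕ) : ℕ → ℕ → ℕ
  | 0, r => r
  | n + 1, r => match J.find? (fun i => decide (D.cartan i r < 0)) with
    | none => r
    | some i => raise D J n (D.reflectRoot i r)

theorem raise_word (J : List ℕ) (k r : ℕ) : ∃ W : List ℕ, (∀ i ∈ W, i ∈ J) ∧ raise D J k r = wact D W r := by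
  induction k generalizing r with
  | zero => exact ⟨[], by simp, rfl⟩
  | succ k ih =>
    unfold raise
    split
    · exact ⟨[], by simp, rfl⟩
    · rename_i i hi
      obtain ⟨W, hW, e⟩ := ih (D.reflectRoot i r)
      refine ⟨W ++ [i], ?_, ?_⟩
      · intro j hj
        rw [List.mem_append, List.mem_singleton] at hj
        rcases hj with hj | rfl
        · exact hW j hj
        · exact List.mem_of_find?_eq_some hi
      · rw [e, wact_append]; rfl

/-- all members of the list are orthogonal to `s` -/
def allOrth (D : ChevalleyDatum) (L : List ℕ) (s : ℕ) : Bool := L.all fun f => decide (Orth D f s)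

/-- the fundamental reflections fixing all members -/
def Jof (D : ChevalleyDatum) (L : List ℕ) : List ℕ := (List.range D.rank).filter fun i => L.all fun f => decide (D.cartan i f = 0)

/-- check of a node -/
def chkNode (D : ChevalleyDatum) (nodes : List (List ℕ)) (leafs : List (List ℕ × List ℕ × List ℕ)) (L : List ℕ) : Bool :=
  (L.all fun r => decide (r < D.nroots)) &&
  (List.range D.nroots).all fun r => !(allOrth D L r) ||
    (nodes.contains (L ++ [raise D (Jof D L) D.nroots r]) || leafs.any fun l => l.1 == L ++ [raise D (Jof D L) D.nroots r])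

/-- pairwise orthogonality -/
def pwOrth (D : ChevalleyDatum) : List ℕ → Bool
  | [] => true
  | r :: L => (L.all fun s => decide (Orth D r s)) && pwOrth D L

theorem pwOrth_iff (L : List ℕ) : pwOrth D L = true ↔ L.Pairwise (Orth D) := by
  induction L with
  | nil => simp [pwOrth]
  | cons r L ih => rw [pwOrth, Bool.and_eq_true, ih, List.pairwise_cons, List.all_eq_true]; simp

/-- check of a leaf `(F, v, F')`: `v t(F) v⁻¹ = t(F')`, `F'` shorter -/
def chkLeaf (D : ChevalleyDatum) (l : List ℕ × List ℕ × List ℕ) : Bool :=
  chkWord D (l.2.1 ++ l.1) (l.2.2 ++ l.2.1) && decide (l.2.2.length < l.1.length) && pwOrth D l.2.2 &&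
  (l.2.1.all fun r => decide (r < D.nroots)) && (l.2.2.all fun r => decide (r < D.nroots)) &&
  (List.range D.nroots).all fun s => !(allOrth D l.1 s) || (allOrth D l.2.1 s && allOrth D l.2.2 s)

theorem tL_coe (L : List ℕ) : ((tL H F L : GL D.Idx F) : Matrix D.Idx D.Idx F) = (L.map fun r => D.x F r 1).prod := by
  induction L with
  | nil => simp [tL]
  | cons r L ih => rw [tL_cons, Units.val_mul, ih, List.map_cons, List.prod_cons, Inst.val_xU]

theorem tL_eq_of_chk {L L' : List ℕ} (h : chkWord D L L' = true) : tL H F L = tL H F L' := by
  apply Units.ext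
  rw [tL_coe, tL_coe]
  exact eq_of_chkWord h

theorem tL_mem {L : List ℕ} (hL : ∀ r ∈ L, r < D.nroots) : tL H F L ∈ D.group F := by
  unfold tL
  apply Subgroup.list_prod_mem
  intro x hx
  rw [List.mem_map] at hx
  obtain ⟨r, hr, rfl⟩ := hx
  exact xU_mem_group H (hL r hr) 1

/-- **canonical form** -/
theorem canon (hc : chkOC D = true) {nodes : List (List ℕ)} {leafs : List (List ℕ × List ℕ × List ℕ)}
    (h0 : [] ∈ nodes) (hn : nodes.all (chkNode D nodes leafs) = true) (hl : leafs.all (chkLeaf D) = true) :
    ∀ L : List ℕ, (∀ r ∈ L, r < D.nroots) → L.Pairwise (Orth D) → ∃ L' ∈ nodes, Eqv D F (tL H F L) (tL H F L') := by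
  rw [List.all_eq_true] at hn hl
  intro L
  induction hk : L.length using Nat.strong_induction_on generalizing L with
  | _ k ih =>
    intro hL hO
    -- inner induction
    have inner : ∀ m : ℕ, ∀ (R P : List ℕ), R.length = m → P ∈ nodes → (∀ r ∈ P ++ R, r < D.nroots) → (P ++ R).Pairwise (Orth D) →
        (P ++ R).length = k → ∃ L' ∈ nodes, Eqv D F (tL H F (P ++ R)) (tL H F L') := by
      intro m
      induction m with
      | zero =>
        intro R P hR hP _ _ _
        rw [List.length_eq_zero_iff.1 hR, List.append_nil]
        exact ⟨P, hP, Eqv.refl _⟩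
      | succ m ihm =>
        intro R P hR hP hlt hpw hlen
        obtain ⟨r, R, rfl⟩ := List.exists_cons_of_length_eq_add_one hR
        have hrlt : r < D.nroots := hlt r (by simp)
        have hP1 : ∀ f ∈ P, f < D.nroots := fun f hf => hlt f (by simp [hf])
        have hR1 : ∀ f ∈ R, f < D.nroots := fun f hf => hlt f (by simp [hf])
        rw [List.pairwise_append, List.pairwise_cons] at hpw
        obtain ⟨hPP, ⟨hrR, hRR⟩, hPR⟩ := hpw
        have hnode := hn P hP
        unfold chkNode at hnode
        rw [Bool.and_eq_true, List.all_eq_true, List.all_eq_true] at hnode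
        have h1 := hnode.2 r (List.mem_range.2 hrlt)
        rw [Bool.or_eq_true, Bool.or_eq_true] at h1
        have h2 : allOrth D P r = true := by
          unfold allOrth
          rw [List.all_eq_true]
          intro f hf
          exact decide_eq_true (hPR f hf r List.mem_cons_self)
        obtain ⟨W, hW, hWr⟩ := raise_word (D := D) (Jof D P) D.nroots r
        have hJ : ∀ i ∈ Jof D P, i < D.rank ∧ ∀ f ∈ P, D.cartan i f = 0 := by
          intro i hi
          unfold Jof at hi
          rw [List.mem_filter, List.mem_range, List.all_eq_true] at hi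
          exact ⟨hi.1, fun f hf => of_decide_eq_true (hi.2 f hf)⟩
        have hW' : ∀ i ∈ W, i < D.rank := fun i hi => (hJ i (hW i hi)).1
        have hfix : P.map (wact D W) = P := by
          conv_rhs => rw [← List.map_id P]
          apply List.map_congr_left
          intro f hf
          exact wact_fix H (hP1 f hf) fun i hi => ⟨hW' i hi, (hJ i (hW i hi)).2 f hf⟩
        have e1 : (P ++ r :: R).map (wact D W) = (P ++ [raise D (Jof D P) D.nroots r]) ++ R.map (wact D W) := by
          rw [List.map_append, hfix, List.map_cons, ← hWr, List.append_assoc]; rfl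
        have heq := eqv_wact (F := F) H hW' hlt
        rw [e1] at heq
        have hR2 : ∀ f ∈ R.map (wact D W), f < D.nroots := by
          intro f hf
          rw [List.mem_map] at hf
          obtain ⟨g, hg, rfl⟩ := hf
          exact wact_lt H hW' (hR1 g hg)
        have hc1 : raise D (Jof D P) D.nroots r < D.nroots := by rw [hWr]; exact wact_lt H hW' hrlt
        have hlt2 : ∀ f ∈ (P ++ [raise D (Jof D P) D.nroots r]) ++ R.map (wact D W), f < D.nroots := by
          intro f hf
          rw [List.mem_append, List.mem_append, List.mem_singleton] at hf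
          rcases hf with (hf | rfl) | hf
          · exact hP1 f hf
          · exact hc1
          · exact hR2 f hf
        have hpw2 : ((P ++ [raise D (Jof D P) D.nroots r]) ++ R.map (wact D W)).Pairwise (Orth D) := by
          rw [← e1, List.pairwise_map]
          have h3 : (P ++ r :: R).Pairwise (fun a b => a < D.nroots ∧ b < D.nroots ∧ Orth D a b) := by
            have h4 : (P ++ r :: R).Pairwise (Orth D) := by
              rw [List.pairwise_append, List.pairwise_cons]; exact ⟨hPP, ⟨hrR, hRR⟩, hPR⟩
            exact h4.imp_of_mem fun ha hb hab => ⟨hlt _ ha, hlt _ hb, hab⟩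
          exact h3.imp fun ⟨ha, hb, hab⟩ => wact_orth H hW' ha hb hab
        have hlen2 : ((P ++ [raise D (Jof D P) D.nroots r]) ++ R.map (wact D W)).length = k := by
          rw [← e1, List.length_map]; exact hlen
        rcases h1 with h1 | h1 | h1
        · rw [h2] at h1; simp at h1
        · rw [List.contains_iff_mem] at h1
          obtain ⟨L', hL', h5⟩ := ihm (R.map (wact D W)) _ (by rw [List.length_map]; simpa using hR) h1 hlt2 hpw2 hlen2
          exact ⟨L', hL', heq.trans h5⟩
        · rw [List.any_eq_true] at h1
          obtain ⟨⟨F1, v, F2⟩, hmem, h1⟩ := h1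
          rw [beq_iff_eq] at h1
          have hleaf := hl _ hmem
          unfold chkLeaf at hleaf
          simp only [Bool.and_eq_true, decide_eq_true_eq, List.all_eq_true] at hleaf
          obtain ⟨⟨⟨⟨⟨c1, c2⟩, c3⟩, c4⟩, c5⟩, c6⟩ := hleaf
          rw [pwOrth_iff] at c3
          simp only at h1
          have horth : ∀ s ∈ R.map (wact D W), (∀ b ∈ v, Orth D b s) ∧ (∀ f ∈ F2, Orth D f s) := by
            intro s hs
            have h6 := c6 s (List.mem_range.2 (hR2 s hs))
            rw [Bool.or_eq_true, Bool.and_eq_true] at h6
            have h7 : allOrth D F1 s = true := by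
              unfold allOrth
              rw [List.all_eq_true]
              intro f hf
              rw [h1] at hf
              exact decide_eq_true ((List.pairwise_append.1 hpw2).2.2 f hf s hs)
            rcases h6 with h6 | h6
            · rw [h7] at h6; simp at h6
            · unfold allOrth at h6
              rw [List.all_eq_true, List.all_eq_true] at h6
              exact ⟨fun b hb => of_decide_eq_true (h6.1 b hb), fun b hb => of_decide_eq_true (h6.2 b hb)⟩
          have hconj : Eqv D F (tL H F (F1 ++ R.map (wact D W))) (tL H F (F2 ++ R.map (wact D W))) := by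
            refine ⟨tL H F v, tL_mem H c4, ?_⟩
            have h8 := tL_eq_of_chk (F := F) H c1
            rw [tL_append, tL_append] at h8
            have h9 : tL H F v * tL H F (R.map (wact D W)) = tL H F (R.map (wact D W)) * tL H F v := by
              apply prod_comm
              intro x hx
              rw [List.mem_map] at hx
              obtain ⟨s, hs, rfl⟩ := hx
              symm
              apply prod_comm
              intro y hy
              rw [List.mem_map] at hy
              obtain ⟨b, hb, rfl⟩ := hy
              exact (orth_comm H hc (c4 b hb) (hR2 s hs) ((horth s hs).1 b hb) 1 1).symm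
            rw [tL_append, tL_append]
            calc tL H F v * (tL H F F1 * tL H F (R.map (wact D W))) * (tL H F v)⁻¹
                = (tL H F v * tL H F F1) * tL H F (R.map (wact D W)) * (tL H F v)⁻¹ := by group
              _ = tL H F F2 * (tL H F v * tL H F (R.map (wact D W))) * (tL H F v)⁻¹ := by rw [h8]; group
              _ = _ := by rw [h9]; group
          have hlt3 : ∀ r ∈ F2 ++ R.map (wact D W), r < D.nroots := by
            intro f hf
            rw [List.mem_append] at hf
            rcases hf with hf | hf
            · exact c5 f hf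
            · exact hR2 f hf
          have hpw3 : (F2 ++ R.map (wact D W)).Pairwise (Orth D) := by
            rw [List.pairwise_append]
            exact ⟨c3, (List.pairwise_append.1 hpw2).2.1, fun a ha b hb => (horth b hb).2 a ha⟩
          rw [← h1] at heq hlen2
          rw [List.length_append] at hlen2
          obtain ⟨L', hL', h5⟩ := ih (F2 ++ R.map (wact D W)).length (by rw [List.length_append]; omega) _ rfl hlt3 hpw3
          exact ⟨L', hL', heq.trans (hconj.trans h5)⟩
    have := inner L.length L [] rfl h0 (by simpa using hL) (by simpa using hO) (by simpa using hk)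
    simpa using this

/-- conjugacy by an explicit word -/
theorem eqv_of_chk {v L L' : List ℕ} (hv : ∀ r ∈ v, r < D.nroots) (h : chkWord D (v ++ L) (L' ++ v) = true) :
    Eqv D F (tL H F L) (tL H F L') := by
  refine ⟨tL H F v, tL_mem H hv, ?_⟩
  have h8 := tL_eq_of_chk (F := F) H h
  rw [tL_append, tL_append] at h8
  rw [h8]; group

end Cfsg.Agent.ChevU
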