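import Cfsg.Agent.ChevU.InvRefl

set_option autoImplicit false
set_option linter.unusedSectionVars false
set_option linter.unusedVariables false

/-!
# Involutions in Chevalley groups: reduction to products of orthogonal root elements (helper17)
-/

namespace Cfsg.Agent.ChevU

open Cfsg.Lie Cfsg.Agent.Chev Cfsg.Agent.ChevGrp Cfsg.Agent.ChevWeyl Matrix

variable {D : ChevalleyDatum} {F : Type*} [Field F] (H : Good D) (E : DData D)

/-- orthogonality of roots -/
def Orth (D : ChevalleyDatum) (r s : ℕ) : Prop := pr D r s = 0 ∧ pr D s r = 0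

instance (D : ChevalleyDatum) (r s : ℕ) : Decidable (Orth D r s) := by unfold Orth; infer_instance

theorem Orth.symm {r s : ℕ} (h : Orth D r s) : Orth D s r := ⟨h.2, h.1⟩

include H in
theorem Orth.refl {i r s : ℕ} (hi : i < D.rank) (hr : r < D.nroots) (hs : s < D.nroots) (h : Orth D r s) :
    Orth D (D.reflectRoot i r) (D.reflectRoot i s) :=
  ⟨by rw [pr_w H.toGood1 hi hr hs]; exact h.1, by rw [pr_w H.toGood1 hi hs hr]; exact h.2⟩

include H in
theorem pr_neg_left {r s : ℕ} (hr : r < D.nroots) (hs : s < D.nroots) : pr D (D.neg r) s = - pr D r s := by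
  unfold pr
  rw [← Finset.sum_neg_distrib]
  apply Finset.sum_congr rfl
  intro j hj
  rw [H.neg_eq r hr, H.cc_neg' j (Finset.mem_range.1 hj) r hr]
  ring

include H in
theorem pr_self_eq {r : ℕ} (hr : r < D.nroots) : pr D r r = 2 := H.pair_self r hr

include H in
theorem cartan_neg {i s : ℕ} (hi : i < D.rank) (hs : s < D.nroots) : D.cartan i (D.neg s) = - D.cartan i s := by
  rw [← pr_simple H.toGood1 hi, ← pr_simple H.toGood1 hi, pr_neg_right H.toGood1 (H.simple_lt i hi) hs]

include H in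
theorem refl_of_cartan_zero {i s : ℕ} (hi : i < D.rank) (hs : s < D.nroots) (h : D.cartan i s = 0) : D.reflectRoot i s = s := by
  unfold ChevalleyDatum.reflectRoot
  have h1 : s ≠ D.simple i := by rintro rfl; rw [H.cartan_self i hi] at h; omega
  have h2 : s ≠ D.neg (D.simple i) := by
    rintro rfl
    rw [cartan_neg H hi (H.simple_lt i hi), H.cartan_self i hi] at h
    omega
  simp only [if_neg h1, if_neg h2, h, lt_irrefl, if_false]

include H E in
theorem orthRel : OrthRel E.rp.wsys (fun r s : Fin D.nroots => Orth D r s) where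
  symm := fun r s h => h.symm
  w := fun i r s h => by
    have := h.refl H i.2 r.2 s.2
    rwa [Inst.reflect_eq E, Inst.reflect_eq E] at this
  fix := fun i s h => by
    have h1 : ((E.rp.wsys.p i : Fin D.nroots) : ℕ) = D.simple i := E.hp i
    have h2 : D.cartan i s = 0 := by
      rw [← pr_simple H.toGood1 i.2, ← h1]; exact h.1
    have h3 := refl_of_cartan_zero H i.2 s.2 h2
    rw [Inst.reflect_eq E] at h3
    exact Fin.ext h3
  neg := fun r s h => by
    have h1 : ((E.rp.wsys.neg s : Fin D.nroots) : ℕ) = D.neg s := E.hneg s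
    refine ⟨?_, ?_⟩
    · have := h.1
      rw [h1, pr_neg_right H.toGood1 r.2 s.2] at this
      omega
    · have := h.2
      rw [h1, pr_neg_left H s.2 r.2] at this
      omega
  of_inv := fun r s w hw hr hs => by
    have key : ∀ a b : Fin D.nroots, pr D (w a : Fin D.nroots) (w b : Fin D.nroots) = pr D a b := by
      refine E.rp.wsys.W_induction (Q := fun w => ∀ a b : Fin D.nroots, pr D (w a : Fin D.nroots) (w b : Fin D.nroots) = pr D a b)
        (fun a b => rfl) ?_ hw
      intro i u _ ih a b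
      rw [Equiv.Perm.mul_apply, Equiv.Perm.mul_apply, ← Inst.reflect_eq E, ← Inst.reflect_eq E, pr_w H.toGood1 i.2 (u a).2 (u b).2, ih]
    have h1 : ((E.rp.wsys.neg s : Fin D.nroots) : ℕ) = D.neg s := E.hneg s
    have h2 := key r s
    have h3 := key s r
    rw [hr, hs, h1, pr_neg_right H.toGood1 r.2 s.2] at h2
    rw [hr, hs, h1, pr_neg_left H s.2 r.2] at h3
    exact ⟨by omega, by omega⟩

/-! ### Characteristic two -/

section char2

variable [CharP F 2]

include H in
theorem xU_sq {r : ℕ} (hr : r < D.nroots) (t : F) : xU H.toGood2 r t * xU H.toGood2 r t = 1 := by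
  rw [Inst.xU_add H.toGood2 hr, CharTwo.add_self_eq_zero, Inst.xU_zero]

include H in
theorem eta_one {i r : ℕ} (hi : i < D.rank) (hr : r < D.nroots) : ((eta D i r : ℤ) : F) = 1 := by
  rcases Inst.eta_pm (F := F) H hi hr with h | h
  · exact h
  · rw [h, CharTwo.neg_eq]

theorem nn_conj {i r : ℕ} (hi : i < D.rank) (hr : r < D.nroots) (t : F) :
    Inst.nn H F i * xU H.toGood2 r t * (Inst.nn H F i)⁻¹ = xU H.toGood2 (D.reflectRoot i r) t := by
  rw [Inst.nn_xU H hi hr, eta_one H hi hr, one_mul]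

theorem nn_conj_n {i r : ℕ} (hi : i < D.rank) (hr : r < D.nroots) :
    Inst.nn H F i * Inst.nU H r 1 * (Inst.nn H F i)⁻¹ = Inst.nU H (D.reflectRoot i r) (1 : F) := by
  rw [Inst.nn_nU H hi hr, eta_one H hi hr, one_mul]

theorem nU_eq2 (r : ℕ) : Inst.nU H r (1 : F) = xU H.toGood2 r 1 * xU H.toGood2 (D.neg r) 1 * xU H.toGood2 r 1 := by
  rw [Inst.nU_eq, inv_one, CharTwo.neg_eq]

theorem nU_sq2 (r : ℕ) : Inst.nU H r (1 : F) * Inst.nU H r 1 = 1 := by
  have h := Inst.nU_neg H r (1 : F)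
  rw [CharTwo.neg_eq] at h
  nth_rw 1 [h]
  exact inv_mul_cancel _

/-- conjugation property of `n_r` -/
theorem nU_conj_self {r : ℕ} (hr : r < D.nroots) :
    Inst.nU H r (1 : F) * xU H.toGood2 r 1 * (Inst.nU H r (1 : F))⁻¹ = xU H.toGood2 (D.neg r) 1 := by
  refine simple_induction H (P := fun r => Inst.nU H r (1 : F) * xU H.toGood2 r 1 * (Inst.nU H r (1 : F))⁻¹ = xU H.toGood2 (D.neg r) 1)
    ?_ ?_ r hr
  · intro i hi r hr ih
    rw [← nn_conj H hi hr, ← nn_conj_n H hi hr, ← w_neg H.toGood1 hi hr, ← nn_conj H hi (neg_lt H.toGood1 hr), ← ih]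
    group
  · intro i hi
    have h1 := nn_conj (F := F) H hi (H.simple_lt i hi) 1
    have h2 : D.reflectRoot i (D.simple i) = D.neg (D.simple i) := by simp [ChevalleyDatum.reflectRoot]
    rw [h2] at h1
    exact h1

/-- `n_r` is conjugate to `x_r(1)` -/
theorem conj_nU {r : ℕ} (hr : r < D.nroots) :
    xU H.toGood2 (D.neg r) (1 : F) * Inst.nU H r (1 : F) * (xU H.toGood2 (D.neg r) (1 : F))⁻¹ = xU H.toGood2 r 1 := by
  have h1 := nU_conj_self (F := F) H hr
  rw [mul_inv_eq_iff_eq_mul] at h1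
  have hx := xU_sq (F := F) H hr 1
  have hy := xU_sq (F := F) H (neg_lt H.toGood1 hr) 1
  rw [← h1, mul_inv_eq_iff_eq_mul, nU_eq2]
  have : xU H.toGood2 r (1 : F) * xU H.toGood2 (D.neg r) 1 * xU H.toGood2 r 1 * xU H.toGood2 r 1 =
    xU H.toGood2 r (1 : F) * xU H.toGood2 (D.neg r) 1 * (xU H.toGood2 r 1 * xU H.toGood2 r 1) := by group
  rw [this, hx, mul_one]

/-- the commutation hypothesis: root subgroups of orthogonal roots commute (to be checked on fundamental roots) -/
def chkOC (D : ChevalleyDatum) : Bool :=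
  (List.range D.rank).all fun i => (List.range D.nroots).all fun s =>
    !decide (D.cartan i s = 0) || (D.commTerms (D.simple i) s).all fun c => c.2.1 % 2 == 0

theorem orth_comm (hc : chkOC D = true) {r s : ℕ} (hr : r < D.nroots) (hs : s < D.nroots) (h : Orth D r s) (t u : F) :
    xU H.toGood2 r t * xU H.toGood2 s u = xU H.toGood2 s u * xU H.toGood2 r t := by
  refine simple_induction H (P := fun r => ∀ s < D.nroots, Orth D r s → ∀ t u : F,
    xU H.toGood2 r t * xU H.toGood2 s u = xU H.toGood2 s u * xU H.toGood2 r t) ?_ ?_ r hr s hs h t u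
  · intro i hi r hr ih s hs hrs t u
    have h1 : Orth D r (D.reflectRoot i s) := by
      have := hrs.refl H hi (H.w_lt i hi r hr) hs
      rwa [H.w_w i hi r hr] at this
    have h2 := ih _ (H.w_lt i hi s hs) h1 t u
    have h3 := nn_conj (F := F) H hi hr t
    have h4 := nn_conj (F := F) H hi (H.w_lt i hi s hs) u
    rw [H.w_w i hi s hs] at h4
    rw [← h3, ← h4]
    calc Inst.nn H F i * xU H.toGood2 r t * (Inst.nn H F i)⁻¹ * (Inst.nn H F i * xU H.toGood2 (D.reflectRoot i s) u * (Inst.nn H F i)⁻¹)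
        = Inst.nn H F i * (xU H.toGood2 r t * xU H.toGood2 (D.reflectRoot i s) u) * (Inst.nn H F i)⁻¹ := by group
      _ = Inst.nn H F i * (xU H.toGood2 (D.reflectRoot i s) u * xU H.toGood2 r t) * (Inst.nn H F i)⁻¹ := by rw [h2]
      _ = _ := by group
  · intro i hi s hs hrs t u
    have h1 : D.cartan i s = 0 := by rw [← pr_simple H.toGood1 hi]; exact hrs.1
    have hne : s ≠ D.simple i := by rintro rfl; rw [H.cartan_self i hi] at h1; omega
    have hne' : s ≠ D.neg (D.simple i) := by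
      rintro rfl
      rw [cartan_neg H hi (H.simple_lt i hi), H.cartan_self i hi] at h1
      omega
    have h2 := H.comm (F := F) (H.simple_lt i hi) hs hne hne' t u
    have h3 : D.wordMat F (D.commWord F (D.simple i) s t u) = 1 := by
      unfold chkOC at hc
      rw [List.all_eq_true] at hc
      have h4 := hc i (List.mem_range.2 hi)
      rw [List.all_eq_true] at h4
      have h5 := h4 s (List.mem_range.2 hs)
      rw [h1] at h5
      simp only [decide_true, Bool.not_true, Bool.false_or, List.all_eq_true] at h5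
      unfold ChevalleyDatum.wordMat ChevalleyDatum.commWord
      rw [List.map_map]
      apply List.prod_eq_one
      intro x hx
      rw [List.mem_map] at hx
      obtain ⟨c, hc, rfl⟩ := hx
      have h6 := h5 c hc
      rw [beq_iff_eq] at h6
      have h7 : ((c.2.1 : ℤ) : F) = 0 := by
        have h8 : ((c.2.1 : ℤ) : F) = ((c.2.1 % 2 : ℤ) : F) := by
          conv_lhs => rw [← Int.emod_add_mul_ediv c.2.1 2]
          push_cast
          rw [(CharTwo.two_eq_zero : (2 : F) = 0), zero_mul, add_zero]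
        rw [h8, h6]; simp
      simp only [Function.comp_apply, h7, zero_mul]
      exact x_zero H.toGood1 _
    rw [h3, mul_one] at h2
    exact Units.ext h2.symm

/-- product of root elements -/
def tL (H : Good D) (F : Type*) [Field F] (L : List ℕ) : GL D.Idx F := (L.map fun r => xU H.toGood2 r (1 : F)).prod
/-- product of the `n_r` -/
def nL (H : Good D) (F : Type*) [Field F] (L : List ℕ) : GL D.Idx F := (L.map fun r => Inst.nU H r (1 : F)).prod
/-- product of negative root elements -/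
def gL (H : Good D) (F : Type*) [Field F] (L : List ℕ) : GL D.Idx F := (L.map fun r => xU H.toGood2 (D.neg r) (1 : F)).prod

theorem prod_comm {G : Type*} [Group G] {a : G} {L : List G} (h : ∀ x ∈ L, a * x = x * a) : a * L.prod = L.prod * a := by
  induction L with
  | nil => simp
  | cons x L ih =>
    rw [List.prod_cons, ← mul_assoc, h x List.mem_cons_self, mul_assoc, ih fun y hy => h y (List.mem_cons_of_mem _ hy), mul_assoc]

theorem tL_cons (r : ℕ) (L : List ℕ) : tL H F (r :: L) = xU H.toGood2 r 1 * tL H F L := by simp [tL]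
theorem nL_cons (r : ℕ) (L : List ℕ) : nL H F (r :: L) = Inst.nU H r 1 * nL H F L := by simp [nL]
theorem gL_cons (r : ℕ) (L : List ℕ) : gL H F (r :: L) = xU H.toGood2 (D.neg r) 1 * gL H F L := by simp [gL]
theorem tL_append (L L' : List ℕ) : tL H F (L ++ L') = tL H F L * tL H F L' := by simp [tL]

include H in
theorem orth_neg_right {r s : ℕ} (hr : r < D.nroots) (hs : s < D.nroots) (h : Orth D r s) : Orth D r (D.neg s) :=
  ⟨by rw [pr_neg_right H.toGood1 hr hs, h.1, neg_zero], by rw [pr_neg_left H hs hr, h.2, neg_zero]⟩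

include H in
theorem orth_neg_left {r s : ℕ} (hr : r < D.nroots) (hs : s < D.nroots) (h : Orth D r s) : Orth D (D.neg r) s :=
  (orth_neg_right H hs hr h.symm).symm

theorem orth_comm_n (hc : chkOC D = true) {r s : ℕ} (hr : r < D.nroots) (hs : s < D.nroots) (h : Orth D r s) (u : F) :
    Inst.nU H r 1 * xU H.toGood2 s u = xU H.toGood2 s u * Inst.nU H r 1 := by
  have hn := neg_lt H.toGood1 hr
  have h1 := orth_comm (F := F) H hc hr hs h 1 u
  have h2 := orth_comm (F := F) H hc hn hs (orth_neg_left H hr hs h) 1 u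
  rw [nU_eq2]
  calc xU H.toGood2 r 1 * xU H.toGood2 (D.neg r) 1 * xU H.toGood2 r 1 * xU H.toGood2 s u
      = xU H.toGood2 r 1 * xU H.toGood2 (D.neg r) 1 * (xU H.toGood2 r 1 * xU H.toGood2 s u) := by group
    _ = xU H.toGood2 r 1 * (xU H.toGood2 (D.neg r) 1 * xU H.toGood2 s u) * xU H.toGood2 r 1 := by rw [h1]; group
    _ = (xU H.toGood2 r 1 * xU H.toGood2 s u) * xU H.toGood2 (D.neg r) 1 * xU H.toGood2 r 1 := by rw [h2]; group
    _ = _ := by rw [h1]; group

theorem conj_nL (hc : chkOC D = true) {L : List ℕ} (hL : ∀ r ∈ L, r < D.nroots) (hO : L.Pairwise (Orth D)) :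
    gL H F L * nL H F L * (gL H F L)⁻¹ = tL H F L := by
  induction L with
  | nil => simp [gL, nL, tL]
  | cons r L ih =>
    rw [List.pairwise_cons] at hO
    have hr := hL r List.mem_cons_self
    have hL' : ∀ s ∈ L, s < D.nroots := fun s hs => hL s (List.mem_cons_of_mem _ hs)
    have ih' := ih hL' hO.2
    have h1 : Inst.nU H r (1 : F) * gL H F L = gL H F L * Inst.nU H r (1 : F) := by
      apply prod_comm
      intro x hx
      rw [List.mem_map] at hx
      obtain ⟨s, hs, rfl⟩ := hx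
      exact orth_comm_n H hc hr (neg_lt H.toGood1 (hL' s hs)) (orth_neg_right H hr (hL' s hs) (hO.1 s hs)) 1
    have h2 : xU H.toGood2 (D.neg r) (1 : F) * tL H F L = tL H F L * xU H.toGood2 (D.neg r) (1 : F) := by
      apply prod_comm
      intro x hx
      rw [List.mem_map] at hx
      obtain ⟨s, hs, rfl⟩ := hx
      exact orth_comm H hc (neg_lt H.toGood1 hr) (hL' s hs) (orth_neg_left H hr (hL' s hs) (hO.1 s hs)) 1 1
    have h3 := conj_nU (F := F) H hr
    rw [gL_cons, nL_cons, tL_cons]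
    calc xU H.toGood2 (D.neg r) 1 * gL H F L * (Inst.nU H r 1 * nL H F L) * (xU H.toGood2 (D.neg r) 1 * gL H F L)⁻¹
        = xU H.toGood2 (D.neg r) 1 * (gL H F L * Inst.nU H r 1) * nL H F L * (gL H F L)⁻¹ * (xU H.toGood2 (D.neg r) 1)⁻¹ := by group
      _ = xU H.toGood2 (D.neg r) 1 * Inst.nU H r 1 * (gL H F L * nL H F L * (gL H F L)⁻¹) * (xU H.toGood2 (D.neg r) 1)⁻¹ := by
          rw [← h1]; group
      _ = xU H.toGood2 (D.neg r) 1 * Inst.nU H r 1 * (tL H F L * (xU H.toGood2 (D.neg r) 1)⁻¹) := by rw [ih']; group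
      _ = (xU H.toGood2 (D.neg r) 1 * Inst.nU H r 1 * (xU H.toGood2 (D.neg r) 1)⁻¹) * tL H F L := by
          have h4 : tL H F L * (xU H.toGood2 (D.neg r) (1 : F))⁻¹ = (xU H.toGood2 (D.neg r) (1 : F))⁻¹ * tL H F L := by
            rw [eq_inv_mul_iff_mul_eq, ← mul_assoc, h2]; group
          rw [h4]; group
      _ = _ := by rw [h3]

theorem tL_sq (hc : chkOC D = true) {L : List ℕ} (hL : ∀ r ∈ L, r < D.nroots) (hO : L.Pairwise (Orth D)) :
    tL H F L * tL H F L = 1 := by
  induction L with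
  | nil => simp [tL]
  | cons r L ih =>
    rw [List.pairwise_cons] at hO
    have hr := hL r List.mem_cons_self
    have hL' : ∀ s ∈ L, s < D.nroots := fun s hs => hL s (List.mem_cons_of_mem _ hs)
    have h2 : xU H.toGood2 r (1 : F) * tL H F L = tL H F L * xU H.toGood2 r (1 : F) := by
      apply prod_comm
      intro x hx
      rw [List.mem_map] at hx
      obtain ⟨s, hs, rfl⟩ := hx
      exact orth_comm H hc hr (hL' s hs) (hO.1 s hs) 1 1
    rw [tL_cons]
    calc xU H.toGood2 r 1 * tL H F L * (xU H.toGood2 r 1 * tL H F L)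
        = (xU H.toGood2 r 1 * tL H F L) * xU H.toGood2 r 1 * tL H F L := by group
      _ = (tL H F L * xU H.toGood2 r 1) * xU H.toGood2 r 1 * tL H F L := by rw [h2]
      _ = tL H F L * (xU H.toGood2 r 1 * xU H.toGood2 r 1) * tL H F L := by group
      _ = 1 := by rw [xU_sq H hr, mul_one, ih hL' hO.2]

theorem nL_sq (hc : chkOC D = true) {L : List ℕ} (hL : ∀ r ∈ L, r < D.nroots) (hO : L.Pairwise (Orth D)) :
    nL H F L * nL H F L = 1 := by
  have h1 := conj_nL (F := F) H hc hL hO
  have h2 : nL H F L = (gL H F L)⁻¹ * tL H F L * gL H F L := by rw [← h1]; group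
  rw [h2]
  calc (gL H F L)⁻¹ * tL H F L * gL H F L * ((gL H F L)⁻¹ * tL H F L * gL H F L) = (gL H F L)⁻¹ * (tL H F L * tL H F L) * gL H F L := by group
    _ = 1 := by rw [tL_sq H hc hL hO]; group

include E in
/-- `n_r` acts as the reflection in `r` -/
theorem act_nU (r : Fin D.nroots) : (chev E H F).Act (Inst.nU H (r : ℕ) (1 : F)) (sg E.rp.wsys r) ∧
    Inst.nU H (r : ℕ) (1 : F) ∈ (chev E H F).N := by
  obtain ⟨a, ha, i, hai⟩ := E.rp.wsys.exists_conj_p r
  obtain ⟨L, rfl⟩ := E.rp.wsys.exists_wd ha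
  obtain ⟨η, h1, h2⟩ := Inst.word_nU (F := F) E H L (E.rp.p i) (Or.inl rfl)
  have h1' : η = 1 := by rcases h1 with h1 | h1; exacts [h1, by rw [h1, CharTwo.neg_eq]]
  have h3 : E.rp.wsys.wd L (E.rp.p i) = r := hai
  have h4 : ((E.rp.p i : Fin D.nroots) : ℕ) = D.simple i := E.hp i
  rw [h3, h4, h1'] at h2
  rw [sg_eq E.rp.wsys (E.rp.wsys.wd_mem L) hai, ← h2]
  have h5 : (chev E H F).nd L = (L.map fun i : Fin D.rank => Inst.nn H F (i : ℕ)).prod := rfl
  rw [← h5]
  constructor
  · exact ((RGrp.act_nd L).mul (RGrp.act_nn i)).mul (RGrp.act_nd L).inv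
  · have h6 : (chev E H F).nd L ∈ (chev E H F).N := by
      unfold RGrp.nd
      apply Subgroup.list_prod_mem
      intro x hx
      rw [List.mem_map] at hx
      obtain ⟨j, _, rfl⟩ := hx
      exact (chev E H F).nn_mem_N j
    exact mul_mem (mul_mem h6 ((chev E H F).nn_mem_N i)) (inv_mem h6)

include E in
theorem act_nL (L : List (Fin D.nroots)) : (chev E H F).Act (nL H F (L.map fun r : Fin D.nroots => (r : ℕ))) ((L.map (sg E.rp.wsys)).prod) ∧
    nL H F (L.map fun r : Fin D.nroots => (r : ℕ)) ∈ (chev E H F).N := by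
  induction L with
  | nil => exact ⟨RGrp.act_one, one_mem _⟩
  | cons r L ih =>
    rw [List.map_cons, nL_cons, List.map_cons, List.prod_cons]
    exact ⟨(act_nU H E r).1.mul ih.1, mul_mem (act_nU H E r).2 ih.2⟩

/-- equivalence under conjugation in the Chevalley group -/
def Eqv (D : ChevalleyDatum) (F : Type*) [Field F] (a b : GL D.Idx F) : Prop := ∃ g ∈ D.group F, g * a * g⁻¹ = b

theorem Eqv.refl (a : GL D.Idx F) : Eqv D F a a := ⟨1, one_mem _, by group⟩
theorem Eqv.symm {a b : GL D.Idx F} (h : Eqv D F a b) : Eqv D F b a := by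
  obtain ⟨g, hg, rfl⟩ := h
  exact ⟨g⁻¹, inv_mem hg, by group⟩
theorem Eqv.trans {a b c : GL D.Idx F} (h : Eqv D F a b) (h' : Eqv D F b c) : Eqv D F a c := by
  obtain ⟨g, hg, rfl⟩ := h
  obtain ⟨g', hg', rfl⟩ := h'
  exact ⟨g' * g, mul_mem hg' hg, by group⟩

include H in
theorem xU_mem_group {r : ℕ} (hr : r < D.nroots) (t : F) : xU H.toGood2 r t ∈ D.group F := by
  refine Subgroup.subset_closure ⟨⟨r, hr⟩, t, ?_⟩
  rw [Inst.val_xU, x_eq hr]

/-- elements of the torus have odd order -/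
theorem exists_sqrt_torus [Fintype F] {h : GL D.Idx F} (hpow : h ^ (Fintype.card F - 1) = 1) : ∃ k : ℕ, (h ^ k) * (h ^ k) = h := by
  obtain ⟨n, hn⟩ : ∃ n : ℕ, Fintype.card F = 2 ^ (n + 1) := by
    obtain ⟨n, hp, hn⟩ := FiniteField.card F 2
    obtain ⟨k, hk⟩ := Nat.exists_eq_succ_of_ne_zero n.ne_zero
    exact ⟨k, by rw [hn, hk]⟩
  have h1 : Fintype.card F = 2 * 2 ^ n := by
    rw [hn, pow_succ']
  refine ⟨2 ^ n, ?_⟩
  rw [← pow_add]
  have h2 : 2 ^ n + 2 ^ n = (Fintype.card F - 1) + 1 := by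
    have := Fintype.card_pos (α := F)
    omega
  rw [h2, pow_add, hpow, one_mul, pow_one]

set_option maxHeartbeats 1000000 in
include E in
/-- an involution of the monomial group is conjugate to a product of orthogonal root elements -/
theorem exists_tL_of_monomial [Fintype F] (hc : chkOC D = true) (hpow : ∀ h ∈ D.diagonalSubgroup F, h ^ (Fintype.card F - 1) = 1)
    {m : GL D.Idx F} {w : Equiv.Perm (Fin D.nroots)} (hm : m ∈ (chev E H F).N) (hw : (chev E H F).Act m w) (hmm : m * m = 1)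
    (hww : w * w = 1) : ∃ L : List ℕ, (∀ r ∈ L, r < D.nroots) ∧ L.Pairwise (Orth D) ∧ Eqv D F m (tL H F L) := by
  obtain ⟨L, hL, hLw⟩ := exists_orth (orthRel H E) hw.1 hww
  have hL' : (L.map fun r : Fin D.nroots => (r : ℕ)).Pairwise (Orth D) := by
    rw [List.pairwise_map]; exact hL
  have hlt : ∀ r ∈ (L.map fun r : Fin D.nroots => (r : ℕ)), r < D.nroots := by
    intro r hr
    rw [List.mem_map] at hr
    obtain ⟨s, _, rfl⟩ := hr
    exact s.2
  refine ⟨_, hlt, hL', ?_⟩
  obtain ⟨h1, h2⟩ := act_nL (F := F) H E L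
  rw [← hLw] at h1
  set ν := nL H F (L.map fun r : Fin D.nroots => (r : ℕ)) with hν
  have hνν : ν * ν = 1 := nL_sq H hc hlt hL'
  have hνi : ν⁻¹ = ν := inv_eq_of_mul_eq_one_left hνν
  -- `h = ν⁻¹ m ∈ H`
  have hh : ν⁻¹ * m ∈ D.diagonalSubgroup F := by
    have h3 : ν⁻¹ * m ∈ (chev E H F).H := by
      apply RGrp.mem_H_of_act_one (mul_mem (inv_mem h2) hm)
      have := h1.inv.mul hw
      rwa [inv_mul_cancel] at this
    rwa [chev_H] at h3
  obtain ⟨k, hk⟩ := exists_sqrt_torus (hpow _ hh)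
  set h := ν⁻¹ * m with hhdef
  have hm' : m = ν * h := by rw [hhdef]; group
  have h4 : ν * h * ν⁻¹ = h⁻¹ := by
    rw [hm'] at hmm
    rw [hνi, eq_inv_iff_mul_eq_one]
    calc ν * h * ν * h = (ν * h) * (ν * h) := by group
      _ = 1 := hmm
  have h5 : ν * h ^ k * ν⁻¹ = (h ^ k)⁻¹ := by
    rw [← conj_pow, h4, inv_pow]
  have h6 : (h ^ k) * m * (h ^ k)⁻¹ = ν := by
    have h7 : ν * h ^ k = (h ^ k)⁻¹ * ν := by rw [← h5]; group
    have h8 : h ^ k * ν = ν * (h ^ k)⁻¹ := by
      rw [mul_eq_of_eq_inv_mul]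
      rw [← mul_assoc, ← h7]; group
    rw [hm']
    nth_rw 2 [← hk]
    calc h ^ k * (ν * (h ^ k * h ^ k)) * (h ^ k)⁻¹ = (h ^ k * ν) * h ^ k := by group
      _ = ν := by rw [h8]; group
  have hg : D.diagonalSubgroup F ≤ D.group F := by
    rw [← chev_Grp E H, ← chev_H E H]
    exact (RGrp.H_le_B _).trans RGrp.B_le_Grp
  refine Eqv.trans ⟨h ^ k, hg (pow_mem hh k), h6⟩ ⟨gL H F (L.map fun r : Fin D.nroots => (r : ℕ)), ?_, conj_nL H hc hlt hL'⟩
  unfold gL
  apply Subgroup.list_prod_mem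
  intro x hx
  rw [List.mem_map] at hx
  obtain ⟨r, hr, rfl⟩ := hx
  exact xU_mem_group H (neg_lt H.toGood1 (hlt r hr)) 1

include E in
/-- **every involution of a Chevalley group in characteristic two is conjugate to a product of root elements of orthogonal
roots** -/
theorem exists_tL [Fintype F] (hc : chkOC D = true) (hpow : ∀ h ∈ D.diagonalSubgroup F, h ^ (Fintype.card F - 1) = 1)
    {t : GL D.Idx F} (ht : t ∈ D.group F) (htt : t * t = 1) :
    ∃ L : List ℕ, (∀ r ∈ L, r < D.nroots) ∧ L.Pairwise (Orth D) ∧ Eqv D F t (tL H F L) := by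
  obtain ⟨y, hy, m, w, h1, h2, h3, h4, h5, -⟩ := exists_conj_monomial (Tw.one (chev E H F)) (t := t) (by
    rw [inv_one, mul_one, chev_Grp]; exact ht) htt
  rw [inv_one, mul_one] at h2
  rw [chev_Grp] at hy
  obtain ⟨L, hL, hO, hE⟩ := exists_tL_of_monomial H E hc hpow h2 h3 h4 h5
  refine ⟨L, hL, hO, Eqv.trans ⟨y⁻¹, inv_mem hy, ?_⟩ hE⟩
  rw [← h1, inv_inv]

end char2

end Cfsg.Agent.ChevU
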