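import Cfsg.Agent.ChevU.InvAbs
import Cfsg.Agent.ChevGrp.Main

set_option autoImplicit false
set_option linter.unusedSectionVars false
set_option linter.unusedVariables false

/-!
# Reflections, orthogonal roots and involutions of the Weyl group (helper17)
-/

namespace Cfsg.Agent.ChevU

open Cfsg.Lie Cfsg.Agent.Chev Cfsg.Agent.ChevGrp Cfsg.Agent.ChevWeyl

theorem inv_app {α : Type*} (a : Equiv.Perm α) (x : α) : a⁻¹ (a x) = x := Equiv.symm_apply_apply a x
theorem app_inv {α : Type*} (a : Equiv.Perm α) (x : α) : a (a⁻¹ x) = x := Equiv.apply_symm_apply a x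

section abstractRefl

variable {l n : ℕ} (S : WSys l n)

/-- the reflection in a root -/
noncomputable def sg (r : Fin n) : Equiv.Perm (Fin n) :=
  (S.exists_conj_p r).choose * S.w (S.exists_conj_p r).choose_spec.2.choose * ((S.exists_conj_p r).choose)⁻¹

theorem sg_eq {a : Equiv.Perm (Fin n)} (ha : a ∈ S.W) {i : Fin l} {r : Fin n} (h : a (S.p i) = r) : sg S r = a * S.w i * a⁻¹ := by
  have key : ∀ (b : Equiv.Perm (Fin n)) (j : Fin l), b ∈ S.W → b (S.p j) = r → b * S.w j * b⁻¹ = a * S.w i * a⁻¹ := by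
    intro b j hbW hbj
    have h1 : (b⁻¹ * a) (S.p i) = S.p j := by
      rw [Equiv.Perm.mul_apply, h, ← hbj, inv_app]
    have h2 := S.conj_w (b⁻¹ * a) (mul_mem (inv_mem hbW) ha) i j h1
    rw [← h2]; group
  exact key _ _ (S.exists_conj_p r).choose_spec.1 (S.exists_conj_p r).choose_spec.2.choose_spec

theorem sg_p (i : Fin l) : sg S (S.p i) = S.w i := by
  rw [sg_eq S (one_mem S.W) (i := i) (r := S.p i) rfl]; simp

theorem sg_mem (r : Fin n) : sg S r ∈ S.W := by
  obtain ⟨a, ha, i, h⟩ := S.exists_conj_p r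
  rw [sg_eq S ha h]
  exact mul_mem (mul_mem ha (S.w_mem i)) (inv_mem ha)

theorem sg_conj {u : Equiv.Perm (Fin n)} (hu : u ∈ S.W) (r : Fin n) : u * sg S r * u⁻¹ = sg S (u r) := by
  obtain ⟨a, ha, i, h⟩ := S.exists_conj_p r
  rw [sg_eq S ha h, sg_eq S (mul_mem hu ha) (i := i) (r := u r) (by rw [Equiv.Perm.mul_apply, h])]
  group

theorem sg_neg (r : Fin n) : sg S (S.neg r) = sg S r := by
  obtain ⟨a, ha, i, h⟩ := S.exists_conj_p r
  rw [sg_eq S ha h, sg_eq S (mul_mem ha (S.w_mem i)) (i := i) (r := S.neg r) (by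
    rw [Equiv.Perm.mul_apply, S.w_p, S.W_neg ha, h]), mul_inv_rev, S.w_inv]
  have : a * S.w i * S.w i * (S.w i * a⁻¹) = a * (S.w i * S.w i) * S.w i * a⁻¹ := by group
  rw [this, S.w_mul_w, mul_one]

theorem sg_self (r : Fin n) : sg S r r = S.neg r := by
  obtain ⟨a, ha, i, h⟩ := S.exists_conj_p r
  rw [sg_eq S ha h, ← h, Equiv.Perm.mul_apply, Equiv.Perm.mul_apply, inv_app, S.w_p, S.W_neg ha]

theorem sg_sq (r : Fin n) : sg S r * sg S r = 1 := by
  obtain ⟨a, ha, i, h⟩ := S.exists_conj_p r
  rw [sg_eq S ha h]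
  have : a * S.w i * a⁻¹ * (a * S.w i * a⁻¹) = a * (S.w i * S.w i) * a⁻¹ := by group
  rw [this, S.w_mul_w]; group

/-- an orthogonality relation -/
structure OrthRel (O : Fin n → Fin n → Prop) : Prop where
  symm : ∀ r s, O r s → O s r
  w : ∀ i r s, O r s → O (S.w i r) (S.w i s)
  fix : ∀ i s, O (S.p i) s → S.w i s = s
  neg : ∀ r s, O r (S.neg s) → O r s
  of_inv : ∀ r s, ∀ w ∈ S.W, w r = r → w s = S.neg s → O r s

variable {S} {O : Fin n → Fin n → Prop}

theorem OrthRel.W (h : OrthRel S O) {u : Equiv.Perm (Fin n)} (hu : u ∈ S.W) {r s : Fin n} (hrs : O r s) : O (u r) (u s) := by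
  refine S.W_induction (Q := fun u => O (u r) (u s)) (by simpa using hrs) ?_ hu
  intro i u _ ih
  exact h.w i _ _ ih

theorem OrthRel.sg_fix (h : OrthRel S O) {r s : Fin n} (hrs : O r s) : sg S r s = s := by
  obtain ⟨a, ha, i, hai⟩ := S.exists_conj_p r
  rw [sg_eq S ha hai]
  have h1 := h.W (inv_mem ha) hrs
  rw [← hai, inv_app] at h1
  rw [Equiv.Perm.mul_apply, Equiv.Perm.mul_apply, h.fix i _ h1, app_inv]

theorem OrthRel.neg' (h : OrthRel S O) {r s : Fin n} (hrs : O r s) : O r (S.neg s) :=
  h.neg _ _ (by rwa [S.neg_neg])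

theorem prod_fix (h : OrthRel S O) (L : List (Fin n)) {s : Fin n} (hs : ∀ r ∈ L, O r s) : (L.map (sg S)).prod s = s := by
  induction L with
  | nil => rfl
  | cons r L ih =>
    rw [List.map_cons, List.prod_cons, Equiv.Perm.mul_apply, ih fun r hr => hs r (List.mem_cons_of_mem _ hr),
      h.sg_fix (hs r List.mem_cons_self)]

theorem prod_neg (h : OrthRel S O) {L : List (Fin n)} (hL : L.Pairwise O) {s : Fin n} (hs : s ∈ L) :
    (L.map (sg S)).prod s = S.neg s := by
  induction L with
  | nil => simp at hs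
  | cons r L ih =>
    rw [List.pairwise_cons] at hL
    rw [List.map_cons, List.prod_cons, Equiv.Perm.mul_apply]
    rcases List.mem_cons.1 hs with rfl | hs
    · rw [prod_fix h L fun t ht => h.symm _ _ (hL.1 t ht), sg_self]
    · rw [ih hL.2 hs, S.W_neg (sg_mem S r), h.sg_fix (hL.1 s hs)]

/-- **every involution of the Weyl group is a product of orthogonal reflections** -/
theorem exists_orth (h : OrthRel S O) {w : Equiv.Perm (Fin n)} (hw : w ∈ S.W) (hww : w * w = 1) :
    ∃ L : List (Fin n), L.Pairwise O ∧ w = (L.map (sg S)).prod := by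
  induction hN : S.N w using Nat.strong_induction_on generalizing w with
  | _ k ih =>
    by_cases hne : w = 1
    · exact ⟨[], List.Pairwise.nil, by rw [hne]; rfl⟩
    obtain ⟨j, hj⟩ := S.descent w hw hne
    have hwi : w⁻¹ = w := inv_eq_of_mul_eq_one_left hww
    have h1 : S.N (S.w j * w) + 1 = S.N w := N_left_neg hw (by rw [hwi]; exact hj)
    by_cases hjn : w (S.p j) = S.neg (S.p j)
    · have hcomm : w * S.w j = S.w j * w := by
        have := sg_conj S hw (S.p j)
        rw [hjn, sg_neg, sg_p] at this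
        exact mul_inv_eq_iff_eq_mul.mp this
      have hw2 : (S.w j * w) * (S.w j * w) = 1 := by
        have : (S.w j * w) * (S.w j * w) = S.w j * (w * S.w j) * w := by group
        rw [this, hcomm]
        have : S.w j * (S.w j * w) * w = (S.w j * S.w j) * (w * w) := by group
        rw [this, S.w_mul_w, hww, mul_one]
      obtain ⟨L, hL, hLw⟩ := ih (S.N (S.w j * w)) (by omega) (mul_mem (S.w_mem j) hw) hw2 rfl
      refine ⟨S.p j :: L, ?_, ?_⟩
      · rw [List.pairwise_cons]
        refine ⟨fun r hr => ?_, hL⟩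
        refine h.of_inv _ _ (S.w j * w) (mul_mem (S.w_mem j) hw) ?_ ?_
        · rw [Equiv.Perm.mul_apply, hjn, S.w_neg, S.w_p, S.neg_neg]
        · rw [hLw]; exact prod_neg h hL hr
      · rw [List.map_cons, List.prod_cons, ← hLw, sg_p, ← mul_assoc, S.w_mul_w, one_mul]
    · have h2 : ¬ S.Pos ((S.w j * w) (S.p j)) := by
        rw [Equiv.Perm.mul_apply]
        have h3 : S.Pos (S.neg (w (S.p j))) := (S.pos_neg_iff _).2 hj
        have h4 : S.neg (w (S.p j)) ≠ S.p j := by
          intro h5
          apply hjn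
          rw [← S.neg_neg (w (S.p j)), h5]
        have h5 := S.pos_w j _ h3 h4
        rw [S.w_neg, S.pos_neg_iff] at h5
        exact h5
      have h3 := S.N_neg (mul_mem (S.w_mem j) hw) h2
      have hw2 : (S.w j * w * S.w j) * (S.w j * w * S.w j) = 1 := by
        have : (S.w j * w * S.w j) * (S.w j * w * S.w j) = S.w j * w * (S.w j * S.w j) * w * S.w j := by group
        rw [this, S.w_mul_w, mul_one]
        have : S.w j * w * w * S.w j = S.w j * (w * w) * S.w j := by group
        rw [this, hww, mul_one, S.w_mul_w]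
      obtain ⟨L, hL, hLw⟩ := ih (S.N (S.w j * w * S.w j)) (by omega) (mul_mem (mul_mem (S.w_mem j) hw) (S.w_mem j)) hw2 rfl
      refine ⟨L.map (S.w j), ?_, ?_⟩
      · rw [List.pairwise_map]
        exact hL.imp fun hrs => h.w j _ _ hrs
      · have h4 : ∀ L : List (Fin n), ((L.map (S.w j)).map (sg S)).prod = S.w j * (L.map (sg S)).prod * S.w j := by
          intro L
          induction L with
          | nil => simp [S.w_mul_w]
          | cons r L ihL =>
            rw [List.map_cons, List.map_cons, List.prod_cons, ihL, List.map_cons, List.prod_cons, ← sg_conj S (S.w_mem j), S.w_inv]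
            have : S.w j * sg S r * S.w j * (S.w j * (L.map (sg S)).prod * S.w j) =
              S.w j * sg S r * (S.w j * S.w j) * (L.map (sg S)).prod * S.w j := by group
            rw [this, S.w_mul_w]; group
        rw [h4, ← hLw]
        have : S.w j * (S.w j * w * S.w j) * S.w j = (S.w j * S.w j) * w * (S.w j * S.w j) := by group
        rw [this, S.w_mul_w]; group

end abstractRefl

end Cfsg.Agent.ChevU
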