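import Cfsg.Agent.ChevU.BRank
import Cfsg.Agent.ChevU.All
import Cfsg.Agent.ChevU.Syl

set_option autoImplicit false
set_option linter.unusedSectionVars false
set_option linter.unusedVariables false

/-!
# Classes of involutions from checked data (helper17)
-/

namespace Cfsg.Agent.ChevU

open Cfsg.Lie Cfsg.Agent.Chev Cfsg.Agent.ChevGrp Cfsg.Agent.ChevWeyl Matrix

variable {D : ChevalleyDatum} {F : Type*} [Field F] [CharP F 2] [Fintype F]

/-- bookkeeping checks -/
def chkBook (D : ChevalleyDatum) (nodes : List (List ℕ)) (assoc : List (List ℕ × List ℕ × List ℕ × List ℕ)) (reps : List (List ℕ)) : Bool :=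
  nodes.contains [] && (nodes.all fun L => L == [] || assoc.any fun a => a.1 == L) && (assoc.all fun a => reps.contains a.2.2.2) &&
  (reps.all fun L => (L.all fun r => decide (r < D.nroots)) && pwOrth D L)

theorem exists_rep (H : Good D) (E : DData D) (R : RootFacts D) {nodes : List (List ℕ)} {leafs : List (List ℕ × List ℕ × List ℕ)}
    {assoc : List (List ℕ × List ℕ × List ℕ × List ℕ)} {reps : List (List ℕ)} (h1 : chkOC D = true)
    (h2 : nodes.all (chkNode D nodes leafs) = true) (h3 : leafs.all (chkLeaf D) = true) (h4 : assoc.all (chkAssoc D) = true)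
    (h5 : chkBook D nodes assoc reps = true) {t : GL D.Idx F} (ht : t ∈ D.group F) (htt : t * t = 1) (ht1 : t ≠ 1) :
    ∃ L ∈ reps, Eqv D F t (tL H F L) := by
  unfold chkBook at h5
  rw [Bool.and_eq_true, Bool.and_eq_true, Bool.and_eq_true, List.contains_iff_mem, List.all_eq_true, List.all_eq_true] at h5
  obtain ⟨⟨⟨h50, h51⟩, h52⟩, h53⟩ := h5
  obtain ⟨L, hL, hO, hE⟩ := exists_tL H E h1 (fun h hh => diag_pow R H hh) ht htt
  obtain ⟨L', hL', hE'⟩ := canon (F := F) H h1 h50 h2 h3 L hL hO
  have h6 := h51 L' hL'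
  rw [Bool.or_eq_true, beq_iff_eq, List.any_eq_true] at h6
  rcases h6 with h6 | ⟨a, ha, h6⟩
  · exfalso
    apply ht1
    obtain ⟨g, hg, e⟩ := hE.trans hE'
    rw [h6] at e
    have : tL H F [] = 1 := by simp [tL]
    rw [this, mul_inv_eq_one] at e
    exact mul_left_cancel (e.trans (mul_one g).symm)
  · rw [beq_iff_eq] at h6
    rw [List.all_eq_true] at h4
    have h7 := eqv_of_assoc (F := F) H (h4 a ha)
    rw [h6] at h7
    have h8 := h52 a ha
    rw [List.contains_iff_mem] at h8
    exact ⟨_, h8, (hE.trans hE').trans h7.symm⟩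

theorem classData (H : Good D) (E : DData D) (R : RootFacts D) {nodes : List (List ℕ)} {leafs : List (List ℕ × List ℕ × List ℕ)}
    {assoc : List (List ℕ × List ℕ × List ℕ × List ℕ)} {reps : List (List ℕ)} (h1 : chkOC D = true)
    (h2 : nodes.all (chkNode D nodes leafs) = true) (h3 : leafs.all (chkLeaf D) = true) (h4 : assoc.all (chkAssoc D) = true)
    (h5 : chkBook D nodes assoc reps = true) (rk : List ℕ → ℕ)
    (h6 : ∀ L ∈ reps, (((L.map fun r => D.x F r 1).prod : Matrix D.Idx D.Idx F) - 1).rank = rk L)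
    (h7 : ∀ L ∈ reps, 0 < rk L) (h8 : ∀ L ∈ reps, ∀ L' ∈ reps, rk L = rk L' → L = L') : ClassData H F reps rk where
  lt := by
    unfold chkBook at h5
    simp only [Bool.and_eq_true, List.all_eq_true, decide_eq_true_eq] at h5
    exact fun L hL => (h5.2 L hL).1
  orth := by
    unfold chkBook at h5
    rw [Bool.and_eq_true, List.all_eq_true] at h5
    intro L hL
    have := h5.2 L hL
    rw [Bool.and_eq_true] at this
    exact (pwOrth_iff L).1 this.2
  rank := h6
  pos := h7
  inj := h8
  all := fun t ht htt ht1 => exists_rep H E R h1 h2 h3 h4 h5 ht htt ht1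

end Cfsg.Agent.ChevU
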