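import Cfsg.Agent.ChevU.IvE7A
import Cfsg.Agent.ChevU.IvE7R

set_option autoImplicit false
set_option maxRecDepth 100000

/-! Classes of involutions of `E7` in characteristic two: data (helper17) -/

namespace Cfsg.Agent.ChevU.IvE7

open Cfsg.Lie Cfsg.Agent.ChevU

theorem ok_nodes (H : Cfsg.Agent.Chev.Fast chevE7) : nodes.all (chkNode chevE7 nodes leafs) = true := by
  show ([[], [125], [125, 92], [125, 92, 63], [125, 92, 87], [125, 92, 63, 87], [125, 92, 87, 63], [125, 92, 87, 66], [125, 92, 87, 78]] : List (List ℕ)).all (chkNode chevE7 nodes leafs) = true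
  rw [List.all_cons, chkNode_of_fast H node0, Bool.true_and]
  rw [List.all_cons, chkNode_of_fast H node1, Bool.true_and]
  rw [List.all_cons, chkNode_of_fast H node2, Bool.true_and]
  rw [List.all_cons, chkNode_of_fast H node3, Bool.true_and]
  rw [List.all_cons, chkNode_of_fast H node4, Bool.true_and]
  rw [List.all_cons, chkNode_of_fast H node5, Bool.true_and]
  rw [List.all_cons, chkNode_of_fast H node6, Bool.true_and]
  rw [List.all_cons, chkNode_of_fast H node7, Bool.true_and]
  rw [List.all_cons, chkNode_of_fast H node8, Bool.true_and]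
  rfl

theorem ok_leafs (H : Cfsg.Agent.Chev.Fast chevE7) : leafs.all (chkLeaf chevE7) = true := by
  show ([([125, 92, 87, 73], [92, 87, 73, 93, 92, 87, 73, 93], [92, 87, 73]), ([125, 92, 63, 87, 66], [63, 87, 66, 64, 63, 87, 66, 64], [125, 63, 87, 66]), ([125, 92, 63, 87, 73], [92, 87, 73, 93, 92, 87, 73, 93], [92, 63, 87, 73]), ([125, 92, 63, 87, 78], [63, 87, 78, 97, 63, 87, 78, 97], [92, 63, 87, 78]), ([125, 92, 87, 63, 66], [87, 63, 66, 64, 87, 63, 66, 64], [125, 87, 63, 66]), ([125, 92, 87, 63, 73], [92, 87, 73, 93, 92, 87, 73, 93], [92, 87, 63, 73]), ([125, 92, 87, 63, 78], [87, 63, 78, 97, 87, 63, 78, 97], [92, 87, 63, 78]), ([125, 92, 87, 66, 63], [87, 66, 63, 64, 87, 66, 63, 64], [125, 87, 66, 63]), ([125, 92, 87, 66, 73], [92, 87, 73, 93, 92, 87, 73, 93], [92, 87, 66, 73]), ([125, 92, 87, 66, 78], [92, 66, 78, 95, 92, 66, 78, 95], [92, 87, 66, 78]), ([125, 92, 87, 78, 63], [87, 78, 63, 97, 87, 78, 63, 97], [92, 87, 78, 63]), ([125, 92, 87, 78, 66], [92, 78, 66, 95, 92,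 78, 66, 95], [92, 87, 78, 66]), ([125, 92, 87, 78, 73], [92, 87, 73, 93, 92, 87, 73, 93], [92, 87, 78, 73])] : List (List ℕ × List ℕ × List ℕ)).all (chkLeaf chevE7) = true
  rw [List.all_cons, chkLeaf_of_fast H leaf0, Bool.true_and]
  rw [List.all_cons, chkLeaf_of_fast H leaf1, Bool.true_and]
  rw [List.all_cons, chkLeaf_of_fast H leaf2, Bool.true_and]
  rw [List.all_cons, chkLeaf_of_fast H leaf3, Bool.true_and]
  rw [List.all_cons, chkLeaf_of_fast H leaf4, Bool.true_and]
  rw [List.all_cons, chkLeaf_of_fast H leaf5, Bool.true_and]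
  rw [List.all_cons, chkLeaf_of_fast H leaf6, Bool.true_and]
  rw [List.all_cons, chkLeaf_of_fast H leaf7, Bool.true_and]
  rw [List.all_cons, chkLeaf_of_fast H leaf8, Bool.true_and]
  rw [List.all_cons, chkLeaf_of_fast H leaf9, Bool.true_and]
  rw [List.all_cons, chkLeaf_of_fast H leaf10, Bool.true_and]
  rw [List.all_cons, chkLeaf_of_fast H leaf11, Bool.true_and]
  rw [List.all_cons, chkLeaf_of_fast H leaf12, Bool.true_and]
  rfl

theorem ok_assoc : assoc.all (chkAssoc chevE7) = true := by
  show ([([125], [], [], [125]), ([125, 92], [], [], [125, 92]), ([125, 92, 63], [], [], [125, 92, 63]), ([125, 92, 87], [], [], [125, 92, 87]), ([125, 92, 63, 87], [], [], [125, 92, 87, 63]), ([125, 92, 87, 63], [], [], [125, 92, 87, 63]), ([125, 92, 87, 66], [5, 4, 6, 5], [], [125, 92, 87, 63]), ([125, 92, 87, 78], [0, 2, 3, 1, 4, 3, 2, 0, 5, 4, 6, 5], [], [125, 92, 87, 63])] : List (List ℕ × List ℕ × List ℕ × List ℕ)).all (chkAssoc chevE7) = true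
  rw [List.all_cons, assoc0, Bool.true_and]
  rw [List.all_cons, assoc1, Bool.true_and]
  rw [List.all_cons, assoc2, Bool.true_and]
  rw [List.all_cons, assoc3, Bool.true_and]
  rw [List.all_cons, assoc4, Bool.true_and]
  rw [List.all_cons, assoc5, Bool.true_and]
  rw [List.all_cons, assoc6, Bool.true_and]
  rw [List.all_cons, assoc7, Bool.true_and]
  rfl

def rk (L : List ℕ) : ℕ :=
  if L = [125] then 34 else
  if L = [125, 92] then 52 else
  if L = [125, 92, 63] then 53 else
  if L = [125, 92, 87] then 62 else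
  if L = [125, 92, 87, 63] then 63 else 0

theorem ok_oc (H : Cfsg.Agent.Chev.Good chevE7) : chkOC chevE7 = true := chkOC_of_fast H.toFast ocF

theorem classes (F : Type*) [Field F] [CharP F 2] [Fintype F] (H : Cfsg.Agent.Chev.Good chevE7) (E : Cfsg.Agent.ChevGrp.DData chevE7)
    (R : RootFacts chevE7) : ClassData H F reps rk := by
  refine classData H E R (ok_oc H) (ok_nodes H.toFast) (ok_leafs H.toFast) ok_assoc ok_book rk ?_ ?_ ?_
  · intro L hL
    simp only [reps, List.mem_cons, List.not_mem_nil, or_false] at hL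
    rcases hL with rfl | rfl | rfl | rfl | rfl
    · exact rank_of_chkL rank0
    · exact rank_of_chkL rank1
    · exact rank_of_chkL rank2
    · exact rank_of_chkL rank3
    · exact rank_of_chkL rank4
  · decide
  · decide

end Cfsg.Agent.ChevU.IvE7
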