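import Cfsg.Agent.ChevU.InvRow
import Cfsg.Agent.ChevU.BRank2

set_option autoImplicit false
set_option maxRecDepth 100000

/-! Classes of involutions of `E7` in characteristic two: data (helper17) -/

namespace Cfsg.Agent.ChevU.IvE7

open Cfsg.Lie Cfsg.Agent.ChevU

def nodes : List (List ℕ) := [[], [125], [125, 92], [125, 92, 63], [125, 92, 87], [125, 92, 63, 87], [125, 92, 87, 63], [125, 92, 87, 66], [125, 92, 87, 78]]

def leafs : List (List ℕ × List ℕ × List ℕ) := [([125, 92, 87, 73], [92, 87, 73, 93, 92, 87, 73, 93], [92, 87, 73]), ([125, 92, 63, 87, 66], [63, 87, 66, 64, 63, 87, 66, 64], [125, 63, 87, 66]), ([125, 92, 63, 87, 73], [92, 87, 73, 93, 92, 87, 73, 93], [92, 63, 87, 73]), ([125, 92, 63, 87, 78], [63, 87, 78, 97, 63, 87, 78, 97], [92, 63, 87, 78]), ([125, 92, 87, 63, 66], [87, 63, 66, 64, 87, 63, 66, 64], [125, 87, 63, 66]), ([125, 92, 87, 63, 73], [92, 87, 73, 93, 92, 87, 73, 93], [92, 87, 63, 73]), ([125, 92, 87, 63, 78], [87, 63, 78, 97, 87, 63, 78, 97], [92, 87, 63, 78]),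 ([125, 92, 87, 66, 63], [87, 66, 63, 64, 87, 66, 63, 64], [125, 87, 66, 63]), ([125, 92, 87, 66, 73], [92, 87, 73, 93, 92, 87, 73, 93], [92, 87, 66, 73]), ([125, 92, 87, 66, 78], [92, 66, 78, 95, 92, 66, 78, 95], [92, 87, 66, 78]), ([125, 92, 87, 78, 63], [87, 78, 63, 97, 87, 78, 63, 97], [92, 87, 78, 63]), ([125, 92, 87, 78, 66], [92, 78, 66, 95, 92, 78, 66, 95], [92, 87, 78, 66]), ([125, 92, 87, 78, 73], [92, 87, 73, 93, 92, 87, 73, 93], [92, 87, 78, 73])]

def assoc : List (List ℕ × List ℕ × List ℕ × List ℕ) := [([125], [], [], [125]), ([125, 92], [], [], [125, 92]), ([125, 92, 63], [], [], [125, 92, 63]), ([125, 92, 87], [], [], [125, 92, 87]), ([125, 92, 63, 87], [], [], [125, 92, 87, 63]), ([125, 92, 87, 63], [], [], [125, 92, 87, 63]), ([125, 92, 87, 66], [5, 4, 6, 5], [], [125, 92, 87, 63]), ([125, 92, 87, 78], [0, 2, 3, 1, 4, 3, 2, 0, 5, 4, 6, 5], [], [125, 92, 87, 63])]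

def reps : List (List ℕ) := [[125], [125, 92], [125, 92, 63], [125, 92, 87], [125, 92, 87, 63]]

theorem ocF : chkOCF chevE7 = true := by decide +kernel
theorem node0 : chkNodeF chevE7 nodes leafs [] = true := by decide +kernel

theorem node1 : chkNodeF chevE7 nodes leafs [125] = true := by decide +kernel

theorem node2 : chkNodeF chevE7 nodes leafs [125, 92] = true := by decide +kernel

theorem node3 : chkNodeF chevE7 nodes leafs [125, 92, 63] = true := by decide +kernel

theorem node4 : chkNodeF chevE7 nodes leafs [125, 92, 87] = true := by decide +kernel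

theorem node5 : chkNodeF chevE7 nodes leafs [125, 92, 63, 87] = true := by decide +kernel

theorem node6 : chkNodeF chevE7 nodes leafs [125, 92, 87, 63] = true := by decide +kernel

theorem node7 : chkNodeF chevE7 nodes leafs [125, 92, 87, 66] = true := by decide +kernel

theorem node8 : chkNodeF chevE7 nodes leafs [125, 92, 87, 78] = true := by decide +kernel

theorem leaf0 : chkLeafF chevE7 ([125, 92, 87, 73], [92, 87, 73, 93, 92, 87, 73, 93], [92, 87, 73]) = true := by decide +kernel

theorem leaf1 : chkLeafF chevE7 ([125, 92, 63, 87, 66], [63, 87, 66, 64, 63, 87, 66, 64], [125, 63, 87, 66]) = true := by decide +kernel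

theorem leaf2 : chkLeafF chevE7 ([125, 92, 63, 87, 73], [92, 87, 73, 93, 92, 87, 73, 93], [92, 63, 87, 73]) = true := by decide +kernel

theorem leaf3 : chkLeafF chevE7 ([125, 92, 63, 87, 78], [63, 87, 78, 97, 63, 87, 78, 97], [92, 63, 87, 78]) = true := by decide +kernel

theorem leaf4 : chkLeafF chevE7 ([125, 92, 87, 63, 66], [87, 63, 66, 64, 87, 63, 66, 64], [125, 87, 63, 66]) = true := by decide +kernel

theorem leaf5 : chkLeafF chevE7 ([125, 92, 87, 63, 73], [92, 87, 73, 93, 92, 87, 73, 93], [92, 87, 63, 73]) = true := by decide +kernel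

theorem leaf6 : chkLeafF chevE7 ([125, 92, 87, 63, 78], [87, 63, 78, 97, 87, 63, 78, 97], [92, 87, 63, 78]) = true := by decide +kernel

theorem leaf7 : chkLeafF chevE7 ([125, 92, 87, 66, 63], [87, 66, 63, 64, 87, 66, 63, 64], [125, 87, 66, 63]) = true := by decide +kernel

theorem leaf8 : chkLeafF chevE7 ([125, 92, 87, 66, 73], [92, 87, 73, 93, 92, 87, 73, 93], [92, 87, 66, 73]) = true := by decide +kernel

theorem leaf9 : chkLeafF chevE7 ([125, 92, 87, 66, 78], [92, 66, 78, 95, 92, 66, 78, 95], [92, 87, 66, 78]) = true := by decide +kernel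

theorem leaf10 : chkLeafF chevE7 ([125, 92, 87, 78, 63], [87, 78, 63, 97, 87, 78, 63, 97], [92, 87, 78, 63]) = true := by decide +kernel

theorem leaf11 : chkLeafF chevE7 ([125, 92, 87, 78, 66], [92, 78, 66, 95, 92, 78, 66, 95], [92, 87, 78, 66]) = true := by decide +kernel

theorem leaf12 : chkLeafF chevE7 ([125, 92, 87, 78, 73], [92, 87, 73, 93, 92, 87, 73, 93], [92, 87, 78, 73]) = true := by decide +kernel

theorem assoc0 : chkAssoc chevE7 ([125], [], [], [125]) = true := by decide +kernel

theorem assoc1 : chkAssoc chevE7 ([125, 92], [], [], [125, 92]) = true := by decide +kernel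

theorem assoc2 : chkAssoc chevE7 ([125, 92, 63], [], [], [125, 92, 63]) = true := by decide +kernel

theorem assoc3 : chkAssoc chevE7 ([125, 92, 87], [], [], [125, 92, 87]) = true := by decide +kernel

theorem assoc4 : chkAssoc chevE7 ([125, 92, 63, 87], [], [], [125, 92, 87, 63]) = true := by decide +kernel

theorem assoc5 : chkAssoc chevE7 ([125, 92, 87, 63], [], [], [125, 92, 87, 63]) = true := by decide +kernel

theorem assoc6 : chkAssoc chevE7 ([125, 92, 87, 66], [5, 4, 6, 5], [], [125, 92, 87, 63]) = true := by decide +kernel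

theorem assoc7 : chkAssoc chevE7 ([125, 92, 87, 78], [0, 2, 3, 1, 4, 3, 2, 0, 5, 4, 6, 5], [], [125, 92, 87, 63]) = true := by decide +kernel

theorem ok_book : chkBook chevE7 nodes assoc reps = true := by decide +kernel

end Cfsg.Agent.ChevU.IvE7
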