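import Cfsg.Agent.ChevU.IvE8A
import Cfsg.Agent.ChevU.IvE8R

set_option autoImplicit false
set_option maxRecDepth 100000

/-! Classes of involutions of `E8` in characteristic two: data (helper17) -/

namespace Cfsg.Agent.ChevU.IvE8

open Cfsg.Lie Cfsg.Agent.ChevU

theorem ok_nodes (H : Cfsg.Agent.Chev.Fast chevE8) : nodes.all (chkNode chevE8 nodes leafs) = true := by
  show ([[], [239], [239, 226], [239, 226, 159], [239, 226, 159, 152]] : List (List ℕ)).all (chkNode chevE8 nodes leafs) = true
  rw [List.all_cons, chkNode_of_fast H node0, Bool.true_and]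
  rw [List.all_cons, chkNode_of_fast H node1, Bool.true_and]
  rw [List.all_cons, chkNode_of_fast H node2, Bool.true_and]
  rw [List.all_cons, chkNode_of_fast H node3, Bool.true_and]
  rw [List.all_cons, chkNode_of_fast H node4, Bool.true_and]
  rfl

theorem ok_leafs (H : Cfsg.Agent.Chev.Fast chevE8) : leafs.all (chkLeaf chevE8) = true := by
  show ([([239, 226, 159, 121], [226, 159, 121, 120, 226, 159, 121, 120], [226, 159, 121]), ([239, 226, 159, 152, 121], [226, 159, 121, 120, 226, 159, 121, 120], [226, 159, 152, 121]), ([239, 226, 159, 152, 126], [226, 152, 126, 125, 226, 152, 126, 125], [226, 159, 152, 126]), ([239, 226, 159, 152, 135], [159, 152, 135, 162, 159, 152, 135, 162], [239, 159, 152, 135]), ([239, 226, 159, 152, 141], [159, 152, 141, 168, 159, 152, 141, 168], [226, 159, 152, 141])] : List (List ℕ × List ℕ × List ℕ)).all (chkLeaf chevE8) = true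
  rw [List.all_cons, chkLeaf_of_fast H leaf0, Bool.true_and]
  rw [List.all_cons, chkLeaf_of_fast H leaf1, Bool.true_and]
  rw [List.all_cons, chkLeaf_of_fast H leaf2, Bool.true_and]
  rw [List.all_cons, chkLeaf_of_fast H leaf3, Bool.true_and]
  rw [List.all_cons, chkLeaf_of_fast H leaf4, Bool.true_and]
  rfl

theorem ok_assoc : assoc.all (chkAssoc chevE8) = true := by
  show ([([239], [], [], [239]), ([239, 226], [7, 6, 5, 4, 3, 1], [], [232, 233]), ([239, 226, 159], [0, 2, 3, 4, 7, 6, 5, 4, 3, 2, 1, 3, 4, 5], [], [228, 222, 218]), ([239, 226, 159, 152], [5, 4, 0, 2, 3, 4, 5, 6, 7, 6, 5, 4, 3, 2, 1, 3, 4, 5, 6, 7], [], [226, 220, 213, 216])] : List (List ℕ × List ℕ × List ℕ × List ℕ)).all (chkAssoc chevE8) = true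
  rw [List.all_cons, assoc0, Bool.true_and]
  rw [List.all_cons, assoc1, Bool.true_and]
  rw [List.all_cons, assoc2, Bool.true_and]
  rw [List.all_cons, assoc3, Bool.true_and]
  rfl

def rk (L : List ℕ) : ℕ :=
  if L = [239] then 58 else
  if L = [232, 233] then 92 else
  if L = [228, 222, 218] then 110 else
  if L = [226, 220, 213, 216] then 120 else 0

theorem ok_oc (H : Cfsg.Agent.Chev.Good chevE8) : chkOC chevE8 = true := chkOC_of_fast H.toFast ocF

theorem classes (F : Type*) [Field F] [CharP F 2] [Fintype F] (H : Cfsg.Agent.Chev.Good chevE8) (E : Cfsg.Agent.ChevGrp.DData chevE8)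
    (R : RootFacts chevE8) : ClassData H F reps rk := by
  refine classData H E R (ok_oc H) (ok_nodes H.toFast) (ok_leafs H.toFast) ok_assoc ok_book rk ?_ ?_ ?_
  · intro L hL
    simp only [reps, List.mem_cons, List.not_mem_nil, or_false] at hL
    rcases hL with rfl | rfl | rfl | rfl
    · exact rank_of_chkL rank0
    · exact rank_of_chkL rank1
    · exact rank_of_chkL rank2
    · exact rank_of_chkL rank3
  · decide
  · decide

end Cfsg.Agent.ChevU.IvE8
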