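import Cfsg.Agent.ChevU.InvRow
import Cfsg.Agent.ChevU.BRank2

set_option autoImplicit false
set_option maxRecDepth 100000

/-! Classes of involutions of `E8` in characteristic two: data (helper17) -/

namespace Cfsg.Agent.ChevU.IvE8

open Cfsg.Lie Cfsg.Agent.ChevU

def nodes : List (List ℕ) := [[], [239], [239, 226], [239, 226, 159], [239, 226, 159, 152]]

def leafs : List (List ℕ × List ℕ × List ℕ) := [([239, 226, 159, 121], [226, 159, 121, 120, 226, 159, 121, 120], [226, 159, 121]), ([239, 226, 159, 152, 121], [226, 159, 121, 120, 226, 159, 121, 120], [226, 159, 152, 121]), ([239, 226, 159, 152, 126], [226, 152, 126, 125, 226, 152, 126, 125], [226, 159, 152, 126]), ([239, 226, 159, 152, 135], [159, 152, 135, 162, 159, 152, 135, 162], [239, 159, 152, 135]), ([239, 226, 159, 152, 141], [159, 152, 141, 168, 159, 152, 141, 168], [226, 159, 152, 141])]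

def assoc : List (List ℕ × List ℕ × List ℕ × List ℕ) := [([239], [], [], [239]), ([239, 226], [7, 6, 5, 4, 3, 1], [], [232, 233]), ([239, 226, 159], [0, 2, 3, 4, 7, 6, 5, 4, 3, 2, 1, 3, 4, 5], [], [228, 222, 218]), ([239, 226, 159, 152], [5, 4, 0, 2, 3, 4, 5, 6, 7, 6, 5, 4, 3, 2, 1, 3, 4, 5, 6, 7], [], [226, 220, 213, 216])]

def reps : List (List ℕ) := [[239], [232, 233], [228, 222, 218], [226, 220, 213, 216]]

theorem ocF : chkOCF chevE8 = true := by decide +kernel
theorem node0 : chkNodeF chevE8 nodes leafs [] = true := by decide +kernel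

theorem node1 : chkNodeF chevE8 nodes leafs [239] = true := by decide +kernel

theorem node2 : chkNodeF chevE8 nodes leafs [239, 226] = true := by decide +kernel

theorem node3 : chkNodeF chevE8 nodes leafs [239, 226, 159] = true := by decide +kernel

theorem node4 : chkNodeF chevE8 nodes leafs [239, 226, 159, 152] = true := by decide +kernel

theorem leaf0 : chkLeafF chevE8 ([239, 226, 159, 121], [226, 159, 121, 120, 226, 159, 121, 120], [226, 159, 121]) = true := by decide +kernel

theorem leaf1 : chkLeafF chevE8 ([239, 226, 159, 152, 121], [226, 159, 121, 120, 226, 159, 121, 120], [226, 159, 152, 121]) = true := by decide +kernel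

theorem leaf2 : chkLeafF chevE8 ([239, 226, 159, 152, 126], [226, 152, 126, 125, 226, 152, 126, 125], [226, 159, 152, 126]) = true := by decide +kernel

theorem leaf3 : chkLeafF chevE8 ([239, 226, 159, 152, 135], [159, 152, 135, 162, 159, 152, 135, 162], [239, 159, 152, 135]) = true := by decide +kernel

theorem leaf4 : chkLeafF chevE8 ([239, 226, 159, 152, 141], [159, 152, 141, 168, 159, 152, 141, 168], [226, 159, 152, 141]) = true := by decide +kernel

theorem assoc0 : chkAssoc chevE8 ([239], [], [], [239]) = true := by decide +kernel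

theorem assoc1 : chkAssoc chevE8 ([239, 226], [7, 6, 5, 4, 3, 1], [], [232, 233]) = true := by decide +kernel

theorem assoc2 : chkAssoc chevE8 ([239, 226, 159], [0, 2, 3, 4, 7, 6, 5, 4, 3, 2, 1, 3, 4, 5], [], [228, 222, 218]) = true := by decide +kernel

theorem assoc3 : chkAssoc chevE8 ([239, 226, 159, 152], [5, 4, 0, 2, 3, 4, 5, 6, 7, 6, 5, 4, 3, 2, 1, 3, 4, 5, 6, 7], [], [226, 220, 213, 216]) = true := by decide +kernel

theorem ok_book : chkBook chevE8 nodes assoc reps = true := by decide +kernel

end Cfsg.Agent.ChevU.IvE8
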