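import Cfsg.Agent.ChevU.InvRow
import Cfsg.Agent.ChevU.BRank2

set_option autoImplicit false

/-! Classes of involutions in `F4` and `G2`, characteristic two: data (helper17) -/

namespace Cfsg.Agent.ChevU.IvF4

open Cfsg.Lie Cfsg.Agent.ChevU

def nodes : List (List ℕ) := [[], [44], [47], [44, 29], [44, 32], [47, 37], [47, 41]]

def leafs : List (List ℕ × List ℕ × List ℕ) := [([44, 29, 28], [41, 24, 5], [29, 46]), ([44, 29, 30], [36, 14, 6], [30, 44]), ([44, 32, 24], [42, 19, 6], [32, 44]), ([44, 32, 27], [34, 14, 4], [32, 44]), ([47, 37, 25], [23, 9, 26], [47, 37]), ([47, 37, 33], [18, 36, 17], [47, 37]), ([47, 41, 28], [23, 18, 42], [47, 28]), ([47, 41, 30], [29, 33, 11], [41, 40])]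

def assoc : List (List ℕ × List ℕ × List ℕ × List ℕ) := [([47], [], [], [47]), ([44], [], [], [44]), ([44, 29], [], [6], [47, 44]), ([47, 41], [], [18], [47, 44]), ([44, 32], [0, 1], [], [39, 45]), ([47, 37], [3, 2, 1, 0, 0, 1], [], [39, 45])]

def reps : List (List ℕ) := [[47], [44], [47, 44], [39, 45]]

theorem ok_oc : chkOC chevF4 = true := by decide +kernel
theorem nodesF : nodes.all (chkNodeF chevF4 nodes leafs) = true := by decide +kernel
theorem leafsF : leafs.all (chkLeafF chevF4) = true := by decide +kernel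
theorem ok_assoc : assoc.all (chkAssoc chevF4) = true := by decide +kernel

end Cfsg.Agent.ChevU.IvF4

namespace Cfsg.Agent.ChevU.IvG2

open Cfsg.Lie Cfsg.Agent.ChevU

def nodes : List (List ℕ) := [[], [9], [11], [9, 6], [11, 7]]

def leafs : List (List ℕ × List ℕ × List ℕ) := []

def assoc : List (List ℕ × List ℕ × List ℕ × List ℕ) := [([9], [], [], [9]), ([11], [], [], [11]), ([9, 6], [], [8, 4], [9]), ([11, 7], [], [3, 5, 8], [9])]

def reps : List (List ℕ) := [[11], [9]]

theorem ok_oc : chkOC chevG2 = true := by decide +kernel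
theorem nodesF : nodes.all (chkNodeF chevG2 nodes leafs) = true := by decide +kernel
theorem leafsF : leafs.all (chkLeafF chevG2) = true := by decide +kernel
theorem ok_assoc : assoc.all (chkAssoc chevG2) = true := by decide +kernel

end Cfsg.Agent.ChevU.IvG2
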