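import Cfsg.Agent.ChevU.InvCanon
import Cfsg.Agent.ChevU.SLHom
import Cfsg.Agent.ChevU.HighRoot

set_option autoImplicit false
set_option linter.unusedSectionVars false
set_option linter.unusedVariables false

/-!
# Monomial elements and their action on root elements (helper17)
-/

namespace Cfsg.Agent.ChevU

open Cfsg.Lie Cfsg.Agent.Chev Cfsg.Agent.ChevGrp Cfsg.Agent.ChevWeyl Matrix

section oddA

variable {D : ChevalleyDatum} {F : Type*} [Field F] (R : RootFacts D) (H : Good D) (E : DData D)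

theorem xr_eq_xU (r : ℕ) (t : F) : xr R (elemOfGood H F) r t = xU H.toGood2 r t := Units.ext rfl

/-- `m` acts on the root elements through `w` with coefficients `γ` -/
structure NA (m : GL D.Idx F) (w : Equiv.Perm (Fin D.nroots)) (γ : Fin D.nroots → Fˣ) : Prop where
  act : (chev E H F).Act m w
  x : ∀ (r : Fin D.nroots) (t : F), m * xU H.toGood2 (r : ℕ) t * m⁻¹ = xU H.toGood2 (w r : Fin D.nroots) ((γ r : F) * t)
  neg : ∀ r, γ (E.rp.neg r) = (γ r)⁻¹

variable {R H E}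

theorem NA.one : NA H E (1 : GL D.Idx F) 1 1 :=
  ⟨RGrp.act_one, fun r t => by simp, fun r => by simp⟩

theorem NA.mul {m m' : GL D.Idx F} {w w' : Equiv.Perm (Fin D.nroots)} {γ γ' : Fin D.nroots → Fˣ} (h : NA H E m w γ)
    (h' : NA H E m' w' γ') : NA H E (m * m') (w * w') (fun r => γ (w' r) * γ' r) := by
  refine ⟨h.act.mul h'.act, fun r t => ?_, fun r => ?_⟩
  · have e : m * m' * xU H.toGood2 (r : ℕ) t * (m * m')⁻¹ = m * (m' * xU H.toGood2 (r : ℕ) t * m'⁻¹) * m⁻¹ := by group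
    rw [e, h'.x, h.x, Units.val_mul, mul_assoc]; rfl
  · have h1 : w' (E.rp.neg r) = E.rp.neg (w' r) := E.rp.wsys.W_neg h'.act.1 r
    show γ (w' (E.rp.neg r)) * γ' (E.rp.neg r) = (γ (w' r) * γ' r)⁻¹
    rw [h1, h.neg, h'.neg, mul_inv]

/-- the character of an element of the torus -/
theorem NA.torus {c : Fin D.rank → Fˣ} (R : RootFacts D) : NA H E (hHom D F c) 1 (fun r => ∏ i : Fin D.rank, c i ^ D.cartan i r) := by
  have hm : hHom D F c ∈ (chev E H F).H := by
    rw [chev_H, diag_eq_range R H]; exact ⟨c, rfl⟩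
  refine ⟨RGrp.act_H hm, fun r t => ?_, fun r => ?_⟩
  · have h := hHom_conj R H c r.2 t
    rw [xr_eq_xU (H := H), xr_eq_xU (H := H)] at h
    exact h
  · have h1 : ((E.rp.neg r : Fin D.nroots) : ℕ) = D.neg r := E.hneg r
    show ∏ i : Fin D.rank, c i ^ D.cartan i (E.rp.neg r : Fin D.nroots) = (∏ i : Fin D.rank, c i ^ D.cartan i r)⁻¹
    rw [h1, ← Finset.prod_inv_distrib]
    refine Finset.prod_congr rfl fun i _ => ?_
    rw [cartan_neg H i.2 r.2, _root_.zpow_neg]

theorem NA.hU (R : RootFacts D) {r : ℕ} (hr : r < D.nroots) (p : Fˣ) : NA H E (Inst.hU H r (p : F)) 1 (fun s => p ^ pr D r s) := by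
  have hm : Inst.hU H r (p : F) ∈ (chev E H F).H := by
    rw [chev_H]; exact Inst.hU_mem H hr (Units.ne_zero _)
  refine ⟨RGrp.act_H hm, fun s t => ?_, fun s => ?_⟩
  · have h := Inst.hU_xU H hr (Units.ne_zero p) s.2 t
    rw [h]
    congr 2
    rw [Units.val_zpow_eq_zpow_val]
  · have h1 : ((E.rp.neg s : Fin D.nroots) : ℕ) = D.neg s := E.hneg s
    show p ^ pr D r (E.rp.neg s : Fin D.nroots) = (p ^ pr D r s)⁻¹
    rw [h1, pr_neg_right H.toGood1 hr s.2, _root_.zpow_neg]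

open Classical in
/-- the sign as a unit -/
noncomputable def etaU (D : ChevalleyDatum) (F : Type*) [Field F] (i r : ℕ) : Fˣ := if ((eta D i r : ℤ) : F) = 1 then 1 else -1

theorem etaU_val (H : Good D) {i r : ℕ} (hi : i < D.rank) (hr : r < D.nroots) : ((etaU D F i r : Fˣ) : F) = ((eta D i r : ℤ) : F) := by
  unfold etaU
  split_ifs with h
  · rw [h]; rfl
  · rcases Inst.eta_pm (F := F) H hi hr with h1 | h1
    · exact absurd h1 h
    · rw [h1]; simp

theorem NA.nn (R : RootFacts D) (i : Fin D.rank) : NA H E (Inst.nn H F (i : ℕ)) (E.rp.w i) (fun r => etaU D F i r) := by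
  refine ⟨RGrp.act_nn (R := chev E H F) i, fun r t => ?_, fun r => ?_⟩
  · rw [Inst.nn_xU H i.2 r.2, etaU_val H i.2 r.2, Inst.reflect_eq E]; rfl
  · have h1 : ((E.rp.neg r : Fin D.nroots) : ℕ) = D.neg r := E.hneg r
    apply Units.ext
    rw [h1, etaU_val H i.2 (neg_lt H.toGood1 r.2), eta_neg H.toGood1 i.2 r.2, ← etaU_val H i.2 r.2]
    unfold etaU
    split_ifs <;> simp

theorem exists_NA (R : RootFacts D) {m : GL D.Idx F} (hm : m ∈ (chev E H F).N) : ∃ w γ, NA H E m w γ := by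
  obtain ⟨L, h, hh, rfl⟩ := RGrp.exists_nd hm
  rw [chev_H, diag_eq_range R H] at hh
  obtain ⟨c, rfl⟩ := hh
  have h1 : ∃ w γ, NA H E ((chev E H F).nd L) w γ := by
    clear hm
    induction L with
    | nil => exact ⟨_, _, NA.one⟩
    | cons i L ih =>
      obtain ⟨w, γ, h⟩ := ih
      exact ⟨_, _, (NA.nn R i).mul h⟩
  obtain ⟨w, γ, h⟩ := h1
  exact ⟨_, _, h.mul (NA.torus R)⟩

theorem xU_inj (H : Good D) {r : ℕ} (hr : r < D.nroots) {t u : F} (h : xU H.toGood2 r t = xU H.toGood2 r u) : t = u := by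
  by_contra hne
  have h1 : xU H.toGood2 r (t - u) ≠ 1 := Inst.xU_ne_one H hr (sub_ne_zero.2 hne)
  apply h1
  rw [sub_eq_add_neg, ← Inst.xU_add H.toGood2 hr, Inst.xU_neg, h, mul_inv_cancel]

theorem NA.unique {m : GL D.Idx F} {w w' : Equiv.Perm (Fin D.nroots)} {γ γ' : Fin D.nroots → Fˣ} (h : NA H E m w γ)
    (h' : NA H E m w' γ') : w = w' ∧ γ = γ' := by
  have hw := RGrp.Act.unique h.act h'.act
  subst hw
  refine ⟨rfl, funext fun r => Units.ext ?_⟩
  have h1 := h.x r 1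
  rw [h'.x r 1] at h1
  have := xU_inj H (w r).2 h1
  rw [mul_one, mul_one] at this
  exact this.symm

end oddA

end Cfsg.Agent.ChevU
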