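import Cfsg.Agent.ChevU.OddA

set_option autoImplicit false
set_option linter.unusedSectionVars false
set_option linter.unusedVariables false

/-!
# Reduction and flip of monomial involutions (helper17)
-/

namespace Cfsg.Agent.ChevU

open Cfsg.Lie Cfsg.Agent.Chev Cfsg.Agent.ChevGrp Cfsg.Agent.ChevWeyl Matrix

section sl2

variable {F : Type*} [Field F]

/-- the matrix of the conjugate -/
def cjm (c : Fˣ) (A : Matrix (Fin 2) (Fin 2) F) : Matrix (Fin 2) (Fin 2) F := !![A 1 1, (c : F)⁻¹ * A 1 0; (c : F) * A 0 1, A 0 0]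

theorem cjm_mul (c : Fˣ) (A B : Matrix (Fin 2) (Fin 2) F) : cjm c (A * B) = cjm c A * cjm c B := by
  have hc := c.ne_zero
  unfold cjm
  ext i j
  fin_cases i <;> fin_cases j <;> simp [Matrix.mul_apply, Fin.sum_univ_two] <;> field_simp <;> ring

/-- conjugation by `[[0, 1], [c, 0]]` -/
def conjA (c : Fˣ) : SpecialLinearGroup (Fin 2) F →* SpecialLinearGroup (Fin 2) F where
  toFun g := ⟨cjm c g.1, by
    have h := SL2Sys.det_eq g
    have hc := c.ne_zero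
    unfold cjm
    rw [Matrix.det_fin_two_of]
    field_simp
    linear_combination h⟩
  map_one' := by
    apply Subtype.ext
    show cjm c 1 = 1
    unfold cjm
    ext i j
    fin_cases i <;> fin_cases j <;> simp
  map_mul' g g' := Subtype.ext (cjm_mul c g.1 g'.1)

theorem sl_ext {g h : SpecialLinearGroup (Fin 2) F} (h0 : g.1 0 0 = h.1 0 0) (h1 : g.1 0 1 = h.1 0 1) (h2 : g.1 1 0 = h.1 1 0)
    (h3 : g.1 1 1 = h.1 1 1) : g = h := by
  apply Subtype.ext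
  ext i j
  fin_cases i <;> fin_cases j
  exacts [h0, h1, h2, h3]

theorem sl_mul00 (g h : SpecialLinearGroup (Fin 2) F) : (g * h).1 0 0 = g.1 0 0 * h.1 0 0 + g.1 0 1 * h.1 1 0 := by
  show (g.1 * h.1) 0 0 = _; rw [Matrix.mul_apply, Fin.sum_univ_two]
theorem sl_mul01 (g h : SpecialLinearGroup (Fin 2) F) : (g * h).1 0 1 = g.1 0 0 * h.1 0 1 + g.1 0 1 * h.1 1 1 := by
  show (g.1 * h.1) 0 1 = _; rw [Matrix.mul_apply, Fin.sum_univ_two]
theorem sl_mul10 (g h : SpecialLinearGroup (Fin 2) F) : (g * h).1 1 0 = g.1 1 0 * h.1 0 0 + g.1 1 1 * h.1 1 0 := by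
  show (g.1 * h.1) 1 0 = _; rw [Matrix.mul_apply, Fin.sum_univ_two]
theorem sl_mul11 (g h : SpecialLinearGroup (Fin 2) F) : (g * h).1 1 1 = g.1 1 0 * h.1 0 1 + g.1 1 1 * h.1 1 1 := by
  show (g.1 * h.1) 1 1 = _; rw [Matrix.mul_apply, Fin.sum_univ_two]

theorem conjA00 (c : Fˣ) (g : SpecialLinearGroup (Fin 2) F) : (conjA c g).1 0 0 = g.1 1 1 := rfl
theorem conjA01 (c : Fˣ) (g : SpecialLinearGroup (Fin 2) F) : (conjA c g).1 0 1 = (c : F)⁻¹ * g.1 1 0 := rfl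
theorem conjA10 (c : Fˣ) (g : SpecialLinearGroup (Fin 2) F) : (conjA c g).1 1 0 = (c : F) * g.1 0 1 := rfl
theorem conjA11 (c : Fˣ) (g : SpecialLinearGroup (Fin 2) F) : (conjA c g).1 1 1 = g.1 0 0 := rfl

theorem X00 (t : F) : (SL2Sys.X t).1 0 0 = 1 := rfl
theorem X01 (t : F) : (SL2Sys.X t).1 0 1 = t := rfl
theorem X10 (t : F) : (SL2Sys.X t).1 1 0 = 0 := rfl
theorem X11 (t : F) : (SL2Sys.X t).1 1 1 = 1 := rfl
theorem Y00 (t : F) : (SL2Sys.Y t).1 0 0 = 1 := rfl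
theorem Y01 (t : F) : (SL2Sys.Y t).1 0 1 = 0 := rfl
theorem Y10 (t : F) : (SL2Sys.Y t).1 1 0 = t := rfl
theorem Y11 (t : F) : (SL2Sys.Y t).1 1 1 = 1 := rfl
theorem w00 : (SL2Sys.w F).1 0 0 = 0 := rfl
theorem w01 : (SL2Sys.w F).1 0 1 = 1 := rfl
theorem w10 : (SL2Sys.w F).1 1 0 = -1 := rfl
theorem w11 : (SL2Sys.w F).1 1 1 = 0 := rfl

theorem conjA_X (c : Fˣ) (t : F) : conjA c (SL2Sys.X t) = SL2Sys.Y ((c : F) * t) := by
  apply sl_ext <;> simp only [conjA00, conjA01, conjA10, conjA11, X00, X01, X10, X11, Y00, Y01, Y10, Y11, mul_zero]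

theorem conjA_Y (c : Fˣ) (t : F) : conjA c (SL2Sys.Y t) = SL2Sys.X ((c : F)⁻¹ * t) := by
  apply sl_ext <;> simp only [conjA00, conjA01, conjA10, conjA11, X00, X01, X10, X11, Y00, Y01, Y10, Y11, mul_zero]

theorem w_eq : SL2Sys.w F = SL2Sys.X 1 * SL2Sys.Y (-1) * SL2Sys.X 1 := by
  apply sl_ext <;> simp only [sl_mul00, sl_mul01, sl_mul10, sl_mul11, X00, X01, X10, X11, Y00, Y01, Y10, Y11, w00, w01, w10, w11] <;> ring

theorem sl2_hom_ext {G : Type*} [Group G] {f g : SpecialLinearGroup (Fin 2) F →* G} (hX : ∀ t, f (SL2Sys.X t) = g (SL2Sys.X t))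
    (hY : ∀ t, f (SL2Sys.Y t) = g (SL2Sys.Y t)) : f = g := by
  apply MonoidHom.ext
  intro x
  have := SL2Sys.mem_of_closed (f.eqLocus g).toSubmonoid (fun t => hX t) (by
    show f (SL2Sys.w F) = g (SL2Sys.w F)
    rw [w_eq, map_mul, map_mul, map_mul, map_mul, hX, hY]) x
  exact this

/-- `diag(t, t⁻¹)` -/
def dg (t : Fˣ) : SpecialLinearGroup (Fin 2) F := ⟨!![(t : F), 0; 0, ((t⁻¹ : Fˣ) : F)], by simp [Matrix.det_fin_two_of]⟩
/-- `[[0, t], [-t⁻¹, 0]]` -/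
def nt (t : Fˣ) : SpecialLinearGroup (Fin 2) F := ⟨!![0, (t : F); -((t⁻¹ : Fˣ) : F), 0], by simp [Matrix.det_fin_two_of]⟩

theorem dg00 (t : Fˣ) : (dg t).1 0 0 = (t : F) := rfl
theorem dg01 (t : Fˣ) : (dg t).1 0 1 = 0 := rfl
theorem dg10 (t : Fˣ) : (dg t).1 1 0 = 0 := rfl
theorem dg11 (t : Fˣ) : (dg t).1 1 1 = ((t⁻¹ : Fˣ) : F) := rfl
theorem nt00 (t : Fˣ) : (nt t).1 0 0 = 0 := rfl
theorem nt01 (t : Fˣ) : (nt t).1 0 1 = (t : F) := rfl
theorem nt10 (t : Fˣ) : (nt t).1 1 0 = -((t⁻¹ : Fˣ) : F) := rfl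
theorem nt11 (t : Fˣ) : (nt t).1 1 1 = 0 := rfl

theorem nt_eq (t : Fˣ) : nt t = SL2Sys.X (t : F) * SL2Sys.Y (-(t : F)⁻¹) * SL2Sys.X (t : F) := by
  have ht := t.ne_zero
  apply sl_ext <;> simp only [sl_mul00, sl_mul01, sl_mul10, sl_mul11, X00, X01, X10, X11, Y00, Y01, Y10, Y11, nt00, nt01, nt10, nt11,
    Units.val_inv_eq_inv_val] <;> field_simp <;> ring

theorem dg_eq (t : Fˣ) : dg t = nt t * nt (-1) := by
  apply sl_ext <;> simp only [sl_mul00, sl_mul01, sl_mul10, sl_mul11, dg00, dg01, dg10, dg11, nt00, nt01, nt10, nt11] <;> simp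

/-- the reduction matrix -/
def gred (h2 : (2 : F) ≠ 0) (d : Fˣ) : SpecialLinearGroup (Fin 2) F := ⟨!![1, -(2 * (d : F))⁻¹; (d : F), 2⁻¹], by
  have hd := d.ne_zero
  rw [Matrix.det_fin_two_of]
  field_simp
  ring⟩

theorem gred00 (h2 : (2 : F) ≠ 0) (d : Fˣ) : (gred h2 d).1 0 0 = 1 := rfl
theorem gred01 (h2 : (2 : F) ≠ 0) (d : Fˣ) : (gred h2 d).1 0 1 = -(2 * (d : F))⁻¹ := rfl
theorem gred10 (h2 : (2 : F) ≠ 0) (d : Fˣ) : (gred h2 d).1 1 0 = (d : F) := rfl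
theorem gred11 (h2 : (2 : F) ≠ 0) (d : Fˣ) : (gred h2 d).1 1 1 = 2⁻¹ := rfl

theorem gred_eq (h2 : (2 : F) ≠ 0) (d : Fˣ) : conjA (d * d) (gred h2 d) = gred h2 d * nt d⁻¹ := by
  have hd := d.ne_zero
  apply sl_ext <;> simp only [conjA00, conjA01, conjA10, conjA11, sl_mul00, sl_mul01, sl_mul10, sl_mul11, nt00, nt01, nt10, nt11,
    gred00, gred01, gred10, gred11, Units.val_mul, Units.val_inv_eq_inv_val, inv_inv] <;> field_simp <;> ring

/-- the flip matrix -/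
def gflip (e p : Fˣ) (a b : F) (h : (p : F) * (a ^ 2 + b ^ 2) = 1) : SpecialLinearGroup (Fin 2) F :=
  ⟨!![a, -((p : F) * b * (e : F)⁻¹); (e : F) * b, (p : F) * a], by
  have he := e.ne_zero
  rw [Matrix.det_fin_two_of]
  field_simp
  linear_combination h⟩

theorem gflip_eq (e p : Fˣ) (a b : F) (h : (p : F) * (a ^ 2 + b ^ 2) = 1) :
    conjA (-(e * e)) (gflip e p a b h) = gflip e p a b h * dg p := by
  have he := e.ne_zero
  have hp := p.ne_zero
  have g00 : (gflip e p a b h).1 0 0 = a := rfl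
  have g01 : (gflip e p a b h).1 0 1 = -((p : F) * b * (e : F)⁻¹) := rfl
  have g10 : (gflip e p a b h).1 1 0 = (e : F) * b := rfl
  have g11 : (gflip e p a b h).1 1 1 = (p : F) * a := rfl
  apply sl_ext <;> simp only [conjA00, conjA01, conjA10, conjA11, sl_mul00, sl_mul01, sl_mul10, sl_mul11, dg00, dg01, dg10, dg11,
    g00, g01, g10, g11, Units.val_mul, Units.val_inv_eq_inv_val, Units.val_neg] <;> field_simp <;> ring

theorem conjA_w (c : Fˣ) : conjA c (SL2Sys.w F) = SL2Sys.w F * dg (-c) := by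
  apply sl_ext <;> simp only [conjA00, conjA01, conjA10, conjA11, sl_mul00, sl_mul01, sl_mul10, sl_mul11, dg00, dg01, dg10, dg11,
    w00, w01, w10, w11] <;> simp

end sl2

section oddB

variable {D : ChevalleyDatum} {F : Type*} [Field F] (R : RootFacts D) (H : Good D) (E : DData D)

/-- the homomorphism `SL₂(F) → ⟨X_r, X_{-r}⟩` -/
noncomputable def phi (r : Fin D.nroots) : SpecialLinearGroup (Fin 2) F →* GL D.Idx F := (sl2Sys R H r.2).hom

theorem phi_X (r : Fin D.nroots) (t : F) : phi R H r (SL2Sys.X t) = xU H.toGood2 (r : ℕ) t := by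
  unfold phi; rw [SL2Sys.hom_X]; exact Units.ext rfl

theorem phi_Y (r : Fin D.nroots) (t : F) : phi R H r (SL2Sys.Y t) = xU H.toGood2 (D.neg r) t := by
  unfold phi; rw [SL2Sys.hom_Y]; exact Units.ext rfl

theorem phi_nt (r : Fin D.nroots) (t : Fˣ) : phi R H r (nt t) = Inst.nU H (r : ℕ) (t : F) := by
  rw [nt_eq, map_mul, map_mul, phi_X, phi_Y, ← Inst.nU_eq]

theorem phi_w (r : Fin D.nroots) : phi R H r (SL2Sys.w F) = Inst.nU H (r : ℕ) (1 : F) := by
  rw [w_eq, map_mul, map_mul, phi_X, phi_Y, Inst.nU_eq, inv_one]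

theorem phi_dg (r : Fin D.nroots) (t : Fˣ) : phi R H r (dg t) = Inst.hU H (r : ℕ) (t : F) := by
  rw [dg_eq, map_mul, phi_nt, phi_nt]
  unfold Inst.hU
  simp

theorem xU_mem_group' {r : ℕ} (hr : r < D.nroots) (t : F) : xU H.toGood2 r t ∈ D.group F := by
  refine Subgroup.subset_closure ⟨⟨r, hr⟩, t, ?_⟩
  rw [Inst.val_xU, x_eq hr]

variable {R H E}

theorem NA.conj_phi {m : GL D.Idx F} {w : Equiv.Perm (Fin D.nroots)} {γ : Fin D.nroots → Fˣ} (h : NA H E m w γ) (R : RootFacts D)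
    {r : Fin D.nroots} (hr : w r = E.rp.neg r) (g : SpecialLinearGroup (Fin 2) F) :
    m * phi R H r g * m⁻¹ = phi R H r (conjA (γ r) g) := by
  have hneg : ∀ s : Fin D.nroots, ((E.rp.neg s : Fin D.nroots) : ℕ) = D.neg s := E.hneg
  have h1 : (MulAut.conj m).toMonoidHom.comp (phi R H r) = (phi (F := F) R H r).comp (conjA (γ r)) := by
    apply sl2_hom_ext
    · intro t
      show m * phi R H r (SL2Sys.X t) * m⁻¹ = phi R H r (conjA (γ r) (SL2Sys.X t))
      rw [conjA_X, phi_X, phi_Y, h.x, hr, hneg]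
    · intro t
      show m * phi R H r (SL2Sys.Y t) * m⁻¹ = phi R H r (conjA (γ r) (SL2Sys.Y t))
      rw [conjA_Y, phi_X, phi_Y, ← hneg, h.x, h.neg]
      have h2 : w (E.rp.neg r) = r := by
        have := E.rp.wsys.W_neg h.act.1 r
        have h3 : w (E.rp.neg r) = E.rp.neg (w r) := this
        rw [h3, hr]; exact E.rp.wsys.neg_neg r
      rw [h2, Units.val_inv_eq_inv_val]
  exact congrArg (fun f : SpecialLinearGroup (Fin 2) F →* GL D.Idx F => f g) h1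

include R in
/-- `n_r(1)` acts as the reflection in `r` -/
theorem act_nU' (r : Fin D.nroots) : (chev E H F).Act (Inst.nU H (r : ℕ) (1 : F)) (sg E.rp.wsys r) ∧
    Inst.nU H (r : ℕ) (1 : F) ∈ (chev E H F).N := by
  obtain ⟨a, ha, i, hai⟩ := E.rp.wsys.exists_conj_p r
  obtain ⟨L, rfl⟩ := E.rp.wsys.exists_wd ha
  obtain ⟨η, h1, h2⟩ := Inst.word_nU (F := F) E H L (E.rp.p i) (Or.inl rfl)
  have h3 : E.rp.wsys.wd L (E.rp.p i) = r := hai
  have h4 : ((E.rp.p i : Fin D.nroots) : ℕ) = D.simple i := E.hp i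
  rw [h3, h4] at h2
  have h5 : (chev E H F).nd L = (L.map fun i : Fin D.rank => Inst.nn H F (i : ℕ)).prod := rfl
  rw [← h5] at h2
  have hN : (chev E H F).nd L ∈ (chev E H F).N := RGrp.nd_mem_N L
  have hA : (chev E H F).Act (Inst.nU H (r : ℕ) η) (sg E.rp.wsys r) ∧ Inst.nU H (r : ℕ) η ∈ (chev E H F).N := by
    rw [sg_eq E.rp.wsys (E.rp.wsys.wd_mem L) hai, ← h2]
    exact ⟨((RGrp.act_nd L).mul (RGrp.act_nn i)).mul (RGrp.act_nd L).inv,
      mul_mem (mul_mem hN ((chev E H F).nn_mem_N i)) (inv_mem hN)⟩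
  have h6 : Inst.nU H (r : ℕ) η * (Inst.nU H (r : ℕ) 1)⁻¹ ∈ (chev E H F).H := by
    rw [chev_H]; exact Inst.nU_pm H r.2 h1
  have h7 : Inst.nU H (r : ℕ) (1 : F) = (Inst.nU H (r : ℕ) η * (Inst.nU H (r : ℕ) 1)⁻¹)⁻¹ * Inst.nU H (r : ℕ) η := by group
  rw [h7]
  constructor
  · have := (RGrp.act_H (inv_mem h6)).mul hA.1
    rwa [one_mul] at this
  · exact mul_mem ((chev E H F).H_le_N (inv_mem h6)) hA.2

include R in
theorem act_nU_unit (r : Fin D.nroots) (t : Fˣ) : (chev E H F).Act (Inst.nU H (r : ℕ) (t : F)) (sg E.rp.wsys r) ∧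
    Inst.nU H (r : ℕ) (t : F) ∈ (chev E H F).N := by
  obtain ⟨h1, h2⟩ := act_nU' (F := F) (R := R) (H := H) (E := E) r
  have h3 : Inst.nU H (r : ℕ) (t : F) = Inst.hU H (r : ℕ) (t : F) * Inst.nU H (r : ℕ) 1 := by
    unfold Inst.hU
    rw [Inst.nU_neg]; group
  have h4 : Inst.hU H (r : ℕ) (t : F) ∈ (chev E H F).H := by
    rw [chev_H]; exact Inst.hU_mem H r.2 (Units.ne_zero _)
  rw [h3]
  constructor
  · have := (RGrp.act_H h4).mul h1
    rwa [one_mul] at this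
  · exact mul_mem ((chev E H F).H_le_N h4) h2

theorem phi_mem (R : RootFacts D) (r : Fin D.nroots) (g : SpecialLinearGroup (Fin 2) F) : phi R H r g ∈ D.group F := by
  have h1 : (⊤ : Subgroup (SpecialLinearGroup (Fin 2) F)) ≤ (D.group F).comap (phi R H r) := by
    intro x _
    have := SL2Sys.mem_of_closed ((D.group F).comap (phi R H r)).toSubmonoid (fun t => by
      show phi R H r (SL2Sys.X t) ∈ D.group F
      rw [phi_X]; exact xU_mem_group' H r.2 t) (by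
      show phi R H r (SL2Sys.w F) ∈ D.group F
      rw [w_eq, map_mul, map_mul, phi_X, phi_Y]
      exact mul_mem (mul_mem (xU_mem_group' H r.2 1) (xU_mem_group' H (neg_lt H.toGood1 r.2) _)) (xU_mem_group' H r.2 1)) x
    exact this
  exact h1 (Subgroup.mem_top g)

/-- **reduction** -/
theorem NA.reduce {m : GL D.Idx F} {w : Equiv.Perm (Fin D.nroots)} {γ : Fin D.nroots → Fˣ} (h : NA H E m w γ) (R : RootFacts D)
    (h2 : (2 : F) ≠ 0) (hm : m ∈ (chev E H F).N) {r : Fin D.nroots} (hr : w r = E.rp.neg r) (hs : IsSquare (γ r)) :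
    ∃ g ∈ D.group F, g⁻¹ * m * g ∈ (chev E H F).N ∧ (chev E H F).Act (g⁻¹ * m * g) (sg E.rp.wsys r * w) := by
  obtain ⟨d, hd⟩ := hs
  refine ⟨phi R H r (gred h2 d), phi_mem R r _, ?_⟩
  have h3 := h.conj_phi R hr (gred h2 d)
  rw [hd, gred_eq, map_mul, phi_nt, mul_inv_eq_iff_eq_mul] at h3
  have h4 : (phi R H r (gred h2 d))⁻¹ * m * phi R H r (gred h2 d) = Inst.nU H (r : ℕ) ((d⁻¹ : Fˣ) : F) * m := by
    rw [mul_assoc, h3]; group
  obtain ⟨h5, h6⟩ := act_nU_unit (F := F) (R := R) (H := H) (E := E) r d⁻¹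
  rw [h4]
  exact ⟨mul_mem h6 hm, h5.mul h.act⟩

/-- quadratic character as a homomorphism -/
noncomputable def qc (F : Type*) [Field F] [Fintype F] [DecidableEq F] : Fˣ →* ℤˣ := (quadraticChar F).toUnitHom

theorem qc_eq_one [Fintype F] [DecidableEq F] {a : Fˣ} : qc F a = 1 ↔ IsSquare a := by
  have h1 : ((qc F a : ℤˣ) : ℤ) = quadraticChar F (a : F) := MulChar.coe_toUnitHom _ _
  rw [← Units.val_inj, h1, Units.val_one, quadraticChar_one_iff_isSquare a.ne_zero]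
  constructor
  · rintro ⟨d, hd⟩
    have hd0 : d ≠ 0 := by rintro rfl; exact a.ne_zero (by rw [hd, mul_zero])
    exact ⟨Units.mk0 d hd0, Units.ext (by simpa using hd)⟩
  · rintro ⟨d, rfl⟩; exact ⟨d, by simp⟩

theorem qc_of_not [Fintype F] [DecidableEq F] {a : Fˣ} (h : ¬ IsSquare a) : qc F a = -1 := by
  rcases Int.units_eq_one_or (qc F a) with h1 | h1
  · exact absurd (qc_eq_one.1 h1) h
  · exact h1

/-- **flip** -/
theorem NA.flip [Fintype F] [DecidableEq F] {m : GL D.Idx F} {w : Equiv.Perm (Fin D.nroots)} {γ : Fin D.nroots → Fˣ} (h : NA H E m w γ) (R : RootFacts D)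
    (h2 : ringChar F ≠ 2) {r : Fin D.nroots} (hr : w r = E.rp.neg r) :
    ∃ g ∈ D.group F, ∃ p : Fˣ, ¬ IsSquare p ∧ g⁻¹ * m * g = Inst.hU H (r : ℕ) (p : F) * m := by
  by_cases hs : IsSquare (-(γ r))
  · obtain ⟨e, he⟩ := hs
    obtain ⟨p0, hp0⟩ := FiniteField.exists_nonsquare (F := F) h2
    have hp00 : p0 ≠ 0 := by rintro rfl; exact hp0 (IsSquare.zero)
    obtain ⟨a, b, hab⟩ := FiniteField.exists_root_sum_quadratic (R := F) (f := Polynomial.X ^ 2) (g := Polynomial.X ^ 2 - Polynomial.C p0⁻¹)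
      (by simp) (by rw [Polynomial.degree_sub_C] <;> simp) (by
        have := FiniteField.odd_card_of_char_ne_two h2
        exact this)
    simp only [Polynomial.eval_pow, Polynomial.eval_X, Polynomial.eval_sub, Polynomial.eval_C] at hab
    have hpab : p0 * (a ^ 2 + b ^ 2) = 1 := by
      have : a ^ 2 + b ^ 2 = p0⁻¹ := by linear_combination hab
      rw [this, mul_inv_cancel₀ hp00]
    have hc : γ r = -(e * e) := by rw [← he, _root_.neg_neg]
    set p : Fˣ := Units.mk0 p0 hp00 with hp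
    have hg := gflip_eq e p a b hpab
    have h3 := h.conj_phi R hr (gflip e p a b hpab)
    rw [hc, hg, map_mul, phi_dg, mul_inv_eq_iff_eq_mul] at h3
    refine ⟨phi R H r (gflip e p a b hpab), phi_mem R r _, p, ?_, ?_⟩
    · rintro ⟨x, hx⟩
      apply hp0
      refine ⟨(x : F), ?_⟩
      have := congrArg (fun u : Fˣ => (u : F)) hx
      simpa [hp] using this
    · rw [mul_assoc, h3]; group
  · refine ⟨phi R H r (SL2Sys.w F), phi_mem R r _, -(γ r), hs, ?_⟩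
    have h3 := h.conj_phi R hr (SL2Sys.w F)
    rw [conjA_w, map_mul, phi_dg, mul_inv_eq_iff_eq_mul] at h3
    rw [mul_assoc, h3]; group

end oddB

end Cfsg.Agent.ChevU
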