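import Cfsg.Agent.ChevU.OddB

set_option autoImplicit false
set_option linter.unusedSectionVars false
set_option linter.unusedVariables false

/-!
# Parity for monomial involutions (helper17)
-/

namespace Cfsg.Agent.ChevU

open Cfsg.Lie Cfsg.Agent.Chev Cfsg.Agent.ChevGrp Cfsg.Agent.ChevWeyl Matrix

section oddC

variable {D : ChevalleyDatum} {F : Type*} [Field F] {R : RootFacts D} {H : Good D} {E : DData D}

/-! ### the flip-and-reduce step -/

theorem NA.step2 [Fintype F] [DecidableEq F] {m : GL D.Idx F} {w : Equiv.Perm (Fin D.nroots)} {γ : Fin D.nroots → Fˣ} (h : NA H E m w γ)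
    (R : RootFacts D) (h2 : ringChar F ≠ 2) (hm : m ∈ (chev E H F).N) {r s : Fin D.nroots} (hr : w r = E.rp.neg r) (hs : w s = E.rp.neg s)
    (hodd : Odd (pr D r s)) :
    ∃ g ∈ D.group F, g⁻¹ * m * g ∈ (chev E H F).N ∧ (chev E H F).Act (g⁻¹ * m * g) (sg E.rp.wsys s * w) := by
  have h20 : (2 : F) ≠ 0 := Ring.two_ne_zero h2
  by_cases hsq : IsSquare (γ s)
  · exact h.reduce R h20 hm hs hsq
  · obtain ⟨g, hg, p, hp, e⟩ := h.flip R h2 hr
    have hN := (NA.hU (E := E) (H := H) R r.2 p).mul h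
    rw [one_mul] at hN
    have hm' : Inst.hU H (r : ℕ) (p : F) * m ∈ (chev E H F).N :=
      mul_mem ((chev E H F).H_le_N (by rw [chev_H]; exact Inst.hU_mem H r.2 (Units.ne_zero _))) hm
    have hsq' : IsSquare (p ^ pr D r (w s : Fin D.nroots) * γ s) := by
      rw [← qc_eq_one, map_mul, map_zpow, qc_of_not hp, qc_of_not hsq, hs]
      have h3 : ((E.rp.neg s : Fin D.nroots) : ℕ) = D.neg s := E.hneg s
      rw [h3, pr_neg_right H.toGood1 r.2 s.2]
      have h4 : Odd (-(pr D r s)) := hodd.neg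
      rw [h4.neg_one_zpow]
      simp
    obtain ⟨g', hg', e1, e2⟩ := hN.reduce R h20 hm' hs hsq'
    refine ⟨g * g', mul_mem hg hg', ?_, ?_⟩
    · have : (g * g')⁻¹ * m * (g * g') = g'⁻¹ * (g⁻¹ * m * g) * g' := by group
      rw [this, e]; exact e1
    · have : (g * g')⁻¹ * m * (g * g') = g'⁻¹ * (g⁻¹ * m * g) * g' := by group
      rw [this, e]; exact e2

/-! ### strongly orthogonal roots -/

/-- strong orthogonality -/
def so (D : ChevalleyDatum) (r s : ℕ) : Bool :=
  decide (s ≠ r) && decide (s ≠ D.neg r) && decide (D.neg s ≠ r) && decide (D.neg s ≠ D.neg r) &&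
  (D.commTerms r s).isEmpty && (D.commTerms r (D.neg s)).isEmpty &&
  (D.commTerms (D.neg r) s).isEmpty && (D.commTerms (D.neg r) (D.neg s)).isEmpty

include R in
theorem commute_of_nil {r s : ℕ} (hr : r < D.nroots) (hs : s < D.nroots) (hne : s ≠ r) (hn : s ≠ D.neg r)
    (h : (D.commTerms r s).isEmpty = true) (t u : F) : Commute (xU H.toGood2 r t) (xU H.toGood2 s u) := by
  have h1 := conj_xu R.tab (elemOfGood H F) hr hs hne hn t u
  have h2 : D.commWord F r s t u = [] := by
    unfold ChevalleyDatum.commWord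
    rw [List.isEmpty_iff.1 h]; rfl
  rw [h2] at h1
  have h3 : wu R.tab (elemOfGood H F) ([] : List (ℕ × F)) = 1 := by
    apply Units.ext
    rfl
  rw [h3, mul_one] at h1
  have h4 : (xU H.toGood2 r t)⁻¹ * xU H.toGood2 s u * xU H.toGood2 r t = xU H.toGood2 s u := by
    have e1 : xu R.tab (elemOfGood H F) r t = xU H.toGood2 r t := Units.ext rfl
    have e2 : xu R.tab (elemOfGood H F) s u = xU H.toGood2 s u := Units.ext rfl
    rw [e1, e2] at h1
    exact h1
  have h5 : xU H.toGood2 s u * xU H.toGood2 r t = xU H.toGood2 r t * xU H.toGood2 s u := by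
    calc xU H.toGood2 s u * xU H.toGood2 r t = xU H.toGood2 r t * ((xU H.toGood2 r t)⁻¹ * xU H.toGood2 s u * xU H.toGood2 r t) := by group
      _ = _ := by rw [h4]
  exact h5.symm

theorem phi_mem_of {r : Fin D.nroots} {K : Subgroup (GL D.Idx F)} (hX : ∀ t : F, xU H.toGood2 (r : ℕ) t ∈ K)
    (hY : ∀ t : F, xU H.toGood2 (D.neg r) t ∈ K) (g : SpecialLinearGroup (Fin 2) F) : phi R H r g ∈ K := by
  have := SL2Sys.mem_of_closed (K.comap (phi R H r)).toSubmonoid (fun t => by
    show phi R H r (SL2Sys.X t) ∈ K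
    rw [phi_X]; exact hX t) (by
    show phi R H r (SL2Sys.w F) ∈ K
    rw [w_eq, map_mul, map_mul, phi_X, phi_Y]
    exact mul_mem (mul_mem (hX _) (hY _)) (hX _)) g
  exact this

theorem phi_comm {r s : Fin D.nroots} (h : so D r s = true) (g g' : SpecialLinearGroup (Fin 2) F) :
    phi R H r g * phi R H s g' = phi R H s g' * phi R H r g := by
  unfold so at h
  simp only [Bool.and_eq_true, decide_eq_true_eq] at h
  obtain ⟨⟨⟨⟨⟨⟨⟨h1, h2⟩, h3⟩, h4⟩, h5⟩, h6⟩, h7⟩, h8⟩ := h
  have hr := r.2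
  have hs := s.2
  have hnr := neg_lt H.toGood1 hr
  have hns := neg_lt H.toGood1 hs
  have hnn : D.neg (D.neg r) = (r : ℕ) := Chev.neg_neg H.toGood1 hr
  have c1 : ∀ t u : F, Commute (xU H.toGood2 (r : ℕ) t) (xU H.toGood2 (s : ℕ) u) := commute_of_nil (R := R) (H := H) hr hs h1 h2 h5
  have c2 : ∀ t u : F, Commute (xU H.toGood2 (r : ℕ) t) (xU H.toGood2 (D.neg s) u) := commute_of_nil (R := R) (H := H) hr hns h3 h4 h6
  have c3 : ∀ t u : F, Commute (xU H.toGood2 (D.neg r) t) (xU H.toGood2 (s : ℕ) u) :=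
    commute_of_nil (R := R) (H := H) hnr hs h2 (by rw [hnn]; exact h1) h7
  have c4 : ∀ t u : F, Commute (xU H.toGood2 (D.neg r) t) (xU H.toGood2 (D.neg s) u) :=
    commute_of_nil (R := R) (H := H) hnr hns h4 (by rw [hnn]; exact h3) h8
  have key : ∀ x : GL D.Idx F, (∀ u : F, Commute x (xU H.toGood2 (s : ℕ) u)) → (∀ u : F, Commute x (xU H.toGood2 (D.neg s) u)) →
      phi R H s g' ∈ Subgroup.centralizer {x} := by
    intro x hx hx'
    apply phi_mem_of
    · intro t; rw [Subgroup.mem_centralizer_singleton_iff]; exact (hx t).symm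
    · intro t; rw [Subgroup.mem_centralizer_singleton_iff]; exact (hx' t).symm
  have : phi R H r g ∈ Subgroup.centralizer {phi R H s g'} := by
    apply phi_mem_of
    · intro t
      rw [Subgroup.mem_centralizer_singleton_iff]
      have := key _ (c1 t) (c2 t)
      rw [Subgroup.mem_centralizer_singleton_iff] at this
      exact this.symm
    · intro t
      rw [Subgroup.mem_centralizer_singleton_iff]
      have := key _ (c3 t) (c4 t)
      rw [Subgroup.mem_centralizer_singleton_iff] at this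
      exact this.symm
  rw [Subgroup.mem_centralizer_singleton_iff] at this
  exact this

/-- product of the `n_r(1)` -/
noncomputable def nuL (R : RootFacts D) (H : Good D) (F : Type*) [Field F] (L : List (Fin D.nroots)) : GL D.Idx F :=
  (L.map fun r => phi (F := F) R H r (SL2Sys.w F)).prod

theorem nuL_cons (r : Fin D.nroots) (L : List (Fin D.nroots)) : nuL R H F (r :: L) = phi R H r (SL2Sys.w F) * nuL R H F L := by
  simp [nuL]

theorem act_nuL (L : List (Fin D.nroots)) : (chev E H F).Act (nuL R H F L) ((L.map (sg E.rp.wsys)).prod) ∧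
    nuL R H F L ∈ (chev E H F).N := by
  induction L with
  | nil => exact ⟨RGrp.act_one, one_mem _⟩
  | cons r L ih =>
    rw [List.map_cons, nuL_cons, List.prod_cons, phi_w]
    exact ⟨(act_nU' (R := R) r).1.mul ih.1, mul_mem (act_nU' (R := R) r).2 ih.2⟩

theorem nuL_comm {r : Fin D.nroots} {L : List (Fin D.nroots)} (h : ∀ s ∈ L, so D r s = true) (g : SpecialLinearGroup (Fin 2) F) :
    phi R H r g * nuL R H F L = nuL R H F L * phi R H r g := by
  apply prod_comm
  intro x hx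
  rw [List.mem_map] at hx
  obtain ⟨s, hs, rfl⟩ := hx
  exact phi_comm (h s hs) _ _

theorem nuL_conj {L : List (Fin D.nroots)} (hL : L.Pairwise (fun r s : Fin D.nroots => so D r s = true ∧ so D s r = true)) {r : Fin D.nroots} (hr : r ∈ L)
    (g : SpecialLinearGroup (Fin 2) F) :
    nuL R H F L * phi R H r g * (nuL R H F L)⁻¹ = phi R H r (SL2Sys.w F * g * (SL2Sys.w F)⁻¹) := by
  induction L with
  | nil => simp at hr
  | cons a L ih =>
    rw [List.pairwise_cons] at hL
    rw [nuL_cons]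
    have e : phi R H a (SL2Sys.w F) * nuL R H F L * phi R H r g * (phi R H a (SL2Sys.w F) * nuL R H F L)⁻¹ =
      phi R H a (SL2Sys.w F) * (nuL R H F L * phi R H r g * (nuL R H F L)⁻¹) * (phi R H a (SL2Sys.w F))⁻¹ := by group
    rw [e]
    rcases List.mem_cons.1 hr with rfl | hr
    · rw [← nuL_comm (fun s hs => (hL.1 s hs).1), mul_inv_cancel_right, map_mul, map_mul, map_inv]
    · rw [ih hL.2 hr]
      have := phi_comm (F := F) (R := R) (H := H) (hL.1 r hr).1 (SL2Sys.w F) (SL2Sys.w F * g * (SL2Sys.w F)⁻¹)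
      rw [this, mul_inv_cancel_right]

theorem dg_w (t : Fˣ) : (SL2Sys.w F)⁻¹ * dg t * SL2Sys.w F = dg t⁻¹ := by
  rw [mul_assoc, inv_mul_eq_iff_eq_mul]
  apply sl_ext <;> simp only [sl_mul00, sl_mul01, sl_mul10, sl_mul11, dg00, dg01, dg10, dg11, w00, w01, w10, w11] <;> simp

theorem w_w : SL2Sys.w F * SL2Sys.w F = dg (-1) := by
  apply sl_ext <;> simp only [sl_mul00, sl_mul01, sl_mul10, sl_mul11, dg00, dg01, dg10, dg11, w00, w01, w10, w11] <;> simp

/-- `h n_r(1) h⁻¹ = h_r(χ) n_r(1)` -/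
theorem conj_nr {h : GL D.Idx F} {χ : Fin D.nroots → Fˣ} (hh : NA H E h 1 χ) (r : Fin D.nroots) :
    h * phi R H r (SL2Sys.w F) * h⁻¹ = phi R H r (dg (χ r)) * phi R H r (SL2Sys.w F) := by
  have h1 := hh.x r 1
  have h2 := hh.x (E.rp.neg r) (-1)
  have h3 : ((E.rp.neg r : Fin D.nroots) : ℕ) = D.neg r := E.hneg r
  rw [hh.neg, Equiv.Perm.one_apply, h3] at h2
  rw [Equiv.Perm.one_apply] at h1
  rw [w_eq, map_mul, map_mul, phi_X, phi_Y]
  have e : h * (xU H.toGood2 (r : ℕ) 1 * xU H.toGood2 (D.neg r) (-1) * xU H.toGood2 (r : ℕ) 1) * h⁻¹ =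
    (h * xU H.toGood2 (r : ℕ) 1 * h⁻¹) * (h * xU H.toGood2 (D.neg r) (-1) * h⁻¹) * (h * xU H.toGood2 (r : ℕ) 1 * h⁻¹) := by group
  rw [e, h1, h2, ← phi_X R H r, ← phi_Y R H r, ← phi_X R H r, ← phi_Y R H r, ← map_mul, ← map_mul, ← map_mul, ← map_mul, ← map_mul]
  congr 1
  have hc := (χ r).ne_zero
  apply sl_ext <;> simp only [sl_mul00, sl_mul01, sl_mul10, sl_mul11, X00, X01, X10, X11, Y00, Y01, Y10, Y11, dg00, dg01, dg10, dg11,
    Units.val_inv_eq_inv_val] <;> field_simp <;> ring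

theorem phi_dg_mem (r : Fin D.nroots) (t : Fˣ) : phi R H r (dg t) ∈ D.diagonalSubgroup F := by
  rw [phi_dg]; exact Inst.hU_mem H r.2 (Units.ne_zero _)

/-- `ν⁻¹ h ν` -/
theorem nuL_inv_conj {h : GL D.Idx F} {χ : Fin D.nroots → Fˣ} (hh : NA H E h 1 χ) (hH : h ∈ D.diagonalSubgroup F)
    {L : List (Fin D.nroots)} (hL : L.Pairwise (fun r s : Fin D.nroots => so D r s = true ∧ so D s r = true)) :
    (nuL R H F L)⁻¹ * h * nuL R H F L = (L.map fun r => phi R H r (dg (χ r)⁻¹)).prod * h := by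
  induction L with
  | nil => simp [nuL]
  | cons a L ih =>
    rw [List.pairwise_cons] at hL
    rw [nuL_cons, List.map_cons, List.prod_cons]
    have h1 := conj_nr (R := R) hh a
    have h2 : (phi R H a (SL2Sys.w F))⁻¹ * h * phi R H a (SL2Sys.w F) = phi R H a (dg (χ a)⁻¹) * h := by
      rw [mul_inv_eq_iff_eq_mul] at h1
      rw [mul_assoc, h1, ← dg_w, map_mul, map_mul, map_inv]
      group
    have e : (phi R H a (SL2Sys.w F) * nuL R H F L)⁻¹ * h * (phi R H a (SL2Sys.w F) * nuL R H F L) =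
      (nuL R H F L)⁻¹ * ((phi R H a (SL2Sys.w F))⁻¹ * h * phi R H a (SL2Sys.w F)) * nuL R H F L := by group
    rw [e, h2]
    have e2 : (nuL R H F L)⁻¹ * (phi R H a (dg (χ a)⁻¹) * h) * nuL R H F L =
      (nuL R H F L)⁻¹ * phi R H a (dg (χ a)⁻¹) * nuL R H F L * ((nuL R H F L)⁻¹ * h * nuL R H F L) := by group
    rw [e2, ih hL.2, mul_assoc (nuL R H F L)⁻¹, nuL_comm (fun s hs => (hL.1 s hs).1)]
    group

theorem nuL_sq {L : List (Fin D.nroots)} (hL : L.Pairwise (fun r s : Fin D.nroots => so D r s = true ∧ so D s r = true)) :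
    nuL R H F L * nuL R H F L = (L.map fun r => phi R H r (dg (F := F) (-1))).prod := by
  induction L with
  | nil => simp [nuL]
  | cons a L ih =>
    rw [List.pairwise_cons] at hL
    rw [nuL_cons, List.map_cons, List.prod_cons, ← ih hL.2, ← w_w, map_mul]
    have := nuL_comm (R := R) (H := H) (F := F) (fun s hs => (hL.1 s hs).1) (SL2Sys.w F) (r := a) (L := L)
    calc phi R H a (SL2Sys.w F) * nuL R H F L * (phi R H a (SL2Sys.w F) * nuL R H F L)
        = phi R H a (SL2Sys.w F) * (nuL R H F L * phi R H a (SL2Sys.w F)) * nuL R H F L := by group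
      _ = _ := by rw [← this]; group

/-- characters of a product over a list -/
theorem NA.list {L : List (Fin D.nroots)} (f : Fin D.nroots → Fˣ) (R : RootFacts D) :
    NA H E ((L.map fun r => phi R H r (dg (f r))).prod) 1 (fun s => (L.map fun r : Fin D.nroots => f r ^ pr D r s).prod) := by
  induction L with
  | nil => exact NA.one
  | cons a L ih =>
    have h1 := (NA.hU (F := F) (E := E) (H := H) R a.2 (f a)).mul ih
    rw [List.map_cons, List.prod_cons, phi_dg]
    exact h1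

/-- **parity** -/
theorem NA.parity {m : GL D.Idx F} {L : List (Fin D.nroots)} {γ : Fin D.nroots → Fˣ} (h : NA H E m ((L.map (sg E.rp.wsys)).prod) γ)
    (R : RootFacts D) (hm : m ∈ (chev E H F).N) (hmm : m * m = 1)
    (hL : L.Pairwise (fun r s : Fin D.nroots => so D r s = true ∧ so D s r = true)) (hneg : ∀ r ∈ L, (L.map (sg E.rp.wsys)).prod r = E.rp.neg r)
    (s : Fin D.nroots) : IsSquare ((L.map fun r : Fin D.nroots => γ r ^ pr D r s).prod) := by
  obtain ⟨h1, h2⟩ := act_nuL (F := F) (R := R) (H := H) (E := E) L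
  set ν := nuL R H F L with hν
  have h3 : ν⁻¹ * m ∈ (chev E H F).H := by
    apply RGrp.mem_H_of_act_one (mul_mem (inv_mem h2) hm)
    have := h1.inv.mul h.act
    rwa [inv_mul_cancel] at this
  rw [chev_H] at h3
  set k := ν⁻¹ * m with hk
  have hmk : m = ν * k := by rw [hk]; group
  obtain ⟨wk, χ, hχ⟩ := exists_NA (E := E) (H := H) R ((chev E H F).H_le_N (by rw [chev_H]; exact h3))
  have hw1 : wk = 1 := RGrp.Act.unique hχ.act (RGrp.act_H (by rw [chev_H]; exact h3))
  subst hw1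
  -- the coefficients on `L`
  have hγ : ∀ r ∈ L, γ r = -(χ r) := by
    intro r hr
    have h4 := h.x r 1
    rw [hneg r hr, hmk] at h4
    have h5 : ν * k * xU H.toGood2 (r : ℕ) 1 * (ν * k)⁻¹ = ν * (k * xU H.toGood2 (r : ℕ) 1 * k⁻¹) * ν⁻¹ := by group
    rw [h5, hχ.x, Equiv.Perm.one_apply, ← phi_X R H r, nuL_conj hL hr] at h4
    have h6 : SL2Sys.w F * SL2Sys.X ((χ r : F) * 1) * (SL2Sys.w F)⁻¹ = SL2Sys.Y (-(χ r : F)) := by
      rw [mul_inv_eq_iff_eq_mul]
      apply sl_ext <;> simp only [sl_mul00, sl_mul01, sl_mul10, sl_mul11, X00, X01, X10, X11, Y00, Y01, Y10, Y11, w00, w01, w10, w11] <;> ring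
    have h7 : ((E.rp.neg r : Fin D.nroots) : ℕ) = D.neg r := E.hneg r
    rw [h6, phi_Y, h7] at h4
    have h8 := xU_inj H (neg_lt H.toGood1 r.2) h4
    apply Units.ext
    rw [Units.val_neg, h8, mul_one]
  -- the square
  have h9 : m * m = (L.map fun r => phi R H r (dg (F := F) (-1))).prod * ((L.map fun r => phi R H r (dg (χ r)⁻¹)).prod * k) * k := by
    rw [← nuL_sq hL, ← nuL_inv_conj hχ h3 hL, ← hν, hmk]
    group
  rw [hmm] at h9
  have h10 := ((NA.list (E := E) (H := H) (L := L) (fun _ => (-1 : Fˣ)) R).mul ((NA.list (E := E) (H := H) (L := L) (fun r => (χ r)⁻¹) R).mul hχ)).mul hχ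
  rw [← h9] at h10
  obtain ⟨-, h11⟩ := NA.unique (NA.one (F := F) (E := E) (H := H)) h10
  have h12 := congrFun h11 s
  simp only [Equiv.Perm.mul_apply, Equiv.Perm.one_apply, Pi.one_apply] at h12
  have h13 : (L.map fun r : Fin D.nroots => γ r ^ pr D r s).prod * ((L.map fun r : Fin D.nroots => (-1 : Fˣ) ^ pr D r s).prod *
      (L.map fun r : Fin D.nroots => ((χ r)⁻¹) ^ pr D r s).prod) = 1 := by
    have h14 : (L.map fun r : Fin D.nroots => γ r ^ pr D r s) = (L.map fun r : Fin D.nroots => (-(χ r)) ^ pr D r s) :=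
      List.map_congr_left fun r hr => by rw [hγ r hr]
    rw [h14, ← List.prod_map_mul, ← List.prod_map_mul]
    apply List.prod_eq_one
    intro x hx
    rw [List.mem_map] at hx
    obtain ⟨r, _, rfl⟩ := hx
    rw [← mul_zpow, ← mul_zpow]
    simp
  refine ⟨χ s, ?_⟩
  have h15 : (L.map fun r : Fin D.nroots => γ r ^ pr D r s).prod *
      (((L.map fun r : Fin D.nroots => (-1 : Fˣ) ^ pr D r s).prod * ((L.map fun r : Fin D.nroots => ((χ r)⁻¹) ^ pr D r s).prod * χ s)) * χ s) =
      (L.map fun r : Fin D.nroots => γ r ^ pr D r s).prod := by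
    rw [← h12, mul_one]
  rw [← h15]
  calc _ = (L.map fun r : Fin D.nroots => γ r ^ pr D r s).prod * ((L.map fun r : Fin D.nroots => (-1 : Fˣ) ^ pr D r s).prod *
      (L.map fun r : Fin D.nroots => ((χ r)⁻¹) ^ pr D r s).prod) * (χ s * χ s) := by
        simp only [mul_assoc]
    _ = _ := by rw [h13, one_mul]

/-- **parity step** -/
theorem NA.step1 [Fintype F] [DecidableEq F] {m : GL D.Idx F} {L : List (Fin D.nroots)} {γ : Fin D.nroots → Fˣ}
    (h : NA H E m ((L.map (sg E.rp.wsys)).prod) γ) (R : RootFacts D) (h2 : ringChar F ≠ 2) (hm : m ∈ (chev E H F).N) (hmm : m * m = 1)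
    (hL : L.Pairwise (fun r s : Fin D.nroots => so D r s = true ∧ so D s r = true)) (hneg : ∀ r ∈ L, (L.map (sg E.rp.wsys)).prod r = E.rp.neg r)
    {s : Fin D.nroots} (hs : Odd ((L.map fun r : Fin D.nroots => pr D r s).sum)) :
    ∃ r, (L.map (sg E.rp.wsys)).prod r = E.rp.neg r ∧ ∃ g ∈ D.group F, g⁻¹ * m * g ∈ (chev E H F).N ∧
      (chev E H F).Act (g⁻¹ * m * g) (sg E.rp.wsys r * (L.map (sg E.rp.wsys)).prod) := by
  have h20 : (2 : F) ≠ 0 := Ring.two_ne_zero h2
  by_cases hex : ∃ r ∈ L, IsSquare (γ r)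
  · obtain ⟨r, hr, hsq⟩ := hex
    exact ⟨r, hneg r hr, h.reduce R h20 hm (hneg r hr) hsq⟩
  · exfalso
    push Not at hex
    have h3 := h.parity R hm hmm hL hneg s
    rw [← qc_eq_one, map_list_prod, List.map_map] at h3
    have h4 : (L.map (⇑(qc F) ∘ fun r : Fin D.nroots => γ r ^ pr D r s)) = L.map fun r : Fin D.nroots => (-1 : ℤˣ) ^ pr D r s := by
      apply List.map_congr_left
      intro r hr
      rw [Function.comp_apply, map_zpow, qc_of_not (hex r hr)]
    rw [h4] at h3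
    have h5 : ∀ M : List (Fin D.nroots), (M.map fun r : Fin D.nroots => (-1 : ℤˣ) ^ pr D r s).prod = (-1) ^ ((M.map fun r : Fin D.nroots => pr D r s).sum) := by
      intro M
      induction M with
      | nil => simp
      | cons a M ih => rw [List.map_cons, List.prod_cons, ih, List.map_cons, List.sum_cons, _root_.zpow_add]
    rw [h5, hs.neg_one_zpow] at h3
    exact absurd h3 (by decide)

end oddC

end Cfsg.Agent.ChevU
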