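import Cfsg.Agent.ChevU.OddDat2
import Cfsg.Agent.ChevU.All

set_option autoImplicit false
set_option linter.unusedSectionVars false
set_option linter.unusedVariables false

/-!
# Classes of involutions in odd characteristic (helper17)
-/

namespace Cfsg.Agent.ChevU

open Cfsg.Lie Cfsg.Agent.Chev Cfsg.Agent.ChevGrp Cfsg.Agent.ChevWeyl Matrix

/-- the data for the classes of involutions -/
structure OddData (D : ChevalleyDatum) where
  nodes : List (List ℕ)
  leafs : List (List ℕ × List ℕ × List ℕ)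
  chk : OddChk D nodes leafs
  S : SmithData D.rank
  hS : S.OK
  hC : cmat D = Matrix.of S.C
  hd : ∀ k, S.d k = 1
  L : List (ℕ × List (ℕ × ℕ × ℕ))
  hL : ∀ x ∈ L, chkT D [x.1] x.2 = true
  hall : ((List.range (2 ^ D.rank)).all fun b => b == 0 || L.any fun x => (orbL x.1 x.2).contains b) = true

theorem ringChar_ne_two {F : Type*} [Field F] [Fintype F] (hF : Odd (Fintype.card F)) : ringChar F ≠ 2 := by
  intro h
  have := FiniteField.even_card_of_char_two h
  have h2 := Nat.odd_iff.1 hF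
  omega

theorem OddData.cls {D : ChevalleyDatum} (O : OddData D) {F : Type*} [Field F] [Fintype F] (R : RootFacts D) (H : Good D) (E : DData D)
    (hF : Odd (Fintype.card F)) {t : GL D.Idx F} (ht : t ∈ D.group F) (htt : t * t = 1) (h1 : t ≠ 1) :
    ∃ x ∈ O.L, Eqv D F t (hHom D F (sv D F x.1)) := by
  classical
  obtain ⟨h, hh, hhh, hE⟩ := exists_torus R H O.chk E (ringChar_ne_two hF) ht htt
  have hne : h ≠ 1 := by
    rintro rfl
    obtain ⟨g, _, e⟩ := hE
    apply h1
    rw [mul_inv_eq_one] at e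
    exact mul_left_cancel (e.trans (mul_one g).symm)
  obtain ⟨x, hx, hE'⟩ := torus_class R H E O.S O.hS O.hC O.hd O.L O.hL O.hall hh hhh hne
  exact ⟨x, hx, hE.trans' hE'⟩

theorem node_all {D : ChevalleyDatum} (H : Good D) {nodes : List (List ℕ)} {leafs : List (List ℕ × List ℕ × List ℕ)}
    (h : nodes.all (chkNodeF D nodes leafs) = true) : nodes.all (chkNode D nodes leafs) = true := by
  rw [List.all_eq_true] at h ⊢
  exact fun L hL => chkNode_of_fast H.toFast (h L hL)

theorem oddChkG2 (H : Good chevG2) : OddChk chevG2 IvG2.nodes IvG2.leafs where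
  nil := by decide
  node := node_all H IvG2.nodesF
  o1 := by
    intro L hL
    simp only [IvG2.nodes, List.mem_cons, List.not_mem_nil, or_false] at hL
    rcases hL with rfl | rfl | rfl | rfl | rfl
    · exact Or.inl rfl
    · exact Or.inr (Or.inl ⟨_, OddDat.g2a⟩)
    · exact Or.inr (Or.inl ⟨_, OddDat.g2b⟩)
    · exact Or.inr (Or.inr ⟨_, _, OddDat.g2c⟩)
    · exact Or.inr (Or.inr ⟨_, _, OddDat.g2d⟩)
  o2 := by
    intro l hl
    simp [IvG2.leafs] at hl

theorem oddChkF4 (H : Good chevF4) : OddChk chevF4 IvF4.nodes IvF4.leafs where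
  nil := by decide
  node := node_all H IvF4.nodesF
  o1 := by
    intro L hL
    simp only [IvF4.nodes, List.mem_cons, List.not_mem_nil, or_false] at hL
    rcases hL with rfl | rfl | rfl | rfl | rfl | rfl | rfl
    · exact Or.inl rfl
    · exact Or.inr (Or.inl ⟨_, OddDat.f4a⟩)
    · exact Or.inr (Or.inl ⟨_, OddDat.f4b⟩)
    · exact Or.inr (Or.inr ⟨_, _, OddDat.f4c⟩)
    · exact Or.inr (Or.inl ⟨_, OddDat.f4d⟩)
    · exact Or.inr (Or.inl ⟨_, OddDat.f4e⟩)
    · exact Or.inr (Or.inl ⟨_, OddDat.f4f⟩)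
  o2 := by
    intro l hl
    have h := OddDat.f4l
    rw [List.all_eq_true] at h
    have := h l hl
    rw [Bool.or_eq_true, Bool.or_eq_true] at this
    rcases this with (h | h) | h
    exacts [⟨_, _, h⟩, ⟨_, _, h⟩, ⟨_, _, h⟩]

theorem oddChkE8 (H : Good chevE8) : OddChk chevE8 IvE8.nodes IvE8.leafs where
  nil := by decide
  node := IvE8.ok_nodes H.toFast
  o1 := by
    intro L hL
    simp only [IvE8.nodes, List.mem_cons, List.not_mem_nil, or_false] at hL
    rcases hL with rfl | rfl | rfl | rfl | rfl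
    · exact Or.inl rfl
    · exact Or.inr (Or.inl ⟨_, OddDat.e8a⟩)
    · exact Or.inr (Or.inl ⟨_, OddDat.e8b⟩)
    · exact Or.inr (Or.inl ⟨_, OddDat.e8c⟩)
    · exact Or.inr (Or.inl ⟨_, OddDat.e8d⟩)
  o2 := by
    intro l hl
    simp only [IvE8.leafs, List.mem_cons, List.not_mem_nil, or_false] at hl
    rcases hl with rfl | rfl | rfl | rfl | rfl
    exacts [⟨_, _, OddDat.e8l0⟩, ⟨_, _, OddDat.e8l1⟩, ⟨_, _, OddDat.e8l2⟩, ⟨_, _, OddDat.e8l3⟩, ⟨_, _, OddDat.e8l4⟩]

noncomputable def oddG2 (H : Good chevG2) : OddData chevG2 where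
  nodes := _
  leafs := _
  chk := oddChkG2 H
  S := smG2
  hS := smG2_ok
  hC := by funext i j; exact smG2_cartan i j
  hd := by decide
  L := OddDat.foG2
  hL := OddDat.foG2_ok
  hall := OddDat.foG2_all

noncomputable def oddF4 (H : Good chevF4) : OddData chevF4 where
  nodes := _
  leafs := _
  chk := oddChkF4 H
  S := smF4
  hS := smF4_ok
  hC := by funext i j; exact smF4_cartan i j
  hd := by decide
  L := OddDat.foF4
  hL := OddDat.foF4_ok
  hall := OddDat.foF4_all

noncomputable def oddE8 (H : Good chevE8) : OddData chevE8 where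
  nodes := _
  leafs := _
  chk := oddChkE8 H
  S := smE8
  hS := smE8_ok
  hC := by funext i j; exact smE8_cartan i j
  hd := by decide
  L := OddDat.foE8
  hL := OddDat.foE8_ok
  hall := OddDat.foE8_all

/-- passing to the subtype -/
theorem isConj_of_eqv {D : ChevalleyDatum} {F : Type*} [Field F] {s t : ↥(D.group F)} (h : Eqv D F (s : GL D.Idx F) t) : IsConj s t := by
  obtain ⟨g, hg, e⟩ := h
  rw [isConj_iff]
  exact ⟨⟨g, hg⟩, Subtype.ext e⟩

theorem orderOf_two {D : ChevalleyDatum} {F : Type*} [Field F] {s : ↥(D.group F)} (h : orderOf s = 2) :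
    (s : GL D.Idx F) * s = 1 ∧ (s : GL D.Idx F) ≠ 1 := by
  have h1 : s ^ 2 = 1 := by rw [← h]; exact pow_orderOf_eq_one s
  refine ⟨?_, ?_⟩
  · have := congrArg (fun x : ↥(D.group F) => (x : GL D.Idx F)) h1
    simpa [sq] using this
  · intro h2
    have : s = 1 := Subtype.ext h2
    rw [this, orderOf_one] at h
    exact absurd h (by decide)

end Cfsg.Agent.ChevU
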