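import Cfsg.Agent.ChevU.OddC

set_option autoImplicit false
set_option linter.unusedSectionVars false
set_option linter.unusedVariables false

/-!
# Involutions in odd characteristic are conjugate into the torus (helper17)
-/

namespace Cfsg.Agent.ChevU

open Cfsg.Lie Cfsg.Agent.Chev Cfsg.Agent.ChevGrp Cfsg.Agent.ChevWeyl Matrix

section comb

variable {D : ChevalleyDatum} (H : Good D) (E : DData D)

theorem rp_P (r s : Fin D.nroots) : E.rp.P r s = pr D r s := by
  unfold RootPerm.P pr
  rw [Finset.sum_range]
  refine Finset.sum_congr rfl fun k _ => ?_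
  rw [E.hc, E.hm]; rfl

/-- coordinates of a reflected coroot -/
theorem c_sg (r s : Fin D.nroots) (k : Fin D.rank) :
    E.rp.c (sg E.rp.wsys r s) k = E.rp.c s k - E.rp.P s r * E.rp.c r k := by
  obtain ⟨a, ha, i, hai⟩ := E.rp.wsys.exists_conj_p r
  have ha' : a ∈ E.rp.W := ha
  rw [sg_eq E.rp.wsys ha hai, Equiv.Perm.mul_apply, Equiv.Perm.mul_apply]
  have h1 : E.rp.c (a (E.rp.w i (a⁻¹ s))) k = ∑ j, E.rp.c (E.rp.w i (a⁻¹ s)) j * E.rp.c (a (E.rp.p j)) k := E.rp.lin ha' _ k
  have h2 : E.rp.c s k = ∑ j, E.rp.c (a⁻¹ s) j * E.rp.c (a (E.rp.p j)) k := by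
    have := E.rp.lin ha' (a⁻¹ s) k
    rwa [app_inv] at this
  have h3 : E.rp.P (a⁻¹ s) (E.rp.p i) = E.rp.P s r := by
    have := E.rp.P_W ha' (a⁻¹ s) (E.rp.p i)
    rw [app_inv] at this
    have h4 : a (E.rp.p i) = r := hai
    rw [← this, h4]
  show E.rp.c (a (E.rp.w i (a⁻¹ s))) k = _
  rw [h1, h2]
  have h5 : ∀ j, E.rp.c (E.rp.w i (a⁻¹ s)) j * E.rp.c (a (E.rp.p j)) k =
      E.rp.c (a⁻¹ s) j * E.rp.c (a (E.rp.p j)) k - (if j = i then E.rp.P s r * E.rp.c r k else 0) := by
    intro j
    rw [E.rp.c_w', h3]
    by_cases hj : j = i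
    · subst hj
      rw [if_pos rfl, if_pos rfl]
      have h4 : a (E.rp.p j) = r := hai
      rw [h4]; ring
    · rw [if_neg hj, if_neg hj]; ring
  rw [Finset.sum_congr rfl fun j _ => h5 j, Finset.sum_sub_distrib, Finset.sum_ite_eq' Finset.univ i, if_pos (Finset.mem_univ _)]

include H in
theorem c_prod (L : List (Fin D.nroots)) (hL : L.Pairwise fun r s : Fin D.nroots => Orth D r s) (s : Fin D.nroots) (k : Fin D.rank) :
    E.rp.c ((L.map (sg E.rp.wsys)).prod s) k = E.rp.c s k - (L.map fun r => E.rp.P s r * E.rp.c r k).sum := by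
  induction L with
  | nil => simp
  | cons a L ih =>
    rw [List.pairwise_cons] at hL
    rw [List.map_cons, List.prod_cons, Equiv.Perm.mul_apply, c_sg, ih hL.2, List.map_cons, List.sum_cons]
    have h1 : (L.map (sg E.rp.wsys)).prod a = a :=
      prod_fix (orthRel H E) L fun t ht => (hL.1 t ht).symm
    have h2 : (L.map (sg E.rp.wsys)).prod ∈ E.rp.W := by
      apply Subgroup.list_prod_mem
      intro x hx
      rw [List.mem_map] at hx
      obtain ⟨t, _, rfl⟩ := hx
      exact sg_mem E.rp.wsys t
    have h3 := E.rp.P_W h2 s a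
    rw [h1] at h3
    rw [h3]; ring

include H in
/-- the span condition -/
theorem neg_of_span {L : List (Fin D.nroots)} (hL : L.Pairwise fun r s : Fin D.nroots => Orth D r s) {s : Fin D.nroots}
    (h : ∀ k : Fin D.rank, 2 * E.rp.c s k = (L.map fun r => E.rp.P s r * E.rp.c r k).sum) :
    (L.map (sg E.rp.wsys)).prod s = E.rp.neg s := by
  apply E.rp.c_inj
  funext k
  rw [c_prod H E L hL, ← h k, E.rp.c_neg]
  ring

/-- extension of the span condition -/
theorem span_append {L M : List (Fin D.nroots)} (hLM : ∀ r ∈ L, ∀ t ∈ M, Orth D r t) {s : Fin D.nroots}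
    (h : ∀ k : Fin D.rank, 2 * E.rp.c s k = (L.map fun r => E.rp.P s r * E.rp.c r k).sum) :
    ∀ k : Fin D.rank, 2 * E.rp.c s k = ((L ++ M).map fun r => E.rp.P s r * E.rp.c r k).sum := by
  have h1 : ∀ t ∈ M, E.rp.P s t = 0 := by
    intro t ht
    have h2 : 2 * E.rp.P s t = (L.map fun r => E.rp.P s r * E.rp.P r t).sum := by
      have h3 : 2 * E.rp.P s t = ∑ k, (L.map fun r => E.rp.P s r * E.rp.c r k).sum * E.rp.m k t := by
        unfold RootPerm.P
        rw [Finset.mul_sum]
        refine Finset.sum_congr rfl fun k _ => ?_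
        have := h k
        unfold RootPerm.P at this
        rw [← mul_assoc, this]
      rw [h3]
      clear h hLM h3
      induction L with
      | nil => simp
      | cons a L ih =>
        simp only [List.map_cons, List.sum_cons, add_mul, Finset.sum_add_distrib]
        rw [ih]
        congr 1
        rw [show E.rp.P a t = ∑ k, E.rp.c a k * E.rp.m k t from rfl, Finset.mul_sum]
        refine Finset.sum_congr rfl fun k _ => ?_
        ring
    have h4 : (L.map fun r => E.rp.P s r * E.rp.P r t) = L.map fun _ => (0 : ℤ) := by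
      apply List.map_congr_left
      intro r hr
      rw [rp_P E r t, (hLM r hr t ht).1, mul_zero]
    rw [h4] at h2
    simp at h2
    exact h2
  intro k
  rw [List.map_append, List.sum_append, h k]
  have h5 : (M.map fun r => E.rp.P s r * E.rp.c r k) = M.map fun _ => (0 : ℤ) := by
    apply List.map_congr_left
    intro r hr
    rw [h1 r hr, zero_mul]
  rw [h5]; simp

/-! ### checks -/

/-- the span condition -/
def spanB (D : ChevalleyDatum) (L : List ℕ) (s : ℕ) : Bool :=
  (List.range D.rank).all fun k => decide (2 * cc D s k = (L.map fun r => pr D s r * cc D r k).sum)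

/-- pairwise strong orthogonality -/
def pwSo (D : ChevalleyDatum) : List ℕ → Bool
  | [] => true
  | r :: L => (L.all fun s => so D r s && so D s r) && pwSo D L

theorem pwSo_iff (L : List ℕ) : pwSo D L = true ↔ L.Pairwise (fun r s : ℕ => so D r s = true ∧ so D s r = true) := by
  induction L with
  | nil => simp [pwSo]
  | cons r L ih => rw [pwSo, Bool.and_eq_true, ih, List.pairwise_cons, List.all_eq_true]; simp

/-- first alternative: strongly orthogonal with odd pairing with `s` -/
def chkO1 (D : ChevalleyDatum) (L : List ℕ) (s : ℕ) : Bool :=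
  pwSo D L && decide (s < D.nroots) && decide ((L.map fun r => pr D r s).sum % 2 = 1)

/-- second alternative: `r`, `s` in the span with odd pairing -/
def chkO2 (D : ChevalleyDatum) (L : List ℕ) (r s : ℕ) : Bool :=
  decide (r < D.nroots) && decide (s < D.nroots) && spanB D L r && spanB D L s && decide (pr D r s % 2 = 1)

include H in
/-- **canonical form of orthogonal lists** -/
theorem canonO {nodes : List (List ℕ)} {leafs : List (List ℕ × List ℕ × List ℕ)} (h0 : [] ∈ nodes)
    (hn : nodes.all (chkNode D nodes leafs) = true) (L : List ℕ) (hL : ∀ r ∈ L, r < D.nroots) (hO : L.Pairwise (Orth D)) :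
    ∃ W : List ℕ, (∀ i ∈ W, i < D.rank) ∧ (L.map (wact D W) ∈ nodes ∨ ∃ l ∈ leafs, ∃ M, L.map (wact D W) = l.1 ++ M) := by
  rw [List.all_eq_true] at hn
  have inner : ∀ m : ℕ, ∀ (R P : List ℕ), R.length = m → P ∈ nodes → (∀ r ∈ P ++ R, r < D.nroots) → (P ++ R).Pairwise (Orth D) →
      ∃ W : List ℕ, (∀ i ∈ W, i < D.rank) ∧ ((P ++ R).map (wact D W) ∈ nodes ∨ ∃ l ∈ leafs, ∃ M, (P ++ R).map (wact D W) = l.1 ++ M) := by
    intro m
    induction m with
    | zero =>
      intro R P hR hP _ _
      refine ⟨[], by simp, Or.inl ?_⟩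
      rw [List.length_eq_zero_iff.1 hR, List.append_nil]
      have : P.map (wact D []) = P := by
        conv_rhs => rw [← List.map_id P]
        rfl
      rwa [this]
    | succ m ihm =>
      intro R P hR hP hlt hpw
      obtain ⟨r, R, rfl⟩ := List.exists_cons_of_length_eq_add_one hR
      have hrlt : r < D.nroots := hlt r (by simp)
      have hP1 : ∀ f ∈ P, f < D.nroots := fun f hf => hlt f (by simp [hf])
      have hR1 : ∀ f ∈ R, f < D.nroots := fun f hf => hlt f (by simp [hf])
      rw [List.pairwise_append, List.pairwise_cons] at hpw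
      obtain ⟨hPP, ⟨hrR, hRR⟩, hPR⟩ := hpw
      have hnode := hn P hP
      unfold chkNode at hnode
      rw [Bool.and_eq_true, List.all_eq_true, List.all_eq_true] at hnode
      have h1 := hnode.2 r (List.mem_range.2 hrlt)
      rw [Bool.or_eq_true, Bool.or_eq_true] at h1
      have h2 : allOrth D P r = true := by
        unfold allOrth
        rw [List.all_eq_true]
        intro f hf
        exact decide_eq_true (hPR f hf r List.mem_cons_self)
      obtain ⟨W, hW, hWr⟩ := raise_word (D := D) (Jof D P) D.nroots r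
      have hJ : ∀ i ∈ Jof D P, i < D.rank ∧ ∀ f ∈ P, D.cartan i f = 0 := by
        intro i hi
        unfold Jof at hi
        rw [List.mem_filter, List.mem_range, List.all_eq_true] at hi
        exact ⟨hi.1, fun f hf => of_decide_eq_true (hi.2 f hf)⟩
      have hW' : ∀ i ∈ W, i < D.rank := fun i hi => (hJ i (hW i hi)).1
      have hfix : P.map (wact D W) = P := by
        conv_rhs => rw [← List.map_id P]
        apply List.map_congr_left
        intro f hf
        exact wact_fix H (hP1 f hf) fun i hi => ⟨hW' i hi, (hJ i (hW i hi)).2 f hf⟩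
      have e1 : (P ++ r :: R).map (wact D W) = (P ++ [raise D (Jof D P) D.nroots r]) ++ R.map (wact D W) := by
        rw [List.map_append, hfix, List.map_cons, ← hWr, List.append_assoc]; rfl
      have hR2 : ∀ f ∈ R.map (wact D W), f < D.nroots := by
        intro f hf
        rw [List.mem_map] at hf
        obtain ⟨g, hg, rfl⟩ := hf
        exact wact_lt H hW' (hR1 g hg)
      have hc1 : raise D (Jof D P) D.nroots r < D.nroots := by rw [hWr]; exact wact_lt H hW' hrlt
      have hlt2 : ∀ f ∈ (P ++ [raise D (Jof D P) D.nroots r]) ++ R.map (wact D W), f < D.nroots := by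
        intro f hf
        rw [List.mem_append, List.mem_append, List.mem_singleton] at hf
        rcases hf with (hf | rfl) | hf
        · exact hP1 f hf
        · exact hc1
        · exact hR2 f hf
      have hpw2 : ((P ++ [raise D (Jof D P) D.nroots r]) ++ R.map (wact D W)).Pairwise (Orth D) := by
        rw [← e1, List.pairwise_map]
        have h3 : (P ++ r :: R).Pairwise (fun a b => a < D.nroots ∧ b < D.nroots ∧ Orth D a b) := by
          have h4 : (P ++ r :: R).Pairwise (Orth D) := by
            rw [List.pairwise_append, List.pairwise_cons]; exact ⟨hPP, ⟨hrR, hRR⟩, hPR⟩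
          exact h4.imp_of_mem fun ha hb hab => ⟨hlt _ ha, hlt _ hb, hab⟩
        exact h3.imp fun ⟨ha, hb, hab⟩ => wact_orth H hW' ha hb hab
      rcases h1 with h1 | h1 | h1
      · rw [h2] at h1; simp at h1
      · rw [List.contains_iff_mem] at h1
        obtain ⟨W2, hW2, h5⟩ := ihm (R.map (wact D W)) _ (by rw [List.length_map]; simpa using hR) h1 hlt2 hpw2
        refine ⟨W2 ++ W, ?_, ?_⟩
        · intro i hi
          rcases List.mem_append.1 hi with hi | hi
          · exact hW2 i hi
          · exact hW' i hi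
        · have e2 : (P ++ r :: R).map (wact D (W2 ++ W)) = ((P ++ r :: R).map (wact D W)).map (wact D W2) := by
            rw [List.map_map]
            apply List.map_congr_left
            intro x _
            rw [wact_append]; rfl
          rw [e2, e1]
          exact h5
      · rw [List.any_eq_true] at h1
        obtain ⟨l, hmem, h1⟩ := h1
        rw [beq_iff_eq] at h1
        exact ⟨W, hW', Or.inr ⟨l, hmem, _, by rw [e1, h1]⟩⟩
  have := inner L.length L [] rfl h0 (by simpa using hL) (by simpa using hO)
  simpa using this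

end comb

end Cfsg.Agent.ChevU
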