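import Cfsg.Agent.ChevU.OddE
import Cfsg.Agent.ChevU.IvFG
import Cfsg.Agent.ChevU.IvE8

set_option autoImplicit false
set_option maxRecDepth 100000

/-! Classes of involutions in odd characteristic: data (helper17) -/

namespace Cfsg.Agent.ChevU.OddDat

open Cfsg.Lie Cfsg.Agent.ChevU

theorem g2a : chkO1 chevG2 [9] 11 = true := by decide +kernel
theorem g2b : chkO1 chevG2 [11] 10 = true := by decide +kernel
theorem g2c : chkO2 chevG2 [9, 6] 11 10 = true := by decide +kernel
theorem g2d : chkO2 chevG2 [11, 7] 11 10 = true := by decide +kernel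

theorem f4a : chkO1 chevF4 [44] 40 = true := by decide +kernel
theorem f4b : chkO1 chevF4 [47] 46 = true := by decide +kernel
theorem f4c : chkO2 chevF4 [44, 29] 47 44 = true := by decide +kernel
theorem f4d : chkO1 chevF4 [44, 32] 47 = true := by decide +kernel
theorem f4e : chkO1 chevF4 [47, 37] 46 = true := by decide +kernel
theorem f4f : chkO1 chevF4 [47, 41] 40 = true := by decide +kernel
theorem f4l : (IvF4.leafs.all fun l => (chkO2 chevF4 l.1 47 46 || chkO2 chevF4 l.1 47 44) || chkO2 chevF4 l.1 45 44) = true := by decide +kernel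

theorem e8a : chkO1 chevE8 [239] 238 = true := by decide +kernel
theorem e8b : chkO1 chevE8 [239, 226] 225 = true := by decide +kernel
theorem e8c : chkO1 chevE8 [239, 226, 159] 238 = true := by decide +kernel
theorem e8d : chkO1 chevE8 [239, 226, 159, 152] 238 = true := by decide +kernel
theorem e8l0 : chkO2 chevE8 [239, 226, 159, 121] 239 238 = true := by decide +kernel
theorem e8l1 : chkO2 chevE8 [239, 226, 159, 152, 121] 239 238 = true := by decide +kernel
theorem e8l2 : chkO2 chevE8 [239, 226, 159, 152, 126] 239 236 = true := by decide +kernel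
theorem e8l3 : chkO2 chevE8 [239, 226, 159, 152, 135] 226 219 = true := by decide +kernel
theorem e8l4 : chkO2 chevE8 [239, 226, 159, 152, 141] 239 225 = true := by decide +kernel

end Cfsg.Agent.ChevU.OddDat
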