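import Cfsg.Agent.ChevU.OddF
import Cfsg.Agent.ChevU.OddDat
import Cfsg.Agent.ChevU.Smith

set_option autoImplicit false
set_option maxRecDepth 100000
set_option maxHeartbeats 4000000

/-! Classes of involutions of the torus in odd characteristic: data (helper17) -/

namespace Cfsg.Agent.ChevU.OddDat

open Cfsg.Lie Cfsg.Agent.ChevU

def foG2_0 : List (ℕ × ℕ × ℕ) := [(3, 1, 1), (2, 0, 3)]

theorem foG2_0_ok : chkT chevG2 [1] foG2_0 = true := by decide +kernel

def foG2 : List (ℕ × List (ℕ × ℕ × ℕ)) := [(1, foG2_0)]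

theorem foG2_ok : ∀ x ∈ foG2, chkT chevG2 [x.1] x.2 = true := by
  intro x hx
  simp only [foG2, List.mem_cons, List.not_mem_nil, or_false] at hx
  rcases hx with rfl
  exacts [foG2_0_ok]

theorem foG2_all : ((List.range (2 ^ chevG2.rank)).all fun b => b == 0 || foG2.any fun x => (orbL x.1 x.2).contains b) = true := by
  decide +kernel

def foF4_0 : List (ℕ × ℕ × ℕ) := [(3, 1, 1), (2, 0, 3)]

theorem foF4_0_ok : chkT chevF4 [1] foF4_0 = true := by decide +kernel

def foF4_1 : List (ℕ × ℕ × ℕ) := [(6, 1, 4), (12, 3, 4), (7, 0, 6), (14, 3, 6), (8, 2, 12), (15, 3, 7), (10, 2, 14), (11, 2, 15), (9, 1, 11), (13, 2, 9), (5, 3, 13)]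

theorem foF4_1_ok : chkT chevF4 [4] foF4_1 = true := by decide +kernel

def foF4 : List (ℕ × List (ℕ × ℕ × ℕ)) := [(1, foF4_0), (4, foF4_1)]

theorem foF4_ok : ∀ x ∈ foF4, chkT chevF4 [x.1] x.2 = true := by
  intro x hx
  simp only [foF4, List.mem_cons, List.not_mem_nil, or_false] at hx
  rcases hx with rfl | rfl
  exacts [foF4_0_ok, foF4_1_ok]

theorem foF4_all : ((List.range (2 ^ chevF4.rank)).all fun b => b == 0 || foF4.any fun x => (orbL x.1 x.2).contains b) = true := by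
  decide +kernel

def foE8_0 : List (ℕ × ℕ × ℕ) := [(5, 2, 1), (4, 0, 5), (13, 3, 5), (12, 3, 4), (15, 1, 13), (29, 4, 13), (14, 1, 12), (8, 2, 12), (28, 4, 12), (31, 4, 15), (61, 5, 29), (10, 2, 14), (30, 4, 14), (24, 4, 8), (60, 5, 28), (23, 3, 31), (63, 5, 31), (125, 6, 61), (2, 3, 10), (26, 4, 10), (22, 3, 30), (62, 5, 30), (16, 3, 24), (56, 5, 24), (124, 6, 60), (19, 2, 23), (55, 5, 23), (127, 6, 63), (253, 7, 125), (58, 5, 26), (54, 5, 22), (126, 6, 62), (48, 5, 16), (120, 6, 56), (252, 7, 124), (51, 5, 19), (39, 4, 55), (119, 6, 55), (255, 7, 127), (122, 6, 58), (38, 4, 54), (118, 6, 54), (254, 7, 126), (32, 4, 48), (112, 6, 48), (248, 7, 120), (35, 4, 51), (115, 6, 51), (103, 6, 39), (247, 7, 119), (250, 7, 122), (102, 6, 38), (246, 7, 118), (96, 6, 32), (240, 7, 112), (43, 3, 35), (99, 6, 35), (243, 7, 115), (71, 5, 103), (231, 7, 103), (70, 5, 102), (230, 7, 102), (64, 5, 96), (224, 7, 96), (41, 1, 43), (107, 6, 43), (67, 5,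 99), (227, 7, 99), (199, 7, 71), (198, 7, 70), (192, 7, 64), (105, 6, 41), (75, 5, 107), (235, 7, 107), (195, 7, 67), (135, 6, 199), (134, 6, 198), (128, 6, 192), (73, 5, 105), (233, 7, 105), (91, 4, 75), (203, 7, 75), (131, 6, 195), (89, 4, 73), (201, 7, 73), (219, 7, 91), (139, 6, 203), (81, 3, 89), (217, 7, 89), (137, 6, 201), (155, 6, 219), (85, 2, 81), (209, 7, 81), (153, 6, 217), (187, 5, 155), (84, 0, 85), (213, 7, 85), (145, 6, 209), (185, 5, 153), (212, 7, 84), (149, 6, 213), (177, 5, 145), (148, 6, 212), (181, 5, 149), (161, 4, 177), (180, 5, 148), (165, 4, 181), (164, 4, 180), (173, 3, 165), (172, 3, 164), (175, 1, 173), (174, 1, 172), (168, 2, 172), (170, 2, 174), (162, 3, 170), (178, 4, 162), (146, 5, 178), (210, 6, 146), (82, 7, 210)]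

theorem foE8_0_ok : chkT chevE8 [1] foE8_0 = true := by decide +kernel

def foE8_1 : List (ℕ × ℕ × ℕ) := [(7, 2, 3), (11, 3, 3), (6, 0, 7), (9, 1, 11), (27, 4, 11), (25, 4, 9), (59, 5, 27), (17, 3, 25), (57, 5, 25), (123, 6, 59), (21, 2, 17), (49, 5, 17), (121, 6, 57), (251, 7, 123), (20, 0, 21), (53, 5, 21), (33, 4, 49), (113, 6, 49), (249, 7, 121), (52, 5, 20), (37, 4, 53), (117, 6, 53), (97, 6, 33), (241, 7, 113), (36, 4, 52), (116, 6, 52), (45, 3, 37), (101, 6, 37), (245, 7, 117), (65, 5, 97), (225, 7, 97), (44, 3, 36), (100, 6, 36), (244, 7, 116), (47, 1, 45), (109, 6, 45), (69, 5, 101), (229, 7, 101), (193, 7, 65), (46, 1, 44), (40, 2, 44), (108, 6, 44), (68, 5, 100), (228, 7, 100), (111, 6, 47), (77, 5, 109), (237, 7, 109), (197, 7, 69), (129, 6, 193), (42, 2, 46), (110, 6, 46), (104, 6, 40), (76, 5, 108), (236, 7, 108), (196, 7, 68), (79, 5, 111), (239, 7, 111), (93, 4, 77), (205, 7, 77), (133, 6, 197), (34, 3, 42), (106, 6,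 42), (78, 5, 110), (238, 7, 110), (72, 5, 104), (232, 7, 104), (92, 4, 76), (204, 7, 76), (132, 6, 196), (95, 4, 79), (207, 7, 79), (221, 7, 93), (141, 6, 205), (50, 4, 34), (98, 6, 34), (74, 5, 106), (234, 7, 106), (94, 4, 78), (206, 7, 78), (88, 4, 72), (200, 7, 72), (220, 7, 92), (140, 6, 204), (87, 3, 95), (223, 7, 95), (143, 6, 207), (157, 6, 221), (18, 5, 50), (114, 6, 50), (66, 5, 98), (226, 7, 98), (90, 4, 74), (202, 7, 74), (86, 3, 94), (222, 7, 94), (142, 6, 206), (80, 3, 88), (216, 7, 88), (136, 6, 200), (156, 6, 220), (83, 2, 87), (215, 7, 87), (159, 6, 223), (189, 5, 157), (242, 7, 114), (194, 7, 66), (218, 7, 90), (138, 6, 202), (214, 7, 86), (158, 6, 222), (208, 7, 80), (152, 6, 216), (188, 5, 156), (211, 7, 83), (151, 6, 215), (191, 5, 159), (130, 6, 194), (154, 6, 218), (150, 6, 214), (190, 5, 158), (144, 6, 208), (184, 5, 152), (147, 6, 211), (183, 5, 151), (186, 5, 154), (182, 5, 150), (176, 5, 144), (179, 5, 147),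 (167, 4, 183), (166, 4, 182), (160, 4, 176), (163, 4, 179), (171, 3, 163), (169, 1, 171)]

theorem foE8_1_ok : chkT chevE8 [3] foE8_1 = true := by decide +kernel

def foE8 : List (ℕ × List (ℕ × ℕ × ℕ)) := [(1, foE8_0), (3, foE8_1)]

theorem foE8_ok : ∀ x ∈ foE8, chkT chevE8 [x.1] x.2 = true := by
  intro x hx
  simp only [foE8, List.mem_cons, List.not_mem_nil, or_false] at hx
  rcases hx with rfl | rfl
  exacts [foE8_0_ok, foE8_1_ok]

theorem foE8_all : ((List.range (2 ^ chevE8.rank)).all fun b => b == 0 || foE8.any fun x => (orbL x.1 x.2).contains b) = true := by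
  decide +kernel

end Cfsg.Agent.ChevU.OddDat
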