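import Cfsg.Agent.ChevU.OddD

set_option autoImplicit false
set_option linter.unusedSectionVars false
set_option linter.unusedVariables false

/-!
# Involutions in odd characteristic are conjugate into the torus (helper17)
-/

namespace Cfsg.Agent.ChevU

open Cfsg.Lie Cfsg.Agent.Chev Cfsg.Agent.ChevGrp Cfsg.Agent.ChevWeyl Matrix

section oddE

variable {D : ChevalleyDatum} {F : Type*} [Field F] (R : RootFacts D) (H : Good D) (E : DData D)

/-- words in `Fin` and their action -/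
theorem wact_wd (W : List (Fin D.rank)) (r : Fin D.nroots) :
    wact D (W.map fun i : Fin D.rank => (i : ℕ)) r = (E.rp.wsys.wd W r : Fin D.nroots) := by
  induction W with
  | nil => rfl
  | cons i W ih =>
    rw [List.map_cons, wact_cons, ih, Inst.reflect_eq E, WSys.wd_cons, Equiv.Perm.mul_apply]

theorem exists_fin_word {W : List ℕ} (hW : ∀ i ∈ W, i < D.rank) : ∃ W' : List (Fin D.rank), W'.map (fun i : Fin D.rank => (i : ℕ)) = W := by
  induction W with
  | nil => exact ⟨[], rfl⟩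
  | cons i W ih =>
    obtain ⟨W', h⟩ := ih fun j hj => hW j (List.mem_cons_of_mem _ hj)
    exact ⟨⟨i, hW i List.mem_cons_self⟩ :: W', by rw [List.map_cons, h]⟩

theorem sg_list_conj {a : Equiv.Perm (Fin D.nroots)} (ha : a ∈ E.rp.wsys.W) (L : List (Fin D.nroots)) :
    a * (L.map (sg E.rp.wsys)).prod * a⁻¹ = ((L.map a).map (sg E.rp.wsys)).prod := by
  induction L with
  | nil => simp
  | cons r L ih =>
    rw [List.map_cons, List.map_cons, List.map_cons, List.prod_cons, List.prod_cons, ← ih, ← sg_conj E.rp.wsys ha]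
    group

/-- number of roots made negative of themselves -/
noncomputable def nneg (E : DData D) (w : Equiv.Perm (Fin D.nroots)) : ℕ := by
  classical exact (Finset.univ.filter fun r => w r = E.rp.neg r).card

include H in
theorem nneg_lt {w : Equiv.Perm (Fin D.nroots)} (hw : w ∈ E.rp.wsys.W) (hww : w * w = 1) {r : Fin D.nroots} (hr : w r = E.rp.neg r) :
    (sg E.rp.wsys r * w) * (sg E.rp.wsys r * w) = 1 ∧ nneg E (sg E.rp.wsys r * w) < nneg E w := by
  classical
  have hc : w * sg E.rp.wsys r = sg E.rp.wsys r * w := by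
    have h1 := sg_conj E.rp.wsys hw r
    rw [hr] at h1
    have h2 : sg E.rp.wsys (E.rp.neg r) = sg E.rp.wsys r := sg_neg E.rp.wsys r
    rw [h2, mul_inv_eq_iff_eq_mul] at h1
    exact h1
  have hs : sg E.rp.wsys r r = E.rp.neg r := sg_self E.rp.wsys r
  have hnn : ∀ s, E.rp.neg (E.rp.neg s) = s := E.rp.neg_neg
  have hsW := sg_mem E.rp.wsys r
  refine ⟨?_, ?_⟩
  · calc (sg E.rp.wsys r * w) * (sg E.rp.wsys r * w) = sg E.rp.wsys r * (w * sg E.rp.wsys r) * w := by group
      _ = (sg E.rp.wsys r * sg E.rp.wsys r) * (w * w) := by rw [hc]; group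
      _ = 1 := by rw [sg_sq, hww, mul_one]
  · have hfix : (sg E.rp.wsys r * w) r = r := by
      rw [Equiv.Perm.mul_apply, hr]
      have : sg E.rp.wsys r (E.rp.neg r) = E.rp.neg (sg E.rp.wsys r r) := E.rp.wsys.W_neg hsW r
      rw [this, hs, hnn]
    unfold nneg
    apply Finset.card_lt_card
    rw [Finset.ssubset_iff_of_subset]
    · refine ⟨r, by simpa using hr, ?_⟩
      rw [Finset.mem_filter, hfix]
      rintro ⟨-, h⟩
      have h1 := E.rp.c_neg r
      rw [← h] at h1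
      obtain ⟨j, hj⟩ := E.rp.nz r
      have := h1 j
      omega
    · intro s hs'
      rw [Finset.mem_filter] at hs' ⊢
      refine ⟨Finset.mem_univ _, ?_⟩
      have h1 := hs'.2
      have h2 := (orthRel H E).of_inv r s (sg E.rp.wsys r * w) (mul_mem hsW hw) hfix h1
      have h3 := (orthRel H E).sg_fix h2
      have h4 : w s = sg E.rp.wsys r ((sg E.rp.wsys r * w) s) := by
        rw [Equiv.Perm.mul_apply, ← Equiv.Perm.mul_apply (sg E.rp.wsys r) (sg E.rp.wsys r), sg_sq]; rfl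
      rw [h4, h1]
      have : sg E.rp.wsys r (E.rp.neg s) = E.rp.neg (sg E.rp.wsys r s) := E.rp.wsys.W_neg hsW s
      rw [this, h3]

/-- the checks -/
structure OddChk (D : ChevalleyDatum) (nodes : List (List ℕ)) (leafs : List (List ℕ × List ℕ × List ℕ)) : Prop where
  nil : [] ∈ nodes
  node : nodes.all (chkNode D nodes leafs) = true
  o1 : ∀ L ∈ nodes, L = [] ∨ (∃ s, chkO1 D L s = true) ∨ ∃ r s, chkO2 D L r s = true
  o2 : ∀ l ∈ leafs, ∃ r s, chkO2 D l.1 r s = true

variable {E}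

theorem spanB_fin {L : List (Fin D.nroots)} {s : Fin D.nroots} (h : spanB D (L.map fun r : Fin D.nroots => (r : ℕ)) s = true) :
    ∀ k : Fin D.rank, 2 * E.rp.c s k = (L.map fun r => E.rp.P s r * E.rp.c r k).sum := by
  intro k
  unfold spanB at h
  rw [List.all_eq_true] at h
  have h1 := of_decide_eq_true (h k (List.mem_range.2 k.2))
  rw [List.map_map] at h1
  rw [E.hc]
  have h2 : (L.map fun r => E.rp.P s r * E.rp.c r k) = L.map ((fun r : ℕ => pr D s r * cc D r k) ∘ fun r : Fin D.nroots => (r : ℕ)) := by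
    apply List.map_congr_left
    intro r _
    rw [rp_P E, E.hc]; rfl
  rw [h2]
  exact h1

include R H in
/-- **one step** -/
theorem one_step [Fintype F] [DecidableEq F] {nodes : List (List ℕ)} {leafs : List (List ℕ × List ℕ × List ℕ)} (C : OddChk D nodes leafs)
    (h2 : ringChar F ≠ 2) {m : GL D.Idx F} {w : Equiv.Perm (Fin D.nroots)} (hm : m ∈ (chev E H F).N) (hw : (chev E H F).Act m w)
    (hmm : m * m = 1) (hww : w * w = 1) (hne : w ≠ 1) :
    ∃ g ∈ D.group F, ∃ w', g⁻¹ * m * g ∈ (chev E H F).N ∧ (chev E H F).Act (g⁻¹ * m * g) w' ∧ w' * w' = 1 ∧ nneg E w' < nneg E w := by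
  obtain ⟨L, hL, hLw⟩ := exists_orth (orthRel H E) hw.1 hww
  have hL' : (L.map fun r : Fin D.nroots => (r : ℕ)).Pairwise (Orth D) := by
    rw [List.pairwise_map]; exact hL
  have hlt : ∀ r ∈ (L.map fun r : Fin D.nroots => (r : ℕ)), r < D.nroots := by
    intro r hr
    rw [List.mem_map] at hr
    obtain ⟨s, _, rfl⟩ := hr
    exact s.2
  obtain ⟨W, hW, hcase⟩ := canonO H C.nil C.node _ hlt hL'
  obtain ⟨W', rfl⟩ := exists_fin_word hW
  set a := E.rp.wsys.wd W' with ha
  have haW : a ∈ E.rp.wsys.W := E.rp.wsys.wd_mem W'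
  have e1 : (L.map fun r : Fin D.nroots => (r : ℕ)).map (wact D (W'.map fun i : Fin D.rank => (i : ℕ))) = (L.map a).map fun r : Fin D.nroots => (r : ℕ) := by
    rw [List.map_map, List.map_map]
    apply List.map_congr_left
    intro r _
    exact wact_wd E W' r
  rw [e1] at hcase
  set L1 := L.map a with hL1
  have hO1 : L1.Pairwise fun r s : Fin D.nroots => Orth D r s := by
    rw [hL1, List.pairwise_map]
    exact hL.imp fun h => (orthRel H E).W haW h
  -- the conjugate
  have hnd : (chev E H F).nd W' ∈ (chev E H F).N := RGrp.nd_mem_N W'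
  have hndG : (chev E H F).nd W' ∈ D.group F := by
    rw [← chev_Grp E H]; exact RGrp.N_le_Grp hnd
  set b := (chev E H F).nd W' with hb
  have hm1 : b * m * b⁻¹ ∈ (chev E H F).N := mul_mem (mul_mem hnd hm) (inv_mem hnd)
  have hw1 : (chev E H F).Act (b * m * b⁻¹) ((L1.map (sg E.rp.wsys)).prod) := by
    have := ((RGrp.act_nd (R := chev E H F) W').mul hw).mul (RGrp.act_nd (R := chev E H F) W').inv
    rw [hLw, sg_list_conj E haW] at this
    exact this
  have hmm1 : (b * m * b⁻¹) * (b * m * b⁻¹) = 1 := by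
    have : (b * m * b⁻¹) * (b * m * b⁻¹) = b * (m * m) * b⁻¹ := by group
    rw [this, hmm]; group
  have hww1 : (L1.map (sg E.rp.wsys)).prod * (L1.map (sg E.rp.wsys)).prod = 1 := by
    rw [← sg_list_conj E haW, ← hLw]
    have : a * w * a⁻¹ * (a * w * a⁻¹) = a * (w * w) * a⁻¹ := by group
    rw [this, hww]; group
  have hcard : nneg E ((L1.map (sg E.rp.wsys)).prod) = nneg E w := by
    classical
    rw [← sg_list_conj E haW, ← hLw]
    unfold nneg
    symm
    refine Finset.card_bij (fun r _ => a r) ?_ ?_ ?_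
    · intro r hr
      rw [Finset.mem_filter] at hr ⊢
      refine ⟨Finset.mem_univ _, ?_⟩
      rw [Equiv.Perm.mul_apply, Equiv.Perm.mul_apply, inv_app, hr.2]
      exact E.rp.wsys.W_neg haW r
    · intro r _ s _ h; exact a.injective h
    · intro s hs
      rw [Finset.mem_filter] at hs
      refine ⟨a⁻¹ s, ?_, app_inv a s⟩
      rw [Finset.mem_filter]
      refine ⟨Finset.mem_univ _, ?_⟩
      have h3 := hs.2
      rw [Equiv.Perm.mul_apply, Equiv.Perm.mul_apply] at h3
      apply a.injective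
      rw [h3]
      have : a (E.rp.neg (a⁻¹ s)) = E.rp.neg (a (a⁻¹ s)) := E.rp.wsys.W_neg haW _
      rw [this, app_inv]
  obtain ⟨w1, γ, hγ⟩ := exists_NA (E := E) (H := H) R hm1
  have : w1 = (L1.map (sg E.rp.wsys)).prod := RGrp.Act.unique hγ.act hw1
  subst this
  -- it is enough to find a step for the conjugate
  have key : ∀ r : Fin D.nroots, (L1.map (sg E.rp.wsys)).prod r = E.rp.neg r → (∃ g ∈ D.group F, g⁻¹ * (b * m * b⁻¹) * g ∈ (chev E H F).N ∧
      (chev E H F).Act (g⁻¹ * (b * m * b⁻¹) * g) (sg E.rp.wsys r * (L1.map (sg E.rp.wsys)).prod)) →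
      ∃ g ∈ D.group F, ∃ w', g⁻¹ * m * g ∈ (chev E H F).N ∧ (chev E H F).Act (g⁻¹ * m * g) w' ∧ w' * w' = 1 ∧ nneg E w' < nneg E w := by
    rintro r hr ⟨g, hg, h3, h4⟩
    obtain ⟨h5, h6⟩ := nneg_lt H E hw1.1 hww1 hr
    have e2 : g⁻¹ * (b * m * b⁻¹) * g = (b⁻¹ * g)⁻¹ * m * (b⁻¹ * g) := by group
    rw [e2] at h3 h4
    exact ⟨b⁻¹ * g, mul_mem (inv_mem hndG) hg, _, h3, h4, h5, by rw [← hcard]; exact h6⟩
  have key2 : ∀ r s : ℕ, r < D.nroots → s < D.nroots → pr D r s % 2 = 1 →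
      (∀ k : Fin D.rank, ∀ h : r < D.nroots, 2 * E.rp.c ⟨r, h⟩ k = (L1.map fun t => E.rp.P ⟨r, h⟩ t * E.rp.c t k).sum) →
      (∀ k : Fin D.rank, ∀ h : s < D.nroots, 2 * E.rp.c ⟨s, h⟩ k = (L1.map fun t => E.rp.P ⟨s, h⟩ t * E.rp.c t k).sum) →
      ∃ g ∈ D.group F, ∃ w', g⁻¹ * m * g ∈ (chev E H F).N ∧ (chev E H F).Act (g⁻¹ * m * g) w' ∧ w' * w' = 1 ∧ nneg E w' < nneg E w := by
    intro r s hr hs hodd hsr hss
    have h3 := neg_of_span H E hO1 (fun k => hsr k hr)
    have h4 := neg_of_span H E hO1 (fun k => hss k hs)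
    have h5 := hγ.step2 R h2 hm1 h3 h4 (Int.odd_iff.2 hodd)
    exact key _ h4 h5
  have key3 : ∀ (A B : List (Fin D.nroots)) (r s : ℕ), L1 = A ++ B → chkO2 D (A.map fun r : Fin D.nroots => (r : ℕ)) r s = true →
      ∃ g ∈ D.group F, ∃ w', g⁻¹ * m * g ∈ (chev E H F).N ∧ (chev E H F).Act (g⁻¹ * m * g) w' ∧ w' * w' = 1 ∧ nneg E w' < nneg E w := by
    intro A B r s hAB h3
    unfold chkO2 at h3
    simp only [Bool.and_eq_true, decide_eq_true_eq] at h3
    obtain ⟨⟨⟨⟨h4, h5⟩, h6⟩, h7⟩, h8⟩ := h3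
    have hcross : ∀ r ∈ A, ∀ t ∈ B, Orth D r t := by
      have := hO1
      rw [hAB, List.pairwise_append] at this
      exact this.2.2
    refine key2 r s h4 h5 h8 ?_ ?_
    · intro k h
      have h10 := spanB_fin (E := E) (s := ⟨r, h⟩) h6
      rw [hAB]
      exact span_append E hcross h10 k
    · intro k h
      have h10 := spanB_fin (E := E) (s := ⟨s, h⟩) h7
      rw [hAB]
      exact span_append E hcross h10 k
  rcases hcase with hs | ⟨l, hl, M, hM⟩
  · rcases C.o1 _ hs with h4 | ⟨s, h4⟩ | ⟨r, s, h4⟩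
    · exfalso
      simp only [List.map_eq_nil_iff, hL1] at h4
      apply hne
      rw [hLw, h4]; rfl
    · unfold chkO1 at h4
      simp only [Bool.and_eq_true, decide_eq_true_eq] at h4
      obtain ⟨⟨h5, h6⟩, h7⟩ := h4
      rw [pwSo_iff, List.pairwise_map] at h5
      rw [List.map_map] at h7
      have h8 : ∀ r ∈ L1, (L1.map (sg E.rp.wsys)).prod r = E.rp.neg r := fun r hr => prod_neg (orthRel H E) hO1 hr
      obtain ⟨r, h9, h10⟩ := hγ.step1 R h2 hm1 hmm1 h5 h8 (s := ⟨s, h6⟩) (Int.odd_iff.2 h7)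
      exact key r h9 h10
    · exact key3 L1 [] r s (by simp) h4
  · obtain ⟨r, s, h3⟩ := C.o2 l hl
    -- split `L1`
    obtain ⟨A, B, hAB, hA, hB⟩ : ∃ A B, L1 = A ++ B ∧ (A.map fun r : Fin D.nroots => (r : ℕ)) = l.1 ∧ (B.map fun r : Fin D.nroots => (r : ℕ)) = M :=
      List.map_eq_append_iff.1 hM
    exact key3 A B r s hAB (by rw [hA]; exact h3)

theorem Eqv.refl' (a : GL D.Idx F) : Eqv D F a a := ⟨1, one_mem _, by group⟩
theorem Eqv.symm' {a b : GL D.Idx F} (h : Eqv D F a b) : Eqv D F b a := by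
  obtain ⟨g, hg, rfl⟩ := h
  exact ⟨g⁻¹, inv_mem hg, by group⟩
theorem Eqv.trans' {a b c : GL D.Idx F} (h : Eqv D F a b) (h' : Eqv D F b c) : Eqv D F a c := by
  obtain ⟨g, hg, rfl⟩ := h
  obtain ⟨g', hg', rfl⟩ := h'
  exact ⟨g' * g, mul_mem hg' hg, by group⟩

include R H in
/-- **every involution is conjugate into the torus** -/
theorem exists_torus [Fintype F] [DecidableEq F] {nodes : List (List ℕ)} {leafs : List (List ℕ × List ℕ × List ℕ)} (C : OddChk D nodes leafs)
    (E : DData D) (h2 : ringChar F ≠ 2) {t : GL D.Idx F} (ht : t ∈ D.group F) (htt : t * t = 1) :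
    ∃ h ∈ D.diagonalSubgroup F, h * h = 1 ∧ Eqv D F t h := by
  have main : ∀ k : ℕ, ∀ (m : GL D.Idx F) (w : Equiv.Perm (Fin D.nroots)), nneg E w = k → m ∈ (chev E H F).N → (chev E H F).Act m w →
      m * m = 1 → w * w = 1 → ∃ h ∈ D.diagonalSubgroup F, h * h = 1 ∧ Eqv D F m h := by
    intro k
    induction k using Nat.strong_induction_on with
    | _ k ih =>
      intro m w hk hm hw hmm hww
      by_cases hne : w = 1
      · subst hne
        have := RGrp.mem_H_of_act_one hm hw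
        rw [chev_H] at this
        exact ⟨m, this, hmm, Eqv.refl' m⟩
      · obtain ⟨g, hg, w', h3, h4, h5, h6⟩ := one_step R H C h2 hm hw hmm hww hne
        have hmm' : (g⁻¹ * m * g) * (g⁻¹ * m * g) = 1 := by
          have : (g⁻¹ * m * g) * (g⁻¹ * m * g) = g⁻¹ * (m * m) * g := by group
          rw [this, hmm]; group
        obtain ⟨h, hh, hhh, hE⟩ := ih (nneg E w') (by omega) _ w' rfl h3 h4 hmm' h5
        exact ⟨h, hh, hhh, Eqv.trans' ⟨g⁻¹, inv_mem hg, by group⟩ hE⟩
  obtain ⟨y, hy, m, w, h1, h3, h4, h5, h6, -⟩ := exists_conj_monomial (Tw.one (chev E H F)) (t := t) (by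
    rw [inv_one, mul_one, chev_Grp]; exact ht) htt
  rw [inv_one, mul_one] at h3
  rw [chev_Grp] at hy
  obtain ⟨h, hh, hhh, hE⟩ := main _ m w rfl h3 h4 h5 h6
  refine ⟨h, hh, hhh, Eqv.trans' ⟨y⁻¹, inv_mem hy, ?_⟩ hE⟩
  rw [← h1, inv_inv]

end oddE

end Cfsg.Agent.ChevU
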