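import Cfsg.Agent.ChevU.OddE

set_option autoImplicit false
set_option linter.unusedSectionVars false
set_option linter.unusedVariables false

/-!
# Involutions of the torus (helper17)
-/

namespace Cfsg.Agent.ChevU

open Cfsg.Lie Cfsg.Agent.Chev Cfsg.Agent.ChevGrp Cfsg.Agent.ChevWeyl Matrix

section oddF

variable {D : ChevalleyDatum} {F : Type*} [Field F] (R : RootFacts D) (H : Good D) (E : DData D)

include H in
theorem hHom_inj [Fintype F] (S : SmithData D.rank) (hS : S.OK) (hC : cmat D = Matrix.of S.C) (hd : ∀ k, S.d k = 1) :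
    Function.Injective (hHom D F) := by
  rw [← MonoidHom.ker_eq_bot_iff, ← Subgroup.card_eq_one]
  rw [ker_hHom H, hC, card_ker_mon S hS]
  apply Finset.prod_eq_one
  intro k _
  rw [hd k, Nat.gcd_one_right]

include R H in
theorem hU_eq_hHom {r : ℕ} (hr : r < D.nroots) (t : Fˣ) : Inst.hU H r (t : F) = hHom D F (fun i => t ^ cc D r i) := by
  rw [← torHom_chiH_eq, ← hU_eq_torHom R H hr]
  exact Units.ext (by rw [Inst.val_hU, coe_hU])

/-- the reflected parameter -/
def refC (D : ChevalleyDatum) {F : Type*} [Field F] (i : Fin D.rank) (c : Fin D.rank → Fˣ) : Fin D.rank → Fˣ :=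
  fun k => if k = i then c k * (∏ j : Fin D.rank, c j ^ D.cartan j (D.simple i))⁻¹ else c k

include R E in
theorem nn_hHom (i : Fin D.rank) (c : Fin D.rank → Fˣ) :
    Inst.nn H F (i : ℕ) * hHom D F c * (Inst.nn H F (i : ℕ))⁻¹ = hHom D F (refC D i c) := by
  have h0 : ((E.rp.p i : Fin D.nroots) : ℕ) = D.simple i := E.hp i
  have h1 := conj_nr (R := R) (NA.torus (H := H) (E := E) (c := c) R) (E.rp.p i)
  rw [phi_w, phi_dg, h0] at h1
  have h2 : Inst.nn H F (i : ℕ) = Inst.nU H (D.simple i) 1 := rfl
  rw [← h2] at h1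
  set n := Inst.nn H F (i : ℕ)
  set χ : Fˣ := ∏ j : Fin D.rank, c j ^ D.cartan j (D.simple i) with hχ
  have h3 : n * (hHom D F c)⁻¹ * n⁻¹ = (hHom D F c)⁻¹ * Inst.hU H (D.simple i) (χ : F) := by
    rw [mul_inv_eq_iff_eq_mul, mul_assoc, ← h1]; group
  have h4 : n * hHom D F c * n⁻¹ = (n * (hHom D F c)⁻¹ * n⁻¹)⁻¹ := by group
  rw [h4, h3, hU_eq_hHom R H (H.simple_lt i i.2), ← map_inv, ← map_mul, ← map_inv]
  congr 1
  funext k
  simp only [Pi.inv_apply, Pi.mul_apply, mul_inv, inv_inv]
  unfold refC
  have h5 : cc D (D.simple i) k = if k = i then 1 else 0 := by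
    have := E.rp.c_p i k
    rw [E.hc, h0] at this
    exact this
  rw [h5]
  by_cases hk : k = i
  · rw [if_pos hk, if_pos hk, _root_.zpow_one]
  · rw [if_neg hk, if_neg hk, _root_.zpow_zero, inv_one, mul_one]

/-- the sign vector of a mask -/
def sv (D : ChevalleyDatum) (F : Type*) [Field F] (b : ℕ) : Fin D.rank → Fˣ := fun k => if b.testBit k then -1 else 1

/-- the action of a fundamental reflection on masks -/
def stepB (D : ChevalleyDatum) (i b : ℕ) : ℕ :=
  if ((List.range D.rank).filter fun j => b.testBit j && (D.cartan j (D.simple i) % 2 != 0)).length % 2 = 1 then b ^^^ (2 ^ i) else b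

theorem prod_sv (D : ChevalleyDatum) (F : Type*) [Field F] (i b : ℕ) :
    (∏ j : Fin D.rank, sv D F b j ^ D.cartan j (D.simple i)) =
      (-1) ^ ((List.range D.rank).filter fun j => b.testBit j && (D.cartan j (D.simple i) % 2 != 0)).length := by
  have h1 : ∀ n : ℕ, (∏ j ∈ Finset.range n, (if b.testBit j then (-1 : Fˣ) else 1) ^ D.cartan j (D.simple i)) =
      (-1) ^ ((List.range n).filter fun j => b.testBit j && (D.cartan j (D.simple i) % 2 != 0)).length := by
    intro n
    induction n with
    | zero => simp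
    | succ n ih =>
      rw [Finset.prod_range_succ, ih, List.range_succ, List.filter_append, List.length_append, pow_add]
      congr 1
      cases hb : b.testBit n
      · simp [hb]
      · simp only [if_true]
        by_cases hp : D.cartan n (D.simple i) % 2 = 0
        · have h2 : Even (D.cartan n (D.simple i)) := Int.even_iff.2 hp
          rw [h2.neg_one_zpow]
          simp [hb, hp]
        · have h2 : Odd (D.cartan n (D.simple i)) := by
            rw [← Int.not_even_iff_odd, Int.even_iff]; exact hp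
          rw [h2.neg_one_zpow]
          simp [hb, hp]
  rw [← h1, Finset.prod_range]
  rfl

theorem refC_sv (i : Fin D.rank) (b : ℕ) : refC D i (sv D F b) = sv D F (stepB D i b) := by
  funext k
  unfold refC
  rw [prod_sv]
  unfold stepB
  set n := ((List.range D.rank).filter fun j => b.testBit j && (D.cartan j (D.simple i) % 2 != 0)).length
  by_cases hk : k = i
  · subst hk
    rw [if_pos rfl]
    split_ifs with h
    · have h2 : Odd n := Nat.odd_iff.2 h
      rw [h2.neg_one_pow]
      unfold sv
      rw [Nat.testBit_xor, Nat.testBit_two_pow_self]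
      cases b.testBit k <;> simp
    · have h2 : Even n := by
        rw [← Nat.not_odd_iff_even, Nat.odd_iff]; exact h
      rw [h2.neg_one_pow]; simp
  · rw [if_neg hk]
    split_ifs with h
    · unfold sv
      rw [Nat.testBit_xor, Nat.testBit_two_pow_of_ne (fun h => hk (Fin.ext h.symm))]
      simp
    · rfl

theorem sv_inj (h2 : (2 : F) ≠ 0) {b b' : ℕ} (hb : b < 2 ^ D.rank) (hb' : b' < 2 ^ D.rank) (h : sv D F b = sv D F b') : b = b' := by
  apply Nat.eq_of_testBit_eq
  intro k
  by_cases hk : k < D.rank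
  · have h1 := congrFun h ⟨k, hk⟩
    unfold sv at h1
    simp only at h1
    have h3 : (-1 : Fˣ) ≠ 1 := by
      intro h4
      have h5 := congrArg (fun u : Fˣ => (u : F)) h4
      simp only [Units.val_neg, Units.val_one] at h5
      apply h2
      linear_combination -h5
    cases hx : b.testBit k <;> cases hy : b'.testBit k <;> rw [hx, hy] at h1
    · simp at h1; exact absurd h1.symm h3
    · simp at h1; exact absurd h1 h3
  · have h1 : b < 2 ^ k := lt_of_lt_of_le hb (Nat.pow_le_pow_right (by norm_num) (by omega))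
    have h2 : b' < 2 ^ k := lt_of_lt_of_le hb' (Nat.pow_le_pow_right (by norm_num) (by omega))
    rw [Nat.testBit_lt_two_pow h1, Nat.testBit_lt_two_pow h2]

theorem exists_mask {c : Fin D.rank → Fˣ} (hc : c * c = 1) : ∃ b < 2 ^ D.rank, c = sv D F b := by
  classical
  refine ⟨Nat.ofBits fun k : Fin D.rank => decide (c k ≠ 1), Nat.ofBits_lt_two_pow _, ?_⟩
  funext k
  unfold sv
  rw [Nat.testBit_ofBits_lt _ _ k.2]
  have h1 : c k * c k = 1 := congrFun hc k
  by_cases h : c k = 1
  · simp [h]
  · have h2 : c k = -1 := by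
      have h3 : ((c k : F) - 1) * ((c k : F) + 1) = 0 := by
        have h4 := congrArg (fun u : Fˣ => (u : F)) h1
        simp only [Units.val_mul, Units.val_one] at h4
        linear_combination h4
      rcases mul_eq_zero.1 h3 with h4 | h4
      · exact absurd (Units.ext (by rw [Units.val_one]; linear_combination h4)) h
      · exact Units.ext (by rw [Units.val_neg, Units.val_one]; linear_combination h4)
    simp [h, h2]

/-- `w` in the Weyl group moves the mask `v` to the mask `b` -/
def MRel (E : DData D) (F : Type*) [Field F] (H : Good D) (v b : ℕ) : Prop :=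
  ∃ n ∈ (chev E H F).N, n * hHom D F (sv D F v) * n⁻¹ = hHom D F (sv D F b)

theorem MRel.refl (v : ℕ) : MRel E F H v v := ⟨1, one_mem _, by simp⟩
include R in
theorem MRel.step {v b : ℕ} (h : MRel E F H v b) (i : Fin D.rank) : MRel E F H v (stepB D i b) := by
  obtain ⟨n, hn, e⟩ := h
  refine ⟨Inst.nn H F (i : ℕ) * n, mul_mem ((chev E H F).nn_mem_N i) hn, ?_⟩
  have h1 := nn_hHom (F := F) R H E i (sv D F b)
  rw [refC_sv, ← e] at h1
  rw [← h1]; group

/-- check of a spanning forest: entries `(b, i, b')` with `b = s_i b'` -/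
def chkT (D : ChevalleyDatum) : List ℕ → List (ℕ × ℕ × ℕ) → Bool
  | _, [] => true
  | done, (b, i, b') :: T => decide (i < D.rank) && decide (stepB D i b' = b) && done.contains b' && chkT D (b :: done) T

include R in
theorem chkT_reach {v : ℕ} (done : List ℕ) (T : List (ℕ × ℕ × ℕ)) (h : chkT D done T = true) (hd : ∀ b ∈ done, MRel E F H v b) :
    ∀ x ∈ T, MRel E F H v x.1 := by
  induction T generalizing done with
  | nil => simp
  | cons x T ih =>
    obtain ⟨b, i, b'⟩ := x
    unfold chkT at h
    rw [Bool.and_eq_true, Bool.and_eq_true, Bool.and_eq_true, decide_eq_true_eq, decide_eq_true_eq, List.contains_iff_mem] at h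
    obtain ⟨⟨⟨h1, h2⟩, h3⟩, h4⟩ := h
    have h5 : MRel E F H v b := by
      have := (hd b' h3).step R H E ⟨i, h1⟩
      rw [← h2]; exact this
    intro x hx
    rcases List.mem_cons.1 hx with rfl | hx
    · exact h5
    · exact ih (b :: done) h4 (fun y hy => by
        rcases List.mem_cons.1 hy with rfl | hy
        · exact h5
        · exact hd y hy) x hx

/-- the masks of an orbit: `v` and the entries of the forest -/
def orbL (v : ℕ) (T : List (ℕ × ℕ × ℕ)) : List ℕ := v :: T.map (·.1)

include R in
theorem orbL_reach {v : ℕ} {T : List (ℕ × ℕ × ℕ)} (h : chkT D [v] T = true) : ∀ b ∈ orbL v T, MRel E F H v b := by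
  intro b hb
  rcases List.mem_cons.1 hb with rfl | hb
  · exact MRel.refl H E b
  · rw [List.mem_map] at hb
    obtain ⟨x, hx, rfl⟩ := hb
    exact chkT_reach R H E [v] T h (fun b hb => by
      rw [List.mem_singleton] at hb; subst hb; exact MRel.refl H E _) x hx

include R H E in
/-- **involutions of the torus up to conjugacy** -/
theorem torus_class [Fintype F] (S : SmithData D.rank) (hS : S.OK) (hC : cmat D = Matrix.of S.C) (hd : ∀ k, S.d k = 1)
    (L : List (ℕ × List (ℕ × ℕ × ℕ))) (hL : ∀ x ∈ L, chkT D [x.1] x.2 = true)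
    (hall : ((List.range (2 ^ D.rank)).all fun b => b == 0 || L.any fun x => (orbL x.1 x.2).contains b) = true)
    {h : GL D.Idx F} (hh : h ∈ D.diagonalSubgroup F) (hhh : h * h = 1) (h1 : h ≠ 1) :
    ∃ x ∈ L, Eqv D F h (hHom D F (sv D F x.1)) := by
  rw [diag_eq_range R H] at hh
  obtain ⟨c, rfl⟩ := hh
  have hc : c * c = 1 := by
    apply hHom_inj (F := F) H S hS hC hd
    rw [map_mul, hhh, map_one]
  obtain ⟨b, hb, rfl⟩ := exists_mask hc
  rw [List.all_eq_true] at hall
  have h2 := hall b (List.mem_range.2 hb)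
  rw [Bool.or_eq_true, beq_iff_eq, List.any_eq_true] at h2
  rcases h2 with h2 | ⟨x, hx, h2⟩
  · exfalso
    apply h1
    rw [h2]
    have : sv D F 0 = 1 := by
      funext k; simp [sv]
    rw [this, map_one]
  · rw [List.contains_iff_mem] at h2
    obtain ⟨n, hn, e⟩ := orbL_reach (F := F) R H E (hL x hx) b h2
    refine ⟨x, hx, n⁻¹, inv_mem ?_, ?_⟩
    · rw [← chev_Grp E H]; exact RGrp.N_le_Grp hn
    · rw [← e]; group

end oddF

end Cfsg.Agent.ChevU
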