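import Cfsg.Agent.ChevGrp.Order
import Cfsg.Agent.ChevU.InvAbs

set_option autoImplicit false
set_option linter.unusedSectionVars false
set_option linter.unusedVariables false

/-!
# Counting centralisers of elements of the torus (helper17)
-/

namespace Cfsg.Agent.ChevU

open Cfsg.Agent.ChevGrp Cfsg.Agent.ChevWeyl

section abs

variable {l n : ℕ} {S : WSys l n} {G : Type*} [Group G] {R : RGrp S G}

/-- the centraliser of `h` in a subgroup -/
abbrev cIn (K : Subgroup G) (h : G) : Subgroup G := K ⊓ Subgroup.centralizer {h}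

theorem mem_cIn {K : Subgroup G} {h x : G} : x ∈ cIn K h ↔ x ∈ K ∧ x * h = h * x := by
  rw [Subgroup.mem_inf, Subgroup.mem_centralizer_singleton_iff]

/-- `h` centralises the root subgroup -/
def Cen (R : RGrp S G) (h : G) (r : Fin n) : Prop := ∀ x ∈ R.X r, x * h = h * x

theorem cen_nn (j : Fin l) (h : G) (r : Fin n) : Cen R (R.nn j * h * (R.nn j)⁻¹) (S.w j r) ↔ Cen R h r := by
  constructor
  · intro hc x hx
    have h1 := hc _ (R.nn_X j r x hx)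
    have h2 : x * h = (R.nn j)⁻¹ * (R.nn j * x * (R.nn j)⁻¹ * (R.nn j * h * (R.nn j)⁻¹)) * R.nn j := by group
    rw [h2, h1]; group
  · intro hc x hx
    have hx' : (R.nn j)⁻¹ * x * R.nn j ∈ R.X r := by
      have := (RGrp.act_nn (R := R) j).conj' hx
      rwa [S.w_inv, S.w_w] at this
    have h1 := hc _ hx'
    have h2 : x * (R.nn j * h * (R.nn j)⁻¹) = R.nn j * ((R.nn j)⁻¹ * x * R.nn j * h) * (R.nn j)⁻¹ := by group
    rw [h2, h1]; group

open Classical in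
/-- roots in the inversion set centralised by `h` -/
noncomputable def cset (R : RGrp S G) (u : Equiv.Perm (Fin n)) (h : G) : Finset (Fin n) :=
  Finset.univ.filter fun r => S.Pos r ∧ ¬ S.Pos (u r) ∧ Cen R h r

theorem mem_cset {u : Equiv.Perm (Fin n)} {h : G} {r : Fin n} : r ∈ cset R u h ↔ S.Pos r ∧ ¬ S.Pos (u r) ∧ Cen R h r := by
  classical
  unfold cset; rw [Finset.mem_filter]; simp

theorem cset_one (h : G) : cset R 1 h = ∅ := by
  ext r; rw [mem_cset]; simp only [Equiv.Perm.one_apply, Finset.notMem_empty, iff_false]; tauto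

theorem cset_mul {u : Equiv.Perm (Fin n)} (hu : u ∈ S.W) {j : Fin l} (hj : S.Pos (u (S.p j))) (h : G) :
    (cset R (u * S.w j) h).card = (cset R u (R.nn j * h * (R.nn j)⁻¹)).card + (open Classical in if Cen R h (S.p j) then 1 else 0) := by
  classical
  have hp : ∀ r, S.Pos r → r ≠ S.p j → S.Pos (S.w j r) := fun r => S.pos_w j r
  have hdesc : ¬ S.Pos (u (S.w j (S.p j))) := by
    rw [S.w_p, S.W_neg hu, S.pos_neg_iff]; simpa using hj
  have himg : (cset R (u * S.w j) h).filter (fun r => r ≠ S.p j) = (cset R u (R.nn j * h * (R.nn j)⁻¹)).image (S.w j) := by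
    ext r
    rw [Finset.mem_filter, Finset.mem_image, mem_cset]
    constructor
    · rintro ⟨⟨h1, h2, h3⟩, h4⟩
      refine ⟨S.w j r, ?_, S.w_w j r⟩
      rw [mem_cset]
      exact ⟨hp r h1 h4, h2, (cen_nn j h r).2 h3⟩
    · rintro ⟨s, hs, rfl⟩
      rw [mem_cset] at hs
      obtain ⟨h1, h2, h3⟩ := hs
      have hs1 : s ≠ S.p j := by rintro rfl; exact h2 hj
      refine ⟨⟨hp s h1 hs1, ?_, ?_⟩, S.w_ne_p h1⟩
      · rw [Equiv.Perm.mul_apply, S.w_w]; exact h2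
      · rw [← cen_nn j h, S.w_w]; exact h3
  have hcard : (cset R u (R.nn j * h * (R.nn j)⁻¹)).card = ((cset R (u * S.w j) h).filter (fun r => r ≠ S.p j)).card := by
    rw [himg, Finset.card_image_of_injective _ (S.w j).injective]
  rw [hcard]
  have hsplit := Finset.card_filter_add_card_filter_not (s := cset R (u * S.w j) h) (fun r => r ≠ S.p j)
  rw [← hsplit]
  congr 1
  have h5 : (cset R (u * S.w j) h).filter (fun r => ¬ (r ≠ S.p j)) = if Cen R h (S.p j) then {S.p j} else ∅ := by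
    ext r
    rw [Finset.mem_filter, mem_cset]
    split_ifs with hc
    · rw [Finset.mem_singleton]
      constructor
      · rintro ⟨-, h6⟩; simpa using h6
      · rintro rfl
        exact ⟨⟨S.pos_p j, hdesc, hc⟩, by simp⟩
    · constructor
      · rintro ⟨⟨_, _, h7⟩, h6⟩
        have : r = S.p j := by simpa using h6
        subst this; exact absurd h7 hc
      · intro h; simp at h
  rw [h5]
  split_ifs <;> simp

/-- the hypothesis on the rank one centralisers -/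
def CX (R : RGrp S G) (q : ℕ) (h : G) : Prop := ∀ r, (open Classical in Nat.card (cIn (R.X r) h) = if Cen R h r then q else 1)

/-- the centraliser in `Um` -/
theorem card_cUm {q : ℕ} (hH : ∀ h ∈ R.H, CX R q h) {u : Equiv.Perm (Fin n)} (hu : u ∈ S.W) {h : G} (hh : h ∈ R.H) :
    Nat.card (cIn (R.Um u) h) = q ^ (cset R u h).card := by
  classical
  revert h
  refine S.W_induction_right (Q := fun u => ∀ {h : G}, h ∈ R.H → Nat.card (cIn (R.Um u) h) = q ^ (cset R u h).card) ?_ ?_ hu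
  · intro h hh
    rw [cset_one, Finset.card_empty, pow_zero, RGrp.Um_one]
    rw [show cIn (⊥ : Subgroup G) h = ⊥ from bot_inf_eq _]
    exact Subgroup.card_bot
  · intro u hu j hj ih h hh
    rw [cset_mul hu hj, pow_add]
    have hh' : R.nn j * h * (R.nn j)⁻¹ ∈ R.H := R.nn_H j h hh
    rw [← ih hh']
    have hX := hH h hh (S.p j)
    have hX' : q ^ (if Cen R h (S.p j) then 1 else 0) = Nat.card (cIn (R.X (S.p j)) h) := by
      rw [hX]; split_ifs <;> simp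
    rw [hX']
    have hdesc : ¬ S.Pos ((u * S.w j) (S.p j)) := by
      rw [Equiv.Perm.mul_apply, S.w_p, S.W_neg hu, S.pos_neg_iff]; simpa using hj
    have hz' : ∀ z ∈ R.Um u, (R.nn j)⁻¹ * z * R.nn j ∈ R.Um (u * S.w j) := by
      intro z hz
      have h1 : z ∈ R.Um (u * S.w j * S.w j) := by rw [mul_assoc, S.w_mul_w, mul_one]; exact hz
      have := RGrp.nn_Um (mul_mem hu (S.w_mem j)) hdesc z h1
      exact gen_mono (fun r hr => ⟨hr.1.1, hr.2⟩) this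
    have huniq : ∀ z ∈ R.Um u, ∀ x ∈ R.X (S.p j), ∀ z' ∈ R.Um u, ∀ x' ∈ R.X (S.p j),
        (R.nn j)⁻¹ * z * R.nn j * x = (R.nn j)⁻¹ * z' * R.nn j * x' → z = z' ∧ x = x' := by
      intro z hz x hx z' hz'' x' hx' e
      have h1 : z'⁻¹ * z = R.nn j * (x' * x⁻¹) * (R.nn j)⁻¹ := by
        have : R.nn j * (((R.nn j)⁻¹ * z' * R.nn j)⁻¹ * ((R.nn j)⁻¹ * z * R.nn j * x) * x⁻¹) * (R.nn j)⁻¹ = z'⁻¹ * z := by group
        rw [← this, e]; group
      have h2 : R.nn j * (x' * x⁻¹) * (R.nn j)⁻¹ ∈ R.V := by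
        have := (RGrp.act_nn (R := R) j).conj (mul_mem hx' (inv_mem hx))
        rw [S.w_p] at this
        exact R.X_le_V (by rw [S.pos_neg_iff]; simpa using S.pos_p j) this
      have h3 := R.U_inf_V (mul_mem (inv_mem (RGrp.Um_le_U _ hz'')) (RGrp.Um_le_U _ hz)) (by rw [h1]; exact h2)
      have h4 : z = z' := (inv_mul_eq_one.1 h3).symm
      subst h4
      exact ⟨rfl, mul_left_cancel e⟩
    rw [← Nat.card_prod]
    refine (Nat.card_congr (Equiv.ofBijective (fun p : cIn (R.Um u) (R.nn j * h * (R.nn j)⁻¹) × cIn (R.X (S.p j)) h =>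
      (⟨(R.nn j)⁻¹ * p.1 * R.nn j * p.2, by
        rw [mem_cIn]
        have h1 := mem_cIn.1 p.1.2
        have h2 := mem_cIn.1 p.2.2
        refine ⟨mul_mem (hz' _ h1.1) (mem_gen ⟨S.pos_p j, hdesc⟩ h2.1), ?_⟩
        have e1 : (R.nn j)⁻¹ * (p.1 : G) * R.nn j * h = h * ((R.nn j)⁻¹ * (p.1 : G) * R.nn j) := by
          have e2 : (R.nn j)⁻¹ * (p.1 : G) * R.nn j * h = (R.nn j)⁻¹ * ((p.1 : G) * (R.nn j * h * (R.nn j)⁻¹)) * R.nn j := by group
          rw [e2, h1.2]; group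
        rw [mul_assoc _ (p.2 : G), h2.2, ← mul_assoc, e1, mul_assoc]⟩ : cIn (R.Um (u * S.w j)) h)) ⟨?_, ?_⟩)).symm
    · rintro ⟨⟨z, hz⟩, ⟨x, hx⟩⟩ ⟨⟨z', hz''⟩, ⟨x', hx'⟩⟩ e
      simp only [Subtype.mk.injEq] at e
      obtain ⟨h1, h2⟩ := huniq z (mem_cIn.1 hz).1 x (mem_cIn.1 hx).1 z' (mem_cIn.1 hz'').1 x' (mem_cIn.1 hx').1 e
      subst h1; subst h2; rfl
    · rintro ⟨y, hy⟩
      obtain ⟨hy1, hy2⟩ := mem_cIn.1 hy
      obtain ⟨z, hz, x, hx, rfl⟩ := RGrp.Um_factor hu hj hy1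
      -- conjugate by `h`
      have hz1 : (R.nn j * h * (R.nn j)⁻¹)⁻¹ * z * (R.nn j * h * (R.nn j)⁻¹) ∈ R.Um u :=
        RGrp.H_norm_gen' _ _ hh' z hz
      have hx1 : h⁻¹ * x * h ∈ R.X (S.p j) := by
        have := R.H_X h⁻¹ (inv_mem hh) (S.p j) x hx
        rwa [inv_inv] at this
      have e : (R.nn j)⁻¹ * ((R.nn j * h * (R.nn j)⁻¹)⁻¹ * z * (R.nn j * h * (R.nn j)⁻¹)) * R.nn j * (h⁻¹ * x * h) =
          (R.nn j)⁻¹ * z * R.nn j * x := by
        have : (R.nn j)⁻¹ * ((R.nn j * h * (R.nn j)⁻¹)⁻¹ * z * (R.nn j * h * (R.nn j)⁻¹)) * R.nn j * (h⁻¹ * x * h) =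
          h⁻¹ * ((R.nn j)⁻¹ * z * R.nn j * x * h) := by group
        rw [this, hy2]; group
      obtain ⟨h1, h2⟩ := huniq _ hz1 _ hx1 z hz x hx e
      refine ⟨(⟨z, ?_⟩, ⟨x, ?_⟩), rfl⟩
      · rw [mem_cIn]
        refine ⟨hz, ?_⟩
        have : z * (R.nn j * h * (R.nn j)⁻¹) = (R.nn j * h * (R.nn j)⁻¹) * ((R.nn j * h * (R.nn j)⁻¹)⁻¹ * z * (R.nn j * h * (R.nn j)⁻¹)) := by group
        rw [this, h1]
      · rw [mem_cIn]
        refine ⟨hx, ?_⟩
        have : x * h = h * (h⁻¹ * x * h) := by group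
        rw [this, h2]

/-- the stabiliser of `h` in the Weyl group -/
def stW (R : RGrp S G) (h : G) (hcomm : ∀ a ∈ R.H, ∀ b ∈ R.H, a * b = b * a) (hh : h ∈ R.H) : Subgroup (Equiv.Perm (Fin n)) where
  carrier := {w | ∃ m ∈ R.N, R.Act m w ∧ m * h = h * m}
  one_mem' := ⟨1, one_mem _, RGrp.act_one, by simp⟩
  mul_mem' := by
    rintro w w' ⟨m, hm, hw, e⟩ ⟨m', hm', hw', e'⟩
    refine ⟨m * m', mul_mem hm hm', hw.mul hw', ?_⟩
    rw [mul_assoc, e', ← mul_assoc, e, mul_assoc]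
  inv_mem' := by
    rintro w ⟨m, hm, hw, e⟩
    refine ⟨m⁻¹, inv_mem hm, hw.inv, ?_⟩
    have : m⁻¹ * h = m⁻¹ * (h * m) * m⁻¹ := by group
    rw [this, ← e]; group

theorem stW_iff {h : G} (hcomm : ∀ a ∈ R.H, ∀ b ∈ R.H, a * b = b * a) (hh : h ∈ R.H) {w : Equiv.Perm (Fin n)} {m : G}
    (hm : m ∈ R.N) (hw : R.Act m w) : w ∈ stW R h hcomm hh ↔ m * h = h * m := by
  constructor
  · rintro ⟨m', hm', hw', e⟩
    have h1 : m'⁻¹ * m ∈ R.H := RGrp.inv_mul_mem_H hm' hm hw' hw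
    have h2 := hcomm _ h1 _ hh
    have h3 : m = m' * (m'⁻¹ * m) := by group
    rw [h3, mul_assoc, h2, ← mul_assoc, e, mul_assoc]
  · intro e; exact ⟨m, hm, hw, e⟩

theorem stW_le {h : G} (hcomm : ∀ a ∈ R.H, ∀ b ∈ R.H, a * b = b * a) (hh : h ∈ R.H) : stW R h hcomm hh ≤ S.W := by
  rintro w ⟨m, _, hw, _⟩; exact hw.1

/-- **the order of the centraliser of an element of the torus** -/
theorem card_cGrp [Finite G] {h : G} (hcomm : ∀ a ∈ R.H, ∀ b ∈ R.H, a * b = b * a) (hh : h ∈ R.H) :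
    Nat.card (cIn R.Grp h) = Nat.card R.H * Nat.card (cIn R.U h) * ∑ᶠ w : stW R h hcomm hh, Nat.card (cIn (R.Um (w : Equiv.Perm (Fin n))) h) := by
  classical
  have : Fintype (stW R h hcomm hh) := Fintype.ofFinite _
  rw [finsum_eq_sum_of_fintype, ← Nat.card_sigma, ← Nat.card_prod, ← Nat.card_prod]
  have hrep : ∀ u : stW R h hcomm hh, ∃ g ∈ R.N, R.Act g (u : Equiv.Perm (Fin n)) ∧ g * h = h * g := fun u => u.2
  choose rep hrepN hrep hrepc using hrep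
  have hHcomm : ∀ k ∈ R.H, k * h = h * k := fun k hk => hcomm k hk h hh
  refine (Nat.card_congr (Equiv.ofBijective (fun p : (R.H × cIn R.U h) × (Σ u : stW R h hcomm hh, cIn (R.Um (u : Equiv.Perm (Fin n))) h) =>
    (⟨(p.1.2 : G) * p.1.1 * rep p.2.1 * p.2.2, by
      rw [mem_cIn]
      have h2 := mem_cIn.1 p.1.2.2
      have h3 := mem_cIn.1 p.2.2.2
      refine ⟨mul_mem (mul_mem (mul_mem (RGrp.B_le_Grp (R.U_le_B h2.1)) (RGrp.B_le_Grp (R.H_le_B p.1.1.2))) (RGrp.N_le_Grp (hrepN _)))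
        (RGrp.B_le_Grp (R.U_le_B (RGrp.Um_le_U _ h3.1))), ?_⟩
      calc (p.1.2 : G) * p.1.1 * rep p.2.1 * p.2.2 * h = (p.1.2 : G) * p.1.1 * rep p.2.1 * (p.2.2 * h) := by group
        _ = (p.1.2 : G) * p.1.1 * (rep p.2.1 * h) * p.2.2 := by rw [h3.2]; group
        _ = (p.1.2 : G) * (p.1.1 * h) * rep p.2.1 * p.2.2 := by rw [hrepc]; group
        _ = (p.1.2 * h) * p.1.1 * rep p.2.1 * p.2.2 := by rw [hHcomm _ p.1.1.2]; group
        _ = h * ((p.1.2 : G) * p.1.1 * rep p.2.1 * p.2.2) := by rw [h2.2]; group⟩ : cIn R.Grp h)) ⟨?_, ?_⟩)).symm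
  · rintro ⟨⟨⟨k, hk⟩, ⟨v, hv⟩⟩, ⟨u, ⟨x, hx⟩⟩⟩ ⟨⟨⟨k', hk'⟩, ⟨v', hv'⟩⟩, ⟨u', ⟨x', hx'⟩⟩⟩ e
    simp only [Subtype.mk.injEq] at e
    rw [mem_cIn] at hv hv' hx hx'
    have hb : v * k ∈ R.B := mul_mem (R.U_le_B hv.1) (R.H_le_B hk)
    have hb' : v' * k' ∈ R.B := mul_mem (R.U_le_B hv'.1) (R.H_le_B hk')
    have huu : u = u' := by
      apply Subtype.ext
      have hxx : x * x'⁻¹ ∈ R.B := mul_mem (R.U_le_B (RGrp.Um_le_U _ hx.1)) (inv_mem (R.U_le_B (RGrp.Um_le_U _ hx'.1)))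
      refine RGrp.act_eq_of_bnb (hrep u) (hrepN u) (hrep u') (hrepN u') (b := (v' * k')⁻¹ * (v * k)) (b' := x * x'⁻¹)
        (mul_mem (inv_mem hb') hb) hxx ?_
      have : (v' * k')⁻¹ * (v * k * rep u * x) * x'⁻¹ = rep u' := by rw [e]; group
      rw [← this]; group
    subst huu
    obtain ⟨h1, h2⟩ := RGrp.bnu_unique (hrep u) hb hb' hx.1 hx'.1 e
    have h3 : v'⁻¹ * v = k' * k⁻¹ := by
      rw [eq_mul_inv_iff_mul_eq, mul_assoc, h1]; group
    have h4 := R.UH (v'⁻¹ * v) (mul_mem (inv_mem hv'.1) hv.1) (by rw [h3]; exact mul_mem hk' (inv_mem hk))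
    have h5 : v = v' := (inv_mul_eq_one.1 h4).symm
    subst h5; subst h2
    have h6 : k = k' := mul_left_cancel h1
    subst h6; rfl
  · rintro ⟨g, hg⟩
    obtain ⟨hg1, hg2⟩ := mem_cIn.1 hg
    obtain ⟨b, hb, m, hm, b', hb', e0⟩ := RGrp.exists_bnb hg1
    obtain ⟨u, hu⟩ := RGrp.exists_act hm
    obtain ⟨b'', hb'', x, hx, e1⟩ := RGrp.exists_bnu hu hm hb'
    -- canonical form `g = B m x`
    have hB : b * b'' ∈ R.B := mul_mem hb hb''
    have e2 : g = (b * b'') * m * x := by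
      rw [e0, mul_assoc b m b', e1]; group
    obtain ⟨v, hv, k, hk, e3⟩ := RGrp.mem_B.1 hB
    -- conjugate by `h`
    have hc : h * m * h⁻¹ * m⁻¹ ∈ R.H := by
      have : h * m * h⁻¹ * m⁻¹ = h * (m * h⁻¹ * m⁻¹) := by group
      rw [this]; exact mul_mem hh (RGrp.N_conj_H hm (inv_mem hh))
    have hBc : h * (b * b'') * h⁻¹ * (h * m * h⁻¹ * m⁻¹) ∈ R.B :=
      mul_mem (mul_mem (mul_mem (R.H_le_B hh) hB) (inv_mem (R.H_le_B hh))) (R.H_le_B hc)
    have hxc : h * x * h⁻¹ ∈ R.Um u := RGrp.H_norm_gen _ _ hh x hx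
    have e4 : (h * (b * b'') * h⁻¹ * (h * m * h⁻¹ * m⁻¹)) * m * (h * x * h⁻¹) = (b * b'') * m * x := by
      have : (h * (b * b'') * h⁻¹ * (h * m * h⁻¹ * m⁻¹)) * m * (h * x * h⁻¹) = h * ((b * b'') * m * x) * h⁻¹ := by group
      rw [this, ← e2, ← hg2]; group
    obtain ⟨h5, h6⟩ := RGrp.bnu_unique hu hBc hB hxc hx e4
    have hxx : x * h = h * x := by rw [← mul_inv_eq_iff_eq_mul.1 h6]; 
    have hvv : (h * v * h⁻¹)⁻¹ * v = (h * k * h⁻¹ * (h * m * h⁻¹ * m⁻¹)) * k⁻¹ := by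
      rw [e3] at h5
      have : h * (v * k) * h⁻¹ * (h * m * h⁻¹ * m⁻¹) = (h * v * h⁻¹) * (h * k * h⁻¹ * (h * m * h⁻¹ * m⁻¹)) := by group
      rw [this] at h5
      rw [eq_mul_inv_iff_mul_eq, mul_assoc, ← h5]; group
    have hvc : h * v * h⁻¹ ∈ R.U := RGrp.H_norm_gen _ _ hh v hv
    have hkc : h * k * h⁻¹ * (h * m * h⁻¹ * m⁻¹) ∈ R.H := mul_mem (mul_mem (mul_mem hh hk) (inv_mem hh)) hc
    have h7 := R.UH _ (mul_mem (inv_mem hvc) hv) (by rw [hvv]; exact mul_mem hkc (inv_mem hk))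
    have h8 : h * v * h⁻¹ = v := inv_mul_eq_one.1 h7
    have hv2 : v * h = h * v := (mul_inv_eq_iff_eq_mul.1 h8).symm
    rw [h7] at hvv
    have h9 : h * k * h⁻¹ * (h * m * h⁻¹ * m⁻¹) = k := (mul_inv_eq_one.1 hvv.symm)
    have hk2 : h * k * h⁻¹ = k := by rw [← hHcomm k hk]; group
    rw [hk2] at h9
    have h10 : h * m * h⁻¹ * m⁻¹ = 1 := by
      have := congrArg (fun z => k⁻¹ * z) h9
      simpa using this
    have hmc : m * h = h * m := by
      have : h * m = (h * m * h⁻¹ * m⁻¹) * (m * h) := by group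
      rw [this, h10, one_mul]
    have huS : u ∈ stW R h hcomm hh := ⟨m, hm, hu, hmc⟩
    -- replace `m` by the chosen representative
    have h11 : m * (rep ⟨u, huS⟩)⁻¹ ∈ R.H := by
      have h12 := RGrp.inv_mul_mem_H (inv_mem (hrepN ⟨u, huS⟩)) (inv_mem hm) (hrep ⟨u, huS⟩).inv hu.inv
      rw [inv_inv] at h12
      have := inv_mem h12
      simpa using this
    refine ⟨((⟨k * (m * (rep ⟨u, huS⟩)⁻¹), mul_mem hk h11⟩, ⟨v, mem_cIn.2 ⟨hv, hv2⟩⟩), ⟨⟨u, huS⟩, ⟨x, mem_cIn.2 ⟨hx, hxx⟩⟩⟩), ?_⟩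
    apply Subtype.ext
    show v * (k * (m * (rep ⟨u, huS⟩)⁻¹)) * rep ⟨u, huS⟩ * x = g
    rw [e2, e3]; group

end abs

end Cfsg.Agent.ChevU
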