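import Cfsg.Agent.ChevU.OddF
import Cfsg.Agent.ChevU.OddG
import Cfsg.Agent.ChevU.OddCls

set_option autoImplicit false
set_option linter.unusedSectionVars false
set_option linter.unusedVariables false

/-!
# Classes and centralisers of involutions inside the group (helper17)
-/

namespace Cfsg.Agent.ChevU

open Cfsg.Lie Cfsg.Agent.Chev Cfsg.Agent.ChevGrp Cfsg.Agent.ChevWeyl Matrix


theorem cop {q : ℕ} (k : ℕ) (hk : k ≠ 0) (hq : 1 ≤ q) : Nat.Coprime q (q ^ k - 1) := by
  have h : Nat.Coprime (q ^ k) (q ^ k - 1) := by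
    have h1 : 1 ≤ q ^ k := Nat.one_le_pow _ _ hq
    have h2 : Nat.Coprime (q ^ k - 1 + 1) (q ^ k - 1) := by simp
    rwa [Nat.sub_add_cancel h1] at h2
  exact Nat.Coprime.coprime_dvd_left (dvd_pow_self q hk) h

theorem ne_of_pow {q a b A B : ℕ} (hq : 1 < q) (hab : a < b) (hA : Nat.Coprime q A) : q ^ a * A ≠ q ^ b * B := by
  intro h
  obtain ⟨c, rfl⟩ := Nat.exists_eq_add_of_lt hab
  have h1 : A = q * (q ^ c * B) := by
    have h2 : q ^ a * A = q ^ a * (q * (q ^ c * B)) := by rw [h]; ring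
    exact Nat.eq_of_mul_eq_mul_left (pow_pos (by omega) a) h2
  have h3 : q ∣ A := ⟨_, h1⟩
  have h4 : q = 1 := Nat.dvd_one.1 (by rw [← hA]; exact Nat.dvd_gcd dvd_rfl h3)
  omega

section sub

variable {G : Type*} [Group G]

theorem card_cent_sub (K : Subgroup G) (t : K) : Nat.card (Subgroup.centralizer ({t} : Set K)) = Nat.card (cIn K (t : G)) := by
  refine Nat.card_congr ⟨fun x => ⟨((x : K) : G), mem_cIn.2 ⟨x.1.2, ?_⟩⟩, fun x => ⟨⟨x.1, (mem_cIn.1 x.2).1⟩, ?_⟩, ?_, ?_⟩
  · have h := Subgroup.mem_centralizer_singleton_iff.1 x.2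
    exact congrArg (fun y : K => (y : G)) h
  · rw [Subgroup.mem_centralizer_singleton_iff]
    exact Subtype.ext (mem_cIn.1 x.2).2
  · intro x; rfl
  · intro x; rfl

theorem card_cent_conj {s t : G} (h : IsConj s t) : Nat.card (Subgroup.centralizer ({s} : Set G)) = Nat.card (Subgroup.centralizer ({t} : Set G)) := by
  obtain ⟨g, rfl⟩ := isConj_iff.1 h
  refine Nat.card_congr ⟨fun x => ⟨g * x * g⁻¹, ?_⟩, fun x => ⟨g⁻¹ * x * g, ?_⟩, ?_, ?_⟩
  · have h1 := Subgroup.mem_centralizer_singleton_iff.1 x.2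
    rw [Subgroup.mem_centralizer_singleton_iff]
    have h2 : g * (x : G) * g⁻¹ * (g * s * g⁻¹) = g * (x * s) * g⁻¹ := by group
    rw [h2, h1]; group
  · have h1 := Subgroup.mem_centralizer_singleton_iff.1 x.2
    rw [Subgroup.mem_centralizer_singleton_iff]
    have h2 : g⁻¹ * (x : G) * g * s = g⁻¹ * (x * (g * s * g⁻¹)) * g := by group
    rw [h2, h1]; group
  · intro x; apply Subtype.ext; simp [mul_assoc]
  · intro x; apply Subtype.ext; simp [mul_assoc]

end sub

theorem sv_sq (D : ChevalleyDatum) (F : Type*) [Field F] (v : ℕ) : sv D F v * sv D F v = 1 := by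
  funext k
  show sv D F v k * sv D F v k = 1
  unfold sv
  split_ifs <;> simp

section elt

variable {D : ChevalleyDatum} {F : Type*} [Field F] (R : RootFacts D) (H : Good D) (E : DData D)

/-- the standard involutions -/
noncomputable def iv (v : ℕ) : ↥(D.group F) :=
  ⟨hHom D F (sv D F v), H_le_group E H (by rw [diag_eq_range R H]; exact ⟨_, rfl⟩)⟩

theorem iv_mul (v : ℕ) : iv (F := F) R H E v * iv R H E v = 1 := by
  apply Subtype.ext
  show hHom D F (sv D F v) * hHom D F (sv D F v) = 1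
  rw [← map_mul, sv_sq, map_one]

theorem orderOf_iv [Fintype F] (S : SmithData D.rank) (hS : S.OK) (hC : cmat D = Matrix.of S.C) (hd : ∀ k, S.d k = 1) (h2 : (2 : F) ≠ 0)
    {v : ℕ} (hv : v < 2 ^ D.rank) (h0 : v ≠ 0) : orderOf (iv (F := F) R H E v) = 2 := by
  apply orderOf_eq_prime
  · rw [sq]; exact iv_mul R H E v
  · intro h
    have h1 : hHom D F (sv D F v) = hHom D F 1 := by
      rw [map_one]; exact congrArg (fun x : ↥(D.group F) => (x : GL D.Idx F)) h
    have h3 := hHom_inj H S hS hC hd h1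
    have h4 : sv D F v = sv D F 0 := by
      rw [h3]; funext k; simp [sv]
    exact h0 (sv_inj h2 hv (by positivity) h4)

theorem card_cent_iv (v : ℕ) : Nat.card (Subgroup.centralizer ({iv (F := F) R H E v} : Set ↥(D.group F))) =
    Nat.card (cIn (D.group F) (hHom D F (sv D F v))) := card_cent_sub _ _

theorem OddData.cls' (O : OddData D) [Fintype F] (hF : Odd (Fintype.card F)) {t : ↥(D.group F)} (ht : orderOf t = 2) :
    ∃ x ∈ O.L, IsConj t (iv R H E x.1) := by
  obtain ⟨h1, h2⟩ := orderOf_two ht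
  obtain ⟨x, hx, e⟩ := O.cls R H E hF t.2 h1 h2
  exact ⟨x, hx, isConj_of_eqv e⟩

end elt

end Cfsg.Agent.ChevU
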