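import Cfsg.Agent.ChevU.OddK
import Cfsg.Agent.ChevU.OddC
import Cfsg.Agent.ChevGrp.Twist
import Cfsg.Agent.H81.SL2Card

set_option autoImplicit false
set_option linter.unusedSectionVars false
set_option linter.unusedVariables false

/-!
# Pairs of commuting `SL₂` (helper17)
-/

namespace Cfsg.Agent.ChevU

open Cfsg.Lie Cfsg.Agent.Chev Cfsg.Agent.ChevGrp Cfsg.Agent.ChevWeyl Matrix

section phi

variable {D : ChevalleyDatum} {F : Type*} [Field F] (R : RootFacts D) (H : Good D) (E : DData D)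

theorem sl_upper {g : SpecialLinearGroup (Fin 2) F} (hc : g.1 1 0 = 0) : ∃ (t : F) (a : Fˣ), g = SL2Sys.X t * dg a := by
  have hdet : g.1 0 0 * g.1 1 1 - g.1 0 1 * g.1 1 0 = 1 := by
    have := g.2
    rwa [Matrix.det_fin_two] at this
  rw [hc, mul_zero, sub_zero] at hdet
  have ha : g.1 0 0 ≠ 0 := left_ne_zero_of_mul_eq_one hdet
  refine ⟨g.1 0 0 * g.1 0 1, Units.mk0 _ ha, ?_⟩
  have hd : g.1 1 1 = (g.1 0 0)⁻¹ := eq_inv_of_mul_eq_one_right hdet
  apply sl_ext <;> simp only [sl_mul00, sl_mul01, sl_mul10, sl_mul11, X00, X01, X10, X11, dg00, dg01, dg10, dg11, Units.val_mk0,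
    Units.val_inv_eq_inv_val, hc, hd] <;> field_simp <;> ring

theorem sl_lower {g : SpecialLinearGroup (Fin 2) F} (hc : g.1 1 0 ≠ 0) : ∃ (t t' : F) (u : Fˣ), g = SL2Sys.X t * nt u * SL2Sys.X t' := by
  have hdet : g.1 0 0 * g.1 1 1 - g.1 0 1 * g.1 1 0 = 1 := by
    have := g.2
    rwa [Matrix.det_fin_two] at this
  refine ⟨g.1 0 0 / g.1 1 0, g.1 1 1 / g.1 1 0, (-(Units.mk0 _ hc))⁻¹, ?_⟩
  have hb : g.1 0 1 = (g.1 0 0 * g.1 1 1 - 1) / g.1 1 0 := by
    rw [eq_div_iff hc]; linear_combination -hdet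
  apply sl_ext <;> simp only [sl_mul00, sl_mul01, sl_mul10, sl_mul11, X00, X01, X10, X11, nt00, nt01, nt10, nt11, Units.val_mk0,
    Units.val_inv_eq_inv_val, Units.val_neg, hb] <;> field_simp <;> ring

include E in
theorem phi_inj (r : Fin D.nroots) (hh : ∀ a : Fˣ, Inst.hU H (r : ℕ) (a : F) = 1 → a = 1) : Function.Injective (phi (F := F) R H r) := by
  rw [injective_iff_map_eq_one]
  intro g hg
  by_cases hc : g.1 1 0 = 0
  · obtain ⟨t, a, rfl⟩ := sl_upper hc
    rw [map_mul, phi_X, phi_dg] at hg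
    have hH : Inst.hU H (r : ℕ) (a : F) ∈ (chev E H F).H := by
      rw [chev_H]; exact Inst.hU_mem H r.2 (Units.ne_zero _)
    have hX : xU H.toGood2 (r : ℕ) t ∈ (chev E H F).X r := by
      rw [chev_X]; exact Inst.xU_mem H.toGood2 _ _
    have hX' : xU H.toGood2 (r : ℕ) t ∈ (chev E H F).H := by
      rw [eq_inv_of_mul_eq_one_left hg]; exact inv_mem hH
    have h1 : xU H.toGood2 (r : ℕ) t = 1 := by
      by_cases hp : E.rp.wsys.Pos r
      · exact (chev E H F).UH _ ((chev E H F).X_le_U hp hX) hX'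
      · exact (chev E H F).B_inf_V ((chev E H F).H_le_B hX') ((chev E H F).X_le_V hp hX)
    have h2 : t = 0 := by
      by_contra hne
      exact Inst.xU_ne_one H r.2 hne h1
    rw [h1, one_mul] at hg
    have h3 := hh a hg
    subst h2 h3
    apply sl_ext <;> simp [sl_mul00, sl_mul01, sl_mul10, sl_mul11, X00, X01, X10, X11, dg00, dg01, dg10, dg11]
  · exfalso
    obtain ⟨t, t', u, rfl⟩ := sl_lower hc
    rw [map_mul, map_mul, phi_X, phi_X, phi_nt] at hg
    have hX : ∀ t : F, xU H.toGood2 (r : ℕ) t ∈ (chev E H F).X r := fun t => by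
      rw [chev_X]; exact Inst.xU_mem H.toGood2 _ _
    have hn : Inst.nU H (r : ℕ) (u : F) ∈ (chev E H F).X r := by
      have h1 : Inst.nU H (r : ℕ) (u : F) = (xU H.toGood2 (r : ℕ) t)⁻¹ * (xU H.toGood2 (r : ℕ) t')⁻¹ := by
        have h2 := eq_inv_of_mul_eq_one_left hg
        rw [← h2]; group
      rw [h1]; exact mul_mem (inv_mem (hX _)) (inv_mem (hX _))
    have hA := (act_nU_unit (F := F) (R := R) (H := H) (E := E) r u).1
    have h3 : r = E.rp.wsys.neg r := by
      apply (chev E H F).X_inj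
      intro x hx
      have h4 : (Inst.nU H (r : ℕ) (u : F))⁻¹ * x * Inst.nU H (r : ℕ) (u : F) ∈ (chev E H F).X r := mul_mem (mul_mem (inv_mem hn) hx) hn
      have h5 := hA.conj h4
      rw [sg_self] at h5
      have e : Inst.nU H (r : ℕ) (u : F) * ((Inst.nU H (r : ℕ) (u : F))⁻¹ * x * Inst.nU H (r : ℕ) (u : F)) * (Inst.nU H (r : ℕ) (u : F))⁻¹ = x := by group
      rwa [e] at h5
    have h6 := E.rp.wsys.pos_neg_iff r
    rw [← h3] at h6
    tauto

/-- `φ_r` into the group -/
noncomputable def phiG (r : Fin D.nroots) : SpecialLinearGroup (Fin 2) F →* ↥(D.group F) where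
  toFun g := ⟨phi R H r g, phi_mem R r g⟩
  map_one' := Subtype.ext (map_one _)
  map_mul' g h := Subtype.ext (map_mul _ g h)

end phi

section abs

variable {F : Type*} [Field F] [Fintype F]

theorem dg_neg_one_mul (g : SpecialLinearGroup (Fin 2) F) : dg (-1) * g = g * dg (-1) := by
  apply sl_ext <;> simp [sl_mul00, sl_mul01, sl_mul10, sl_mul11, dg00, dg01, dg10, dg11]

theorem dg_neg_one_sq : (dg (-1) : SpecialLinearGroup (Fin 2) F) * dg (-1) = 1 := by
  apply sl_ext <;> simp [sl_mul00, sl_mul01, sl_mul10, sl_mul11, dg00, dg01, dg10, dg11]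

theorem dg_neg_one_ne (h2 : (2 : F) ≠ 0) : (dg (-1) : SpecialLinearGroup (Fin 2) F) ≠ 1 := by
  intro h
  have h1 : (dg (-1) : SpecialLinearGroup (Fin 2) F).1 0 0 = (1 : SpecialLinearGroup (Fin 2) F).1 0 0 := by rw [h]
  rw [dg00] at h1
  simp only [Units.val_neg, Units.val_one] at h1
  have h3 : (1 : SpecialLinearGroup (Fin 2) F).1 0 0 = 1 := by simp
  rw [h3] at h1
  apply h2
  linear_combination -h1

theorem sl_center {g : SpecialLinearGroup (Fin 2) F} (hX : SL2Sys.X 1 * g = g * SL2Sys.X 1) (hY : SL2Sys.Y 1 * g = g * SL2Sys.Y 1) :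
    g = 1 ∨ g = dg (-1) := by
  have hdet : g.1 0 0 * g.1 1 1 - g.1 0 1 * g.1 1 0 = 1 := by
    have := g.2
    rwa [Matrix.det_fin_two] at this
  have e1 : (SL2Sys.X 1 * g).1 0 0 = (g * SL2Sys.X 1).1 0 0 := by rw [hX]
  have e2 : (SL2Sys.X 1 * g).1 0 1 = (g * SL2Sys.X 1).1 0 1 := by rw [hX]
  have e3 : (SL2Sys.Y 1 * g).1 0 0 = (g * SL2Sys.Y 1).1 0 0 := by rw [hY]
  rw [sl_mul00, sl_mul00, X00, X01, X10] at e1
  rw [sl_mul01, sl_mul01, X00, X01, X11] at e2
  rw [sl_mul00, sl_mul00, Y00, Y01, Y10] at e3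
  have hc : g.1 1 0 = 0 := by linear_combination e1
  have hb : g.1 0 1 = 0 := by linear_combination -e3
  have hd : g.1 1 1 = g.1 0 0 := by linear_combination e2
  rw [hc, hd, mul_zero, sub_zero] at hdet
  have h1 : (g.1 0 0 - 1) * (g.1 0 0 + 1) = 0 := by linear_combination hdet
  rcases mul_eq_zero.1 h1 with h | h
  · left
    have ha : g.1 0 0 = 1 := by linear_combination h
    apply sl_ext
    · rw [ha]; simp
    · rw [hb]; simp
    · rw [hc]; simp
    · rw [hd, ha]; simp
  · right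
    have ha : g.1 0 0 = -1 := by linear_combination h
    apply sl_ext
    · rw [ha, dg00]; simp
    · rw [hb, dg01]
    · rw [hc, dg10]
    · rw [hd, ha, dg11]; simp

/-- two commuting `SL₂` with a common centre -/
theorem sl2_pair (hF : Odd (Fintype.card F)) {G : Type*} [Group G] [Finite G] (f₁ f₂ : SpecialLinearGroup (Fin 2) F →* G)
    (h1 : Function.Injective f₁) (h2 : Function.Injective f₂) (hc : ∀ x y, f₁ x * f₂ y = f₂ y * f₁ x) {t : G}
    (e1 : f₁ (dg (-1)) = t) (e2 : f₂ (dg (-1)) = t)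
    (hct : Nat.card (Subgroup.centralizer ({t} : Set G)) = Fintype.card F ^ 2 * (Fintype.card F ^ 2 - 1) ^ 2) :
    ∃ L₁ L₂ : Subgroup G, Nonempty (L₁ ≃* Matrix.SpecialLinearGroup (Fin 2) F) ∧ Nonempty (L₂ ≃* Matrix.SpecialLinearGroup (Fin 2) F) ∧
      (∀ x ∈ L₁, ∀ y ∈ L₂, x * y = y * x) ∧ L₁ ⊓ L₂ = Subgroup.zpowers t ∧ L₁ ⊔ L₂ ≤ Subgroup.centralizer ({t} : Set G) ∧
      (L₁ ⊔ L₂).relIndex (Subgroup.centralizer ({t} : Set G)) = 2 := by
  classical
  have h20 : (2 : F) ≠ 0 := Ring.two_ne_zero (ringChar_ne_two hF)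
  have htt : t * t = 1 := by rw [← e1, ← map_mul, dg_neg_one_sq, map_one]
  have ht1 : t ≠ 1 := by
    intro h
    apply dg_neg_one_ne h20
    apply h1; rw [e1, h, map_one]
  have hle1 : f₁.range ≤ Subgroup.centralizer ({t} : Set G) := by
    rintro _ ⟨x, rfl⟩
    rw [Subgroup.mem_centralizer_singleton_iff, ← e1, ← map_mul, ← map_mul, dg_neg_one_mul]
  have hle2 : f₂.range ≤ Subgroup.centralizer ({t} : Set G) := by
    rintro _ ⟨x, rfl⟩
    rw [Subgroup.mem_centralizer_singleton_iff, ← e2, ← map_mul, ← map_mul, dg_neg_one_mul]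
  have hle : f₁.range ⊔ f₂.range ≤ Subgroup.centralizer ({t} : Set G) := sup_le hle1 hle2
  refine ⟨f₁.range, f₂.range, ⟨(MonoidHom.ofInjective h1).symm⟩, ⟨(MonoidHom.ofInjective h2).symm⟩, ?_, ?_, hle, ?_⟩
  · rintro _ ⟨x, rfl⟩ _ ⟨y, rfl⟩; exact hc x y
  · apply le_antisymm
    · rintro z ⟨⟨x, hx⟩, ⟨y, hy⟩⟩
      have h3 : ∀ x', x * x' = x' * x := by
        intro x'
        apply h1
        rw [map_mul, map_mul, hx, ← hy, hc]
      rcases sl_center (h3 _).symm (h3 _).symm with rfl | rfl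
      · rw [← hx, map_one]; exact one_mem _
      · rw [← hx, e1]; exact Subgroup.mem_zpowers t
    · rw [Subgroup.zpowers_le]
      exact ⟨⟨_, e1⟩, ⟨_, e2⟩⟩
  · -- order of the join
    let f : SpecialLinearGroup (Fin 2) F × SpecialLinearGroup (Fin 2) F →* G := MonoidHom.noncommCoprod f₁ f₂ hc
    have hfr : f.range = f₁.range ⊔ f₂.range := MonoidHom.noncommCoprod_range f₁ f₂ hc
    have hfa : ∀ x y, f (x, y) = f₁ x * f₂ y := fun x y => rfl
    have hk : Nat.card f.ker = 2 := by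
      have h3 : (f.ker : Set (SpecialLinearGroup (Fin 2) F × SpecialLinearGroup (Fin 2) F)) = {1, (dg (-1), dg (-1))} := by
        ext ⟨x, y⟩
        rw [SetLike.mem_coe, MonoidHom.mem_ker, hfa, Set.mem_insert_iff, Set.mem_singleton_iff]
        constructor
        · intro h
          have h4 : f₁ x = f₂ y⁻¹ := by rw [map_inv]; exact eq_inv_of_mul_eq_one_left h
          have h5 : ∀ x', x * x' = x' * x := by
            intro x'
            apply h1
            rw [map_mul, map_mul, h4, hc]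
          rcases sl_center (h5 _).symm (h5 _).symm with rfl | rfl
          · left
            rw [map_one, one_mul] at h
            have : y = 1 := h2 (h.trans (map_one f₂).symm)
            rw [this]; rfl
          · right
            rw [e1, ← e2, ← map_mul] at h
            have h6 := h2 (h.trans (map_one f₂).symm)
            have h7 : y = dg (-1) := by
              have h8 : (dg (-1) : SpecialLinearGroup (Fin 2) F) * y = dg (-1) * dg (-1) := h6.trans dg_neg_one_sq.symm
              exact mul_left_cancel h8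
            rw [h7]
        · rintro (h | h)
          · rw [Prod.mk_eq_one] at h
            rw [h.1, h.2, map_one, map_one, one_mul]
          · rw [Prod.mk.injEq] at h
            rw [h.1, h.2, e1, e2, htt]
      have h4 : Nat.card f.ker = Nat.card ({1, (dg (-1), dg (-1))} : Set (SpecialLinearGroup (Fin 2) F × SpecialLinearGroup (Fin 2) F)) := by
        rw [← h3]; rfl
      rw [h4, Nat.card_coe_set_eq, Set.ncard_pair]
      intro h5
      exact dg_neg_one_ne h20 (Prod.mk_eq_one.1 h5.symm).1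
    have h3 : Nat.card f.ker * Nat.card f.range = Nat.card (SpecialLinearGroup (Fin 2) F × SpecialLinearGroup (Fin 2) F) := by
      rw [← Subgroup.card_mul_index f.ker, Subgroup.index_ker]
    rw [hk, hfr, Nat.card_prod, Cfsg.Agent.H81.card_sl2] at h3
    have h4 := ((f₁.range ⊔ f₂.range).subgroupOf (Subgroup.centralizer ({t} : Set G))).index_mul_card
    rw [Nat.card_congr (Subgroup.subgroupOfEquivOfLe hle).toEquiv, hct] at h4
    have hq : 1 ≤ Fintype.card F := Fintype.card_pos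
    have h5 : Fintype.card F ^ 2 - 1 = (Fintype.card F - 1) * (Fintype.card F + 1) := by
      zify [hq, Nat.one_le_pow 2 _ hq]; ring
    have h6 : Fintype.card F ^ 2 * (Fintype.card F ^ 2 - 1) ^ 2 = 2 * Nat.card ↥(f₁.range ⊔ f₂.range) := by
      rw [h3, h5]; ring
    rw [h6] at h4
    exact Nat.eq_of_mul_eq_mul_right Nat.card_pos h4

end abs

end Cfsg.Agent.ChevU
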