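import Cfsg.Agent.ChevGrp.Twist
import Cfsg.Agent.ChevGrp.Order

set_option autoImplicit false
set_option linter.unusedSectionVars false
set_option linter.unusedVariables false

/-!
# Regular unipotent elements lie in a unique Borel subgroup (helper17)
-/

namespace Cfsg.Agent.ChevGrp

open Cfsg.Agent.ChevWeyl

namespace RGrp

variable {l n : ℕ} {S : WSys l n} {G : Type*} [Group G] {R : RGrp S G}

/-- `U_i` is normalised by `B` -/
theorem B_norm_Ui (i : Fin l) {b : G} (hb : b ∈ R.B) {x : G} (hx : x ∈ R.Ui i) : b * x * b⁻¹ ∈ R.Ui i := by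
  obtain ⟨h, hh, v, hv, rfl⟩ := mem_B'.1 hb
  obtain ⟨y, hy, u, hu, rfl⟩ := mem_U i hv
  have h1 : y * (u * x * u⁻¹) * y⁻¹ ∈ R.Ui i := R.XU i y hy _ (mul_mem (mul_mem hu hx) (inv_mem hu))
  have h2 := H_norm_gen (R := R) _ h hh _ h1
  have e : h * (y * u) * x * (h * (y * u))⁻¹ = h * (y * (u * x * u⁻¹) * y⁻¹) * h⁻¹ := by group
  rw [e]; exact h2

/-- `B` normalises `U` -/
theorem B_norm_U {b : G} (hb : b ∈ R.B) {x : G} (hx : x ∈ R.U) : b * x * b⁻¹ ∈ R.U := by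
  obtain ⟨u, hu, h, hh, rfl⟩ := mem_B.1 hb
  have h1 := H_norm_gen (R := R) _ h hh _ hx
  have e : u * h * x * (u * h)⁻¹ = u * (h * x * h⁻¹) * u⁻¹ := by group
  rw [e]; exact mul_mem (mul_mem hu h1) (inv_mem hu)

/-- an element of `Grp` conjugating a regular element of `U` into `U` lies in `B` -/
theorem reg_B {g : G} (hg : g ∈ R.Grp) {u : G} (hu : u ∈ R.U) (hreg : ∀ i, u ∉ R.Ui i) (h : g * u * g⁻¹ ∈ R.U) : g ∈ R.B := by
  obtain ⟨b, hb, m, hm, b', hb', rfl⟩ := exists_bnb hg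
  obtain ⟨w, hw⟩ := exists_act hm
  by_cases hw1 : w = 1
  · subst hw1
    have := mem_H_of_act_one hm hw
    exact mul_mem (mul_mem hb (R.H_le_B this)) hb'
  exfalso
  obtain ⟨j, hj⟩ := S.descent w hw.1 hw1
  -- `v = b' u b'⁻¹`
  have hv : b' * u * b'⁻¹ ∈ R.U := B_norm_U hb' hu
  have hvj : b' * u * b'⁻¹ ∉ R.Ui j := by
    intro h1
    apply hreg j
    have := B_norm_Ui j (inv_mem hb') h1
    have e : b'⁻¹ * (b' * u * b'⁻¹) * b'⁻¹⁻¹ = u := by group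
    rwa [e] at this
  have hmv : m * (b' * u * b'⁻¹) * m⁻¹ ∈ R.U := by
    have := B_norm_U (inv_mem hb) h
    have e : b⁻¹ * (b * m * b' * u * (b * m * b')⁻¹) * b⁻¹⁻¹ = m * (b' * u * b'⁻¹) * m⁻¹ := by group
    rwa [e] at this
  obtain ⟨a, ha, x, hx, e0⟩ := mem_U' j hv
  have hx1 : x ≠ 1 := by
    rintro rfl
    apply hvj; rw [e0, mul_one]; exact ha
  rw [e0] at hmv
  -- reduce
  have hm' : R.Act (m * (R.nn j)⁻¹) (w * S.w j) := by
    have := hw.mul (act_nn j).inv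
    rwa [S.w_inv] at this
  have hmN' : m * (R.nn j)⁻¹ ∈ R.N := mul_mem hm (inv_mem (R.nn_mem_N j))
  have ha' : R.nn j * a * (R.nn j)⁻¹ ∈ R.Ui j := nn_Ui j a ha
  have hy : R.nn j * x * (R.nn j)⁻¹ ∈ R.X (S.neg (S.p j)) := by
    have := (act_nn (R := R) j).conj hx
    rwa [S.w_p] at this
  have hy1 : R.nn j * x * (R.nn j)⁻¹ ≠ 1 := by
    intro h1
    apply hx1
    rw [mul_inv_eq_one] at h1
    exact mul_left_cancel (h1.trans (mul_one _).symm)
  obtain ⟨c, hc, h0, hh0, d, hd, e1⟩ := R.rank1 j _ hy hy1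
  obtain ⟨b₁, hb₁, z, hz, e2⟩ := exists_bnu hm' hmN' (b := R.nn j * a * (R.nn j)⁻¹ * c)
    (mul_mem (R.U_le_B (R.Ui_le_U j ha')) (R.U_le_B (R.X_le_U (S.pos_p j) hc)))
  have hz' : (R.nn j)⁻¹ * z * R.nn j ∈ R.U :=
    gen_mono (fun r hr => hr.1.1) (nn_Um hw.1 hj z hz)
  set ξ := m * (a * x) * m⁻¹ with hξ
  have e3 : ξ * (m * (R.nn j)⁻¹) = (m * (R.nn j)⁻¹) * ((R.nn j * a * (R.nn j)⁻¹) * (R.nn j * x * (R.nn j)⁻¹)) := by
    rw [hξ]; group
  have e4 : ξ * (m * (R.nn j)⁻¹) = b₁ * m * ((R.nn j)⁻¹ * z * R.nn j) * h0 * d := by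
    rw [e3, e1]
    have : m * (R.nn j)⁻¹ * ((R.nn j * a * (R.nn j)⁻¹) * (c * R.nn j * h0 * d)) =
      (m * (R.nn j)⁻¹ * ((R.nn j * a * (R.nn j)⁻¹) * c)) * R.nn j * h0 * d := by group
    rw [this, e2]; group
  have e5 : m = (b₁⁻¹ * ξ) * (m * (R.nn j)⁻¹) * (((R.nn j)⁻¹ * z * R.nn j) * h0 * d)⁻¹ := by
    have : (b₁⁻¹ * ξ) * (m * (R.nn j)⁻¹) = b₁⁻¹ * (ξ * (m * (R.nn j)⁻¹)) := by group
    rw [this, e4]; group
  have hB1 : b₁⁻¹ * ξ ∈ R.B := mul_mem (inv_mem hb₁) (R.U_le_B hmv)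
  have hB2 : (((R.nn j)⁻¹ * z * R.nn j) * h0 * d)⁻¹ ∈ R.B :=
    inv_mem (mul_mem (mul_mem (R.U_le_B hz') (R.H_le_B hh0)) (R.U_le_B (R.X_le_U (S.pos_p j) hd)))
  have h5 := act_eq_of_bnb hm' hmN' hw hm hB1 hB2 e5
  have h6 : S.w j = 1 := by
    have : w * S.w j = w * 1 := by rw [mul_one]; exact h5
    exact mul_left_cancel this
  have h7 := S.w_p j
  rw [h6, Equiv.Perm.one_apply] at h7
  have h8 := S.pos_neg_iff (S.p j)
  rw [← h7] at h8
  tauto

/-- a product of non-trivial elements of simple root subgroups, in an order given by a list -/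
theorem not_mem_Ui {i : Fin l} {x y : G} (hx : x ∈ R.X (S.p i)) (hx1 : x ≠ 1) (hy : y ∈ R.Ui i) : x * y ∉ R.Ui i := by
  intro h
  have h1 : x ∈ R.Ui i := by
    have := mul_mem h (inv_mem hy)
    rwa [mul_inv_cancel_right] at this
  have h2 := (act_nn (R := R) i).conj hx
  rw [S.w_p] at h2
  have h3 : R.nn i * x * (R.nn i)⁻¹ = 1 := by
    refine R.U_inf_V (R.Ui_le_U i (nn_Ui i x h1)) (R.X_le_V ?_ h2)
    rw [S.pos_neg_iff, not_not]; exact S.pos_p i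
  apply hx1
  rw [mul_inv_eq_one] at h3
  exact mul_left_cancel (h3.trans (mul_one _).symm)

variable (R) in
/-- the analogue of `Ui` on the negative side -/
def Vi (i : Fin l) : Subgroup G := gen R.X (fun r => ¬ S.Pos r ∧ r ≠ S.neg (S.p i))

theorem Vi_le_V (i : Fin l) : R.Vi i ≤ R.V := gen_mono fun _ h => h.1

theorem not_mem_Vi {i : Fin l} {x : G} (hx : x ∈ R.X (S.neg (S.p i))) (hx1 : x ≠ 1) : x ∉ R.Vi i := by
  intro h
  have h2 := (act_nn (R := R) i).conj hx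
  have e0 : S.w i (S.neg (S.p i)) = S.p i := by rw [S.w_neg, S.w_p, S.neg_neg]
  rw [e0] at h2
  have h3 : R.nn i * x * (R.nn i)⁻¹ ∈ R.V := by
    refine act_gen (act_nn i) (fun r hr => ?_) x h
    intro hp
    have h4 : S.neg r ≠ S.p i := by
      intro h5; apply hr.2; rw [← h5, S.neg_neg]
    have h5 := S.pos_w i (S.neg r) ((S.pos_neg_iff r).2 hr.1) h4
    rw [S.w_neg, S.pos_neg_iff] at h5
    exact h5 hp
  have h4 : R.nn i * x * (R.nn i)⁻¹ = 1 := R.U_inf_V (R.X_le_U (S.pos_p i) h2) h3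
  apply hx1
  rw [mul_inv_eq_one] at h4
  exact mul_left_cancel (h4.trans (mul_one _).symm)

theorem reg_list {K : Fin l → Subgroup G} (x : Fin l → G) (hK : ∀ i j, i ≠ j → x j ∈ K i) (hn : ∀ i, x i ∉ K i) (L : List (Fin l))
    (hL : L.Nodup) (i : Fin l) (hi : i ∈ L) : (L.map x).prod ∉ K i := by
  obtain ⟨L1, L2, rfl⟩ := List.append_of_mem hi
  rw [List.nodup_append] at hL
  obtain ⟨h1, h2, h3⟩ := hL
  rw [List.nodup_cons] at h2
  intro h
  rw [List.map_append, List.prod_append, List.map_cons, List.prod_cons] at h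
  have hp : ∀ M : List (Fin l), (∀ j ∈ M, i ≠ j) → (M.map x).prod ∈ K i := by
    intro M hM
    apply Subgroup.list_prod_mem
    intro y hy
    obtain ⟨j, hj, rfl⟩ := List.mem_map.1 hy
    exact hK i j (hM j hj)
  have ha := hp L1 (fun j hj e => h3 j hj i (by simp) e.symm)
  have hb := hp L2 (fun j hj e => h2.1 (e ▸ hj))
  apply hn i
  have := mul_mem (mul_mem (inv_mem ha) h) (inv_mem hb)
  have e : ((L1.map x).prod)⁻¹ * ((L1.map x).prod * (x i * (L2.map x).prod)) * ((L2.map x).prod)⁻¹ = x i := by group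
  rwa [e] at this

theorem reg_U (x : Fin l → G) (hx : ∀ i, x i ∈ R.X (S.p i)) (h1 : ∀ i, x i ≠ 1) (L : List (Fin l)) (hL : L.Nodup) (i : Fin l)
    (hi : i ∈ L) : (L.map x).prod ∉ R.Ui i := by
  refine reg_list (K := R.Ui) x (fun i j hij => R.X_le_Ui (S.pos_p j) (fun h => hij (S.p_inj h).symm) (hx j)) (fun i => ?_) L hL i hi
  have := not_mem_Ui (hx i) (h1 i) (one_mem (R.Ui i))
  rwa [mul_one] at this

theorem reg_V (x : Fin l → G) (hx : ∀ i, x i ∈ R.X (S.neg (S.p i))) (h1 : ∀ i, x i ≠ 1) (L : List (Fin l)) (hL : L.Nodup) (i : Fin l)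
    (hi : i ∈ L) : (L.map x).prod ∉ R.Vi i := by
  refine reg_list (K := R.Vi) x (fun i j hij => ?_) (fun i => not_mem_Vi (hx i) (h1 i)) L hL i hi
  refine mem_gen (P := fun r => ¬ S.Pos r ∧ r ≠ S.neg (S.p i)) ⟨?_, ?_⟩ (hx j)
  · rw [S.pos_neg_iff, not_not]; exact S.pos_p j
  · intro h
    apply hij
    have := congrArg S.neg h
    rw [S.neg_neg, S.neg_neg] at this
    exact (S.p_inj this).symm

/-- the longest element permutes the simple roots up to sign -/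
theorem w0_simple {u : Equiv.Perm (Fin n)} (hu : u ∈ S.W) (h : ∀ r, S.Pos r → ¬ S.Pos (u r)) (i : Fin l) :
    ∃ k, u (S.neg (S.p i)) = S.p k := by
  by_contra hcon
  have hcon' : ∀ k, u (S.neg (S.p i)) ≠ S.p k := fun k hk => hcon ⟨k, hk⟩
  have hv : u * S.w i ∈ S.W := mul_mem hu (S.w_mem i)
  have h1 : (u * S.w i) (S.p i) = u (S.neg (S.p i)) := by rw [Equiv.Perm.mul_apply, S.w_p]
  have h2 := S.longest (u * S.w i)⁻¹ (inv_mem hv) (by
    intro j hj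
    obtain ⟨s, hs⟩ : ∃ s, s = (u * S.w i)⁻¹ (S.p j) := ⟨_, rfl⟩
    rw [← hs] at hj
    have h3 : (u * S.w i) s = S.p j := by rw [hs]; simp
    by_cases hsi : s = S.p i
    · apply hcon' j
      rw [← h1, ← hsi, h3]
    · have h4 := h _ (S.pos_w i s hj hsi)
      rw [Equiv.Perm.mul_apply] at h3
      rw [h3] at h4
      exact h4 (S.pos_p j))
  have h5 : S.Pos (u (S.neg (S.p i))) := by
    rw [S.W_neg hu, S.pos_neg_iff]; exact h _ (S.pos_p i)
  have h6 := h2 _ h5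
  apply h6
  rw [← h1]
  have e : (u * S.w i)⁻¹ ((u * S.w i) (S.p i)) = S.p i := by simp
  rw [e]
  exact S.pos_p i

/-- an element of `U` conjugating a regular element of `V` into `V` is trivial -/
theorem reg_V_trivial {g : G} (hg : g ∈ R.U) {y : G} (hy : y ∈ R.V) (hreg : ∀ i, y ∉ R.Vi i) (h : g * y * g⁻¹ ∈ R.V) : g = 1 := by
  obtain ⟨n0, hn0, w0, hw0, hneg, hUV⟩ := exists_n0 (R := R)
  have hneg' : ∀ r, ¬ S.Pos r → S.Pos (w0⁻¹ r) := by
    intro r hr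
    by_contra hcon
    have h1 := hneg _ ((S.pos_neg_iff _).2 hcon)
    rw [S.W_neg hw0.1, S.pos_neg_iff] at h1
    apply h1
    simpa using hr
  have hinv : ∀ r, S.Pos r → ¬ S.Pos (w0⁻¹ r) := by
    intro r hr hp
    have := hneg _ hp
    have e : w0 (w0⁻¹ r) = r := by simp
    rw [e] at this
    exact this hr
  have hVU : ∀ z ∈ R.V, n0⁻¹ * z * n0 ∈ R.U := act_gen' hw0 hneg'
  have hB : n0⁻¹ * g * n0 ∈ R.B := by
    apply reg_B (u := n0⁻¹ * y * n0)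
    · exact mul_mem (mul_mem (inv_mem (N_le_Grp hn0)) (B_le_Grp (R.U_le_B hg))) (N_le_Grp hn0)
    · exact hVU y hy
    · intro k hk
      obtain ⟨i, hi⟩ := w0_simple hw0.1 hneg k
      have hi' : w0 (S.p k) = S.neg (S.p i) := by
        have := S.W_neg hw0.1 (S.p k)
        rw [hi] at this
        rw [this, S.neg_neg]
      apply hreg i
      have h3 : n0 * (n0⁻¹ * y * n0) * n0⁻¹ ∈ R.Vi i := by
        refine act_gen (P := fun r => S.Pos r ∧ r ≠ S.p k) (Q := fun r => ¬ S.Pos r ∧ r ≠ S.neg (S.p i)) hw0 (fun r hr => ⟨hneg r hr.1, ?_⟩) _ hk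
        rw [← hi']
        exact fun h => hr.2 (w0.injective h)
      have e : n0 * (n0⁻¹ * y * n0) * n0⁻¹ = y := by group
      rwa [e] at h3
    · have e : n0⁻¹ * g * n0 * (n0⁻¹ * y * n0) * (n0⁻¹ * g * n0)⁻¹ = n0⁻¹ * (g * y * g⁻¹) * n0 := by group
      rw [e]; exact hVU _ h
  have hV : n0⁻¹ * g * n0 ∈ R.V := act_gen' hw0 hinv g hg
  have h1 := R.B_inf_V hB hV
  have : g = n0 * (n0⁻¹ * g * n0) * n0⁻¹ := by group
  rw [this, h1]; group

end RGrp

end Cfsg.Agent.ChevGrp
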