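import Cfsg.Agent.ChevU.RegB
import Cfsg.Agent.ChevU.OddF

set_option autoImplicit false
set_option linter.unusedSectionVars false
set_option linter.unusedVariables false

/-!
# Centralisers of regular pairs in the inner-diagonal group (helper17)
-/

namespace Cfsg.Agent.ChevU

open Cfsg.Lie Cfsg.Agent.Chev Cfsg.Agent.ChevGrp Cfsg.Agent.ChevWeyl Matrix

variable {D : ChevalleyDatum} {F : Type*} [Field F] (R : RootFacts D) (H : Good D) (E : DData D)

include R H in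
theorem tor_X (χ : ℕ → Fˣ) (r : Fin D.nroots) {x : GL D.Idx F} (hx : x ∈ (chev E H F).X r) :
    torHom D F χ * x * (torHom D F χ)⁻¹ ∈ (chev E H F).X r := by
  rw [chev_X] at hx ⊢
  obtain ⟨t, ht⟩ := (Inst.mem_rootSubgroup H.toGood2 r.2).1 hx
  have hx' : x = xr R (elemOfGood H F) (r : ℕ) t := by
    exact ht.trans (xr_eq_xU (R := R) (H := H) _ _).symm
  rw [hx', torHom_conj R H χ r.2, xr_eq_xU (R := R) (H := H)]
  exact Inst.xU_mem H.toGood2 _ _

include R H in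
theorem tor_gen (χ : ℕ → Fˣ) (P : Fin D.nroots → Prop) {x : GL D.Idx F} (hx : x ∈ gen (chev E H F).X P) :
    torHom D F χ * x * (torHom D F χ)⁻¹ ∈ gen (chev E H F).X P :=
  conj_gen (fun r hr x hx => mem_gen hr (tor_X R H E χ r hx)) x hx

include R H in
/-- an element of `T̂ · G` commuting with a regular element of `U` and a regular element of `V` lies in `T̂` -/
theorem cent_reg {χ : ℕ → Fˣ} {g : GL D.Idx F} (hg : g ∈ D.group F) {u v : GL D.Idx F} (hu : u ∈ (chev E H F).U)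
    (hur : ∀ i, u ∉ (chev E H F).Ui i) (hv : v ∈ (chev E H F).V) (hvr : ∀ i, v ∉ (chev E H F).Vi i)
    (c1 : torHom D F χ * g * u = u * (torHom D F χ * g)) (c2 : torHom D F χ * g * v = v * (torHom D F χ * g)) :
    ∃ ψ : ℕ → Fˣ, torHom D F χ * g = torHom D F ψ := by
  have h1 : g * u * g⁻¹ ∈ (chev E H F).U := by
    have h2 : g * u * g⁻¹ = (torHom D F χ)⁻¹ * (torHom D F χ * g * u) * g⁻¹ := by group
    have h3 : g * u * g⁻¹ = torHom D F χ⁻¹ * u * (torHom D F χ⁻¹)⁻¹ := by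
      rw [h2, c1, map_inv]; group
    rw [h3]; exact tor_gen R H E _ _ hu
  have h2 : g ∈ (chev E H F).B := RGrp.reg_B (by rw [chev_Grp]; exact hg) hu hur h1
  obtain ⟨x, hx, h, hh, rfl⟩ := RGrp.mem_B.1 h2
  rw [chev_H] at hh
  obtain ⟨ψ, hψ⟩ := diag_le_range R H hh
  have h3 : torHom D F χ * (x * h) = (torHom D F χ * x * (torHom D F χ)⁻¹) * torHom D F (χ * ψ) := by
    rw [map_mul, hψ]; group
  have hy := tor_gen R H E χ _ hx
  obtain ⟨y, hy0⟩ : ∃ y, y = torHom D F χ * x * (torHom D F χ)⁻¹ := ⟨_, rfl⟩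
  rw [← hy0] at hy h3
  refine ⟨χ * ψ, ?_⟩
  rw [h3] at c2
  have h4 : y * (torHom D F (χ * ψ) * v * (torHom D F (χ * ψ))⁻¹) * y⁻¹ = v := by
    have h5 : y * (torHom D F (χ * ψ) * v * (torHom D F (χ * ψ))⁻¹) * y⁻¹ = (y * torHom D F (χ * ψ) * v) * (torHom D F (χ * ψ))⁻¹ * y⁻¹ := by group
    rw [h5, c2]; group
  have h5 : y = 1 := by
    refine RGrp.reg_V_trivial hy (tor_gen R H E (χ * ψ) _ hv) ?_ (by rw [h4]; exact hv)
    intro i hi
    apply hvr i
    have h6 := tor_gen R H E (χ * ψ)⁻¹ _ hi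
    have e : torHom D F (χ * ψ)⁻¹ * (torHom D F (χ * ψ) * v * (torHom D F (χ * ψ))⁻¹) * (torHom D F (χ * ψ)⁻¹)⁻¹ = v := by
      rw [map_inv]; group
    rw [e] at h6
    exact h6
  rw [h3, h5, one_mul]

end Cfsg.Agent.ChevU
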