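import Cfsg.Agent.ChevU.Roots
import Cfsg.Agent.ChevWeyl.Data
import Cfsg.Prelude.Def_LieTypes
import Cfsg.Prelude.Def_ChevB2
import Cfsg.Prelude.Def_ChevD4

set_option autoImplicit false
set_option maxRecDepth 100000

/-! Kernel-checked root tables (helper17). -/

namespace Cfsg.Agent.ChevU

open Cfsg.Lie Cfsg.Agent.ChevWeyl

noncomputable def vtG2 : VTab where
  R := rtG2
  K := 12383855690317315089309226740866347034867550
  off := 2080

theorem vtG2_c2 : vtG2.c2 = true := by decide +kernel
theorem vtG2_c2p : vtG2.c2' = true := by decide +kernel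
theorem vtG2_c3 : vtG2.c3 = true := by decide +kernel
theorem vtG2_c4 : vtG2.c4 = true := by decide +kernel
theorem vtG2_c5 : vtG2.c5 = true := by decide +kernel
theorem vtG2_c6 : vtG2.c6 = true := by decide +kernel
theorem vtG2_c7 : vtG2.c7 = true := by decide +kernel
theorem vtG2_c8 : vtG2.c8 = true := by decide +kernel
theorem vtG2_c9 : vtG2.c9 = true := by decide +kernel
theorem vtG2_c10 : vtG2.c10 = true := by decide +kernel
theorem vtG2_c11 : vtG2.c11 = true := by decide +kernel
theorem vtG2_dChain : vtG2.dChain chevG2 = true := by decide +kernel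
theorem vtG2_dNeg : vtG2.dNeg chevG2 = true := by decide +kernel
theorem vtG2_dCoroot : vtG2.dCoroot chevG2 = true := by decide +kernel
theorem vtG2_dCartan : vtG2.dCartan chevG2 = true := by decide +kernel
theorem vtG2_dSimple : vtG2.dSimple chevG2 = true := by decide +kernel
theorem vtG2_dRefl : vtG2.dRefl chevG2 = true := by decide +kernel

theorem goodG2 : VTab.Good vtG2 chevG2 where
  hl := rfl
  hn := rfl
  rok := rtG2_ok
  c2 := vtG2_c2
  c2' := vtG2_c2p
  c3 := vtG2_c3
  c4 := vtG2_c4
  c5 := vtG2_c5
  c6 := vtG2_c6
  c7 := vtG2_c7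
  c8 := vtG2_c8
  c9 := vtG2_c9
  c10 := vtG2_c10
  c11 := vtG2_c11
  dChain := vtG2_dChain
  dNeg := vtG2_dNeg
  dCoroot := vtG2_dCoroot
  dCartan := vtG2_dCartan
  dSimple := vtG2_dSimple
  dRefl := vtG2_dRefl

/-- root facts of type G2 -/
noncomputable def rfG2 : RootFacts chevG2 := VTab.facts goodG2

noncomputable def vtB2 : VTab where
  R := rtB2
  K := 42738406117014807145036511135
  off := 2080

theorem vtB2_c2 : vtB2.c2 = true := by decide +kernel
theorem vtB2_c2p : vtB2.c2' = true := by decide +kernel
theorem vtB2_c3 : vtB2.c3 = true := by decide +kernel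
theorem vtB2_c4 : vtB2.c4 = true := by decide +kernel
theorem vtB2_c5 : vtB2.c5 = true := by decide +kernel
theorem vtB2_c6 : vtB2.c6 = true := by decide +kernel
theorem vtB2_c7 : vtB2.c7 = true := by decide +kernel
theorem vtB2_c8 : vtB2.c8 = true := by decide +kernel
theorem vtB2_c9 : vtB2.c9 = true := by decide +kernel
theorem vtB2_c10 : vtB2.c10 = true := by decide +kernel
theorem vtB2_c11 : vtB2.c11 = true := by decide +kernel
theorem vtB2_dChain : vtB2.dChain chevB2 = true := by decide +kernel
theorem vtB2_dNeg : vtB2.dNeg chevB2 = true := by decide +kernel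
theorem vtB2_dCoroot : vtB2.dCoroot chevB2 = true := by decide +kernel
theorem vtB2_dCartan : vtB2.dCartan chevB2 = true := by decide +kernel
theorem vtB2_dSimple : vtB2.dSimple chevB2 = true := by decide +kernel
theorem vtB2_dRefl : vtB2.dRefl chevB2 = true := by decide +kernel

theorem goodB2 : VTab.Good vtB2 chevB2 where
  hl := rfl
  hn := rfl
  rok := rtB2_ok
  c2 := vtB2_c2
  c2' := vtB2_c2p
  c3 := vtB2_c3
  c4 := vtB2_c4
  c5 := vtB2_c5
  c6 := vtB2_c6
  c7 := vtB2_c7
  c8 := vtB2_c8
  c9 := vtB2_c9
  c10 := vtB2_c10
  c11 := vtB2_c11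
  dChain := vtB2_dChain
  dNeg := vtB2_dNeg
  dCoroot := vtB2_dCoroot
  dCartan := vtB2_dCartan
  dSimple := vtB2_dSimple
  dRefl := vtB2_dRefl

/-- root facts of type B2 -/
noncomputable def rfB2 : RootFacts chevB2 := VTab.facts goodB2

noncomputable def vtD4 : VTab where
  R := rtD4
  K := 129614403218042376788513382386449892354918190420486690723303684052093002807609262870974938555712561788778990961514884970064822308344113541957449436614633025435792471022757855
  off := 8521760

theorem vtD4_c2 : vtD4.c2 = true := by decide +kernel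
theorem vtD4_c2p : vtD4.c2' = true := by decide +kernel
theorem vtD4_c3 : vtD4.c3 = true := by decide +kernel
theorem vtD4_c4 : vtD4.c4 = true := by decide +kernel
theorem vtD4_c5 : vtD4.c5 = true := by decide +kernel
theorem vtD4_c6 : vtD4.c6 = true := by decide +kernel
theorem vtD4_c7 : vtD4.c7 = true := by decide +kernel
theorem vtD4_c8 : vtD4.c8 = true := by decide +kernel
theorem vtD4_c9 : vtD4.c9 = true := by decide +kernel
theorem vtD4_c10 : vtD4.c10 = true := by decide +kernel
theorem vtD4_c11 : vtD4.c11 = true := by decide +kernel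
theorem vtD4_dChain : vtD4.dChain chevD4 = true := by decide +kernel
theorem vtD4_dNeg : vtD4.dNeg chevD4 = true := by decide +kernel
theorem vtD4_dCoroot : vtD4.dCoroot chevD4 = true := by decide +kernel
theorem vtD4_dCartan : vtD4.dCartan chevD4 = true := by decide +kernel
theorem vtD4_dSimple : vtD4.dSimple chevD4 = true := by decide +kernel
theorem vtD4_dRefl : vtD4.dRefl chevD4 = true := by decide +kernel

theorem goodD4 : VTab.Good vtD4 chevD4 where
  hl := rfl
  hn := rfl
  rok := rtD4_ok
  c2 := vtD4_c2
  c2' := vtD4_c2p
  c3 := vtD4_c3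
  c4 := vtD4_c4
  c5 := vtD4_c5
  c6 := vtD4_c6
  c7 := vtD4_c7
  c8 := vtD4_c8
  c9 := vtD4_c9
  c10 := vtD4_c10
  c11 := vtD4_c11
  dChain := vtD4_dChain
  dNeg := vtD4_dNeg
  dCoroot := vtD4_dCoroot
  dCartan := vtD4_dCartan
  dSimple := vtD4_dSimple
  dRefl := vtD4_dRefl

/-- root facts of type D4 -/
noncomputable def rfD4 : RootFacts chevD4 := VTab.facts goodD4

noncomputable def vtF4 : VTab where
  R := rtF4
  K := 33043739715869828195698017767223919308116045264937163327581112522414654900877859008342204857178460860410717805681537960998422822333775102179395515611137500608224832452642675950559871657406508565793689964239097481837736222889895599825804302694225171738795283009613867971745791075593524814404303542685730595924827751643526131751482911830401533724510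
  off := 8521760

theorem vtF4_c2 : vtF4.c2 = true := by decide +kernel
theorem vtF4_c2p : vtF4.c2' = true := by decide +kernel
theorem vtF4_c3 : vtF4.c3 = true := by decide +kernel
theorem vtF4_c4 : vtF4.c4 = true := by decide +kernel
theorem vtF4_c5 : vtF4.c5 = true := by decide +kernel
theorem vtF4_c6 : vtF4.c6 = true := by decide +kernel
theorem vtF4_c7 : vtF4.c7 = true := by decide +kernel
theorem vtF4_c8 : vtF4.c8 = true := by decide +kernel
theorem vtF4_c9 : vtF4.c9 = true := by decide +kernel
theorem vtF4_c10 : vtF4.c10 = true := by decide +kernel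
theorem vtF4_c11 : vtF4.c11 = true := by decide +kernel
theorem vtF4_dChain : vtF4.dChain chevF4 = true := by decide +kernel
theorem vtF4_dNeg : vtF4.dNeg chevF4 = true := by decide +kernel
theorem vtF4_dCoroot : vtF4.dCoroot chevF4 = true := by decide +kernel
theorem vtF4_dCartan : vtF4.dCartan chevF4 = true := by decide +kernel
theorem vtF4_dSimple : vtF4.dSimple chevF4 = true := by decide +kernel
theorem vtF4_dRefl : vtF4.dRefl chevF4 = true := by decide +kernel

theorem goodF4 : VTab.Good vtF4 chevF4 where
  hl := rfl
  hn := rfl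
  rok := rtF4_ok
  c2 := vtF4_c2
  c2' := vtF4_c2p
  c3 := vtF4_c3
  c4 := vtF4_c4
  c5 := vtF4_c5
  c6 := vtF4_c6
  c7 := vtF4_c7
  c8 := vtF4_c8
  c9 := vtF4_c9
  c10 := vtF4_c10
  c11 := vtF4_c11
  dChain := vtF4_dChain
  dNeg := vtF4_dNeg
  dCoroot := vtF4_dCoroot
  dCartan := vtF4_dCartan
  dSimple := vtF4_dSimple
  dRefl := vtF4_dRefl

/-- root facts of type F4 -/
noncomputable def rfF4 : RootFacts chevF4 := VTab.facts goodF4

noncomputable def vtE6 : VTab where
  R := rtE6
  K := 975276554655227306103939363155125333177760771533743616430944023273446134926496732982711072707197696177507072486828338878653605458722787596466255186021959840479072037776596510631841435869731116246878648862289247211203238421203216952026490057076215822569393774629860938061641111507928275083961204271431608611124802643484866588864361305672547050634515164852864134547453465599009494605695564325100275606421440926409805772469747929969273883422168989475600349870773068330277183778549981604594473543250858849583234090423176801817990934998917549995027245365527210550499881819433809385577759983836603505154311570558587347241992045940280900086683199411880262444443808506698103412038865089488783569339727892201432842620562598353230579520861533608054937450580818055127054599471566368169121695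
  off := 34905131040

theorem vtE6_c2 : vtE6.c2 = true := by decide +kernel
theorem vtE6_c2p : vtE6.c2' = true := by decide +kernel
theorem vtE6_c3 : vtE6.c3 = true := by decide +kernel
theorem vtE6_c4 : vtE6.c4 = true := by decide +kernel
theorem vtE6_c5 : vtE6.c5 = true := by decide +kernel
theorem vtE6_c6 : vtE6.c6 = true := by decide +kernel
theorem vtE6_c7 : vtE6.c7 = true := by decide +kernel
theorem vtE6_c8 : vtE6.c8 = true := by decide +kernel
theorem vtE6_c9 : vtE6.c9 = true := by decide +kernel
theorem vtE6_c10 : vtE6.c10 = true := by decide +kernel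
theorem vtE6_c11 : vtE6.c11 = true := by decide +kernel
theorem vtE6_dChain : vtE6.dChain chevE6 = true := by decide +kernel
theorem vtE6_dNeg : vtE6.dNeg chevE6 = true := by decide +kernel
theorem vtE6_dCoroot : vtE6.dCoroot chevE6 = true := by decide +kernel
theorem vtE6_dCartan : vtE6.dCartan chevE6 = true := by decide +kernel
theorem vtE6_dSimple : vtE6.dSimple chevE6 = true := by decide +kernel
theorem vtE6_dRefl : vtE6.dRefl chevE6 = true := by decide +kernel

theorem goodE6 : VTab.Good vtE6 chevE6 where
  hl := rfl
  hn := rfl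
  rok := rtE6_ok
  c2 := vtE6_c2
  c2' := vtE6_c2p
  c3 := vtE6_c3
  c4 := vtE6_c4
  c5 := vtE6_c5
  c6 := vtE6_c6
  c7 := vtE6_c7
  c8 := vtE6_c8
  c9 := vtE6_c9
  c10 := vtE6_c10
  c11 := vtE6_c11
  dChain := vtE6_dChain
  dNeg := vtE6_dNeg
  dCoroot := vtE6_dCoroot
  dCartan := vtE6_dCartan
  dSimple := vtE6_dSimple
  dRefl := vtE6_dRefl

/-- root facts of type E6 -/
noncomputable def rfE6 : RootFacts chevE6 := VTab.facts goodE6

end Cfsg.Agent.ChevU
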