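import Cfsg.Agent.ChevU.SubFin
import Cfsg.Agent.ChevU.VData
import Cfsg.Agent.Tw3.SimpD4

set_option autoImplicit false
set_option linter.unusedSectionVars false
set_option linter.unusedVariables false
set_option maxRecDepth 100000

/-!
# The triality groups: tables (helper17)
-/

namespace Cfsg.Agent.ChevU.SubD4

open Cfsg.Lie Cfsg.Agent.Chev Cfsg.Agent.ChevGrp Cfsg.Agent.ChevWeyl Cfsg.Agent.ChevTw Cfsg.Agent.Tw3 Matrix

/-- the functional -/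
def f4 (i : ℕ) : ℤ := [1, 4, 1, 1].getD i 0
/-- its values -/
def fc4 (r : ℕ) : ℤ := cc chevD4 r 0 * 1 + cc chevD4 r 1 * 4 + cc chevD4 r 2 * 1 + cc chevD4 r 3 * 1
def lv4 (c : ℤ) : List ℕ := (List.range 24).filter fun r => decide (12 ≤ r ∧ fc4 r = c)
def fr4 (a : ℕ) : ℤ := match (List.range 24).find? (fun r => cD4 r = a) with
  | some r => fc4 r
  | none => 0
def iT4 (r : ℕ) : ℕ := ((List.range 4).find? (fun i => cc chevD4 r i = 1)).getD 0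
def QL : List ℕ := [6, 10, 11, 5, 1, 0]

theorem vec4 : ∀ r < 24, ∀ i < 4, rfD4.vec r i = cc chevD4 r i := by decide +kernel
theorem half4 : rfD4.half = 12 := rfl
theorem t_pos : ∀ r < 24, 12 ≤ r → 1 ≤ fc4 r := by decide +kernel
theorem t_iT : ∀ r < 24, 12 ≤ r → iT4 r < 4 ∧ cc chevD4 r (iT4 r) = 1 := by decide +kernel
theorem t_fr : ∀ r < 24, fc4 r = fr4 (cD4 r) := by decide +kernel
theorem t_inj : ∀ a < 12, 6 ≤ a → ∀ b < 12, 6 ≤ b → fr4 a = fr4 b → a = b := by decide +kernel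
def lvB (r s : ℕ) : Bool := if r ≠ s ∧ fc4 r = fc4 s then (chevD4.commTerms r s).isEmpty else true
theorem t_lvl : ∀ r < 24, 12 ≤ r → ∀ s < 24, 12 ≤ s → lvB r s = true := by decide +kernel

def slB (r s : ℕ) : Bool := match chevD4.commTerms r s with
  | [] => true
  | [(w, n, 1, 1)] => Nat.blt w 24 && Nat.ble 12 w
  | _ => false
theorem t_sl : ∀ r < 24, 12 ≤ r → ∀ s < 24, 12 ≤ s → s ≠ r → slB r s = true := by decide +kernel

theorem t_max : ∀ a < 12, 6 ≤ a → fr4 a ≤ fr4 11 := by decide +kernel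
theorem t_Qw : ∀ i < 2, ∀ b ∈ QL, chevG2.reflectRoot i b ∈ QL := by decide +kernel
theorem t_Qlt : ∀ b ∈ QL, b < 12 := by decide +kernel
theorem t_Qmax : ∀ b ∈ QL, ∀ k < 2, cc chevG2 b k ≤ cc chevG2 11 k := by decide +kernel
def sumG (b : ℕ) : ℤ := cc chevG2 b 0 + cc chevG2 b 1
theorem t_Qup : ∀ b ∈ QL, b = 11 ∨ ∃ i < 2, sumG b < sumG (chevG2.reflectRoot i b) := by decide +kernel
theorem t_uni : ∀ a ∈ QL, ∃ r < 24, (∀ s < 24, cD4 s = a ↔ s = r) ∧ wv gpD4_1 r = r ∧ wb gpD4_1 r = 0 := by decide +kernel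
theorem t_rρ : ∀ s < 24, cD4 s = 11 ↔ s = 23 := by decide +kernel
theorem t_neg : chevG2.neg 11 = 0 := by decide +kernel
def zB (s : ℕ) : Bool := match chevD4.commTerms 23 s with
  | [] => true
  | [(v, m, 1, 1)] => decide (v < 24 ∧ cD4 v ∈ QL ∧ v ≠ s ∧ v ≠ chevD4.neg s ∧ chevD4.commTerms s v = [] ∧ v ≠ 23 ∧ v ≠ chevD4.neg 23 ∧ chevD4.commTerms 23 v = [])
  | _ => false
theorem t_Z : ∀ b ∈ QL, b = 0 ∨ ∃ s < 24, (∀ r < 24, cD4 r = b ↔ r = s) ∧ (s = 23 ∨ (s ≠ chevD4.neg 23 ∧ zB s = true)) := by decide +kernel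
theorem t_h0 : ∀ j < 2, j ≠ 1 → chevG2.reflectRoot j 11 = 11 := by decide +kernel
theorem t_P : cc chevG2 11 0 * chevG2.cartan 0 (chevG2.simple 1) + cc chevG2 11 1 * chevG2.cartan 1 (chevG2.simple 1) = 1 := by decide +kernel
theorem t_p : chevG2.simple 0 = 7 ∧ chevG2.simple 1 = 6 := by decide +kernel
theorem t_γ : ∀ i < 2, cc chevG2 (11 - i) 1 ≠ 0 := by decide +kernel
theorem t_top : ∀ i < 2, ∀ a < 12, 6 ≤ a → fr4 (11 - i) ≤ fr4 a → ∃ m < i + 1, a = 11 - m := by decide +kernel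
theorem t_mono : ∀ i < 2, ∀ m < i + 1, fr4 (11 - i) ≤ fr4 (11 - m) := by decide +kernel
def spB (a i : ℕ) : ℤ := match a, i with
  | 0, 0 => -1 | 0, 1 => 2
  | 1, 0 => 1 | 1, 1 => -1
  | _, _ => 0
theorem t_span : ∀ a < 2, ∀ j < 2, (if j = a then (1 : ℤ) else 0) = spB a 0 * cc chevG2 11 j + spB a 1 * cc chevG2 10 j := by decide +kernel
theorem t_lv : ∀ r < 24, cc chevG2 (cD4 r) 1 = 0 ↔ cc chevD4 r 1 = 0 := by decide +kernel
theorem t_pcls : ∀ i < 4, ∃ j < 2, cD4 (chevD4.simple i) = chevG2.simple j := by decide +kernel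
theorem t_ε1 : ∀ r < 24, (∃ j < 2, cD4 r = chevG2.simple j) → wb gpD4_1 r = 0 := by decide +kernel

theorem t_lists : lv4 1 = [12, 13, 18] ∧ lv4 4 = [14] ∧ lv4 5 = [15, 16, 19] ∧ lv4 6 = [17, 20, 21] ∧ fr4 7 = 1 ∧ fr4 6 = 4 ∧ fr4 8 = 5 ∧ fr4 9 = 6 ∧
    fr4 10 = 7 ∧ fr4 11 = 11 := by decide +kernel
theorem t_sr : wv gpD4_1 12 = 18 ∧ wv gpD4_1 18 = 13 ∧ wv gpD4_1 13 = 12 ∧ wv gpD4_1 15 = 19 ∧ wv gpD4_1 19 = 16 ∧ wv gpD4_1 16 = 15 := by decide +kernel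
theorem t_gs : gs gpD4_1 12 = 1 ∧ gs gpD4_1 18 = 1 ∧ gs gpD4_1 13 = 1 ∧ gs gpD4_1 14 = 1 ∧ gs gpD4_1 15 = -1 ∧ gs gpD4_1 19 = -1 ∧ gs gpD4_1 16 = 1 := by
  decide +kernel
theorem t_fc : fc4 14 = 4 ∧ fc4 15 = 5 ∧ fc4 16 = 5 ∧ fc4 19 = 5 ∧ fc4 17 = 6 ∧ fc4 20 = 6 ∧ fc4 21 = 6 ∧ fc4 22 = 7 ∧ fc4 23 = 11 ∧ fc4 12 = 1 ∧ fc4 13 = 1 ∧ fc4 18 = 1 := by
  decide +kernel
theorem t_kap : kap chevD4 [14] 15 12 = -1 ∧ kap chevD4 [14] 15 13 = 0 ∧ kap chevD4 [14] 15 18 = 0 ∧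
    kap chevD4 [12, 13, 18] 17 15 = 1 ∧ kap chevD4 [12, 13, 18] 17 16 = 1 ∧ kap chevD4 [12, 13, 18] 17 19 = 0 := by decide +kernel
theorem t_c1 : chevD4.commTerms 14 12 = [(15, -1, 1, 1)] := by decide +kernel
theorem t_c2 : chevD4.commTerms 14 13 = [(16, -1, 1, 1)] := by decide +kernel
theorem t_c3 : chevD4.commTerms 14 18 = [(19, 1, 1, 1)] := by decide +kernel
theorem t_c4 : chevD4.commTerms 13 15 = [(17, 1, 1, 1)] := by decide +kernel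
theorem t_c5 : chevD4.commTerms 18 15 = [(20, -1, 1, 1)] := by decide +kernel
theorem t_c6 : chevD4.commTerms 18 16 = [(21, -1, 1, 1)] := by decide +kernel
theorem t_c7 : chevD4.commTerms 18 17 = [(22, -1, 1, 1)] := by decide +kernel

/-- words of reflections with signs -/
def wrd (D : ChevalleyDatum) (L : List ℕ) (r : ℕ) : ℕ × ℤ := L.foldr (fun i p => (D.reflectRoot i p.1, eta D i p.1 * p.2)) (r, 1)

theorem t_wrd : wrd chevD4 [1] 12 = (15, -1) ∧ wrd chevD4 [1] 13 = (16, -1) ∧ wrd chevD4 [1] 18 = (19, 1) ∧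
    wrd chevD4 [1, 0, 2, 3] 17 = (18, 1) ∧ wrd chevD4 [1, 0, 2, 3] 20 = (13, -1) ∧ wrd chevD4 [1, 0, 2, 3] 21 = (12, -1) := by decide +kernel
theorem t_pr : ∀ r ∈ [12, 13, 18], pr chevD4 14 r = -1 := by decide +kernel
theorem t_14 : chevD4.neg 14 = 9 ∧ cD4 14 = 6 ∧ cD4 9 = 5 ∧ chevG2.neg 6 = 5 := by decide +kernel
theorem t_cases : ∀ a < 12, 6 ≤ a → a ∈ QL ∨ a = 7 ∨ a = 8 ∨ a = 9 := by decide +kernel
theorem t_9 : ∀ b < 12, 6 ≤ b → fr4 9 < fr4 b → b ∈ QL := by decide +kernel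
theorem t_7 : ∀ b < 12, 6 ≤ b → 7 ≤ fr4 b → b ∈ QL := by decide +kernel
theorem t_w : chevG2.reflectRoot 0 9 = 8 ∧ chevG2.reflectRoot 1 8 = 7 ∧ chevG2.reflectRoot 1 7 = 8 := by decide +kernel

end Cfsg.Agent.ChevU.SubD4
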