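import Cfsg.Agent.ChevU.SubPush
import Cfsg.Agent.ChevU.VData
import Cfsg.Agent.ChevTw.RowsE6

set_option autoImplicit false
set_option linter.unusedSectionVars false
set_option linter.unusedVariables false
set_option maxRecDepth 100000

/-!
# The twisted groups of type E6: tables (helper17)
-/

namespace Cfsg.Agent.ChevU.SubE6

open Cfsg.Lie Cfsg.Agent.Chev Cfsg.Agent.ChevGrp Cfsg.Agent.ChevWeyl Cfsg.Agent.ChevTw Matrix

/-- the functional -/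
def f6 (i : ℕ) : ℤ := [1, 60, 3, 15, 3, 1].getD i 0
/-- its values -/
def fc6 (r : ℕ) : ℤ := cc chevE6 r 0 * 1 + cc chevE6 r 1 * 60 + cc chevE6 r 2 * 3 + cc chevE6 r 3 * 15 + cc chevE6 r 4 * 3 + cc chevE6 r 5 * 1
def lv6 (c : ℤ) : List ℕ := (List.range 72).filter fun r => decide (36 ≤ r ∧ fc6 r = c)
def fr6 (a : ℕ) : ℤ := match (List.range 72).find? (fun r => cE6 r = a) with
  | some r => fc6 r
  | none => 0
def iT6 (r : ℕ) : ℕ := ((List.range 6).find? (fun i => cc chevE6 r i = 1)).getD 0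
def QL : List ℕ := [24, 25, 26, 30, 31, 32, 41, 42, 43, 45, 46, 47, 23, 22, 21, 17, 16, 15, 6, 5, 4, 2, 1, 0]

theorem vec6 : ∀ r < 72, ∀ i < 6, rfE6.vec r i = cc chevE6 r i := by decide +kernel
theorem half6 : rfE6.half = 36 := rfl
theorem t_pos : ∀ r < 72, 36 ≤ r → 1 ≤ fc6 r := by decide +kernel
theorem t_iT : ∀ r < 72, 36 ≤ r → iT6 r < 6 ∧ cc chevE6 r (iT6 r) = 1 := by decide +kernel
theorem t_fr : ∀ r < 72, fc6 r = fr6 (cE6 r) := by decide +kernel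
theorem t_inj : ∀ a < 48, 24 ≤ a → ∀ b < 48, 24 ≤ b → fr6 a = fr6 b → a = b := by decide +kernel
def lvB (r s : ℕ) : Bool := if r ≠ s ∧ fc6 r = fc6 s then (chevE6.commTerms r s).isEmpty else true
theorem t_lvl : ∀ r < 72, 36 ≤ r → ∀ s < 72, 36 ≤ s → lvB r s = true := by decide +kernel

def slB (r s : ℕ) : Bool := match chevE6.commTerms r s with
  | [] => true
  | [(w, n, 1, 1)] => Nat.blt w 72 && Nat.ble 36 w
  | _ => false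
theorem t_sl : ∀ r < 72, 36 ≤ r → ∀ s < 72, 36 ≤ s → s ≠ r → slB r s = true := by decide +kernel

theorem t_max : ∀ a < 48, 24 ≤ a → fr6 a ≤ fr6 47 := by decide +kernel
theorem t_Qw : ∀ i < 4, ∀ b ∈ QL, chevF4.reflectRoot i b ∈ QL := by decide +kernel
theorem t_Qlt : ∀ b ∈ QL, b < 48 := by decide +kernel
theorem t_Qmax : ∀ b ∈ QL, ∀ k < 4, cc chevF4 b k ≤ cc chevF4 47 k := by decide +kernel
def sumF (b : ℕ) : ℤ := cc chevF4 b 0 + cc chevF4 b 1 + cc chevF4 b 2 + cc chevF4 b 3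
theorem t_Qup : ∀ b ∈ QL, b = 47 ∨ ∃ i < 4, sumF b < sumF (chevF4.reflectRoot i b) := by decide +kernel
theorem t_uni : ∀ a ∈ QL, ∃ r < 72, (∀ s < 72, cE6 s = a ↔ s = r) ∧ wv gpE6_1 r = r ∧ wb gpE6_1 r = 0 := by decide +kernel
theorem t_rρ : ∀ s < 72, cE6 s = 47 ↔ s = 71 := by decide +kernel
theorem t_neg : chevF4.neg 47 = 0 := by decide +kernel
def zB (s : ℕ) : Bool := match chevE6.commTerms 71 s with
  | [] => true
  | [(v, m, 1, 1)] => decide (v < 72 ∧ cE6 v ∈ QL ∧ v ≠ s ∧ v ≠ chevE6.neg s ∧ chevE6.commTerms s v = [] ∧ v ≠ 71 ∧ v ≠ chevE6.neg 71 ∧ chevE6.commTerms 71 v = [])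
  | _ => false
theorem t_Z : ∀ b ∈ QL, b = 0 ∨ ∃ s < 72, (∀ r < 72, cE6 r = b ↔ r = s) ∧ (s = 71 ∨ (s ≠ chevE6.neg 71 ∧ zB s = true)) := by decide +kernel
theorem t_h0 : ∀ j < 4, j ≠ 3 → chevF4.reflectRoot j 47 = 47 := by decide +kernel
theorem t_P : cc chevF4 47 0 * chevF4.cartan 0 (chevF4.simple 3) + cc chevF4 47 1 * chevF4.cartan 1 (chevF4.simple 3) +
    cc chevF4 47 2 * chevF4.cartan 2 (chevF4.simple 3) + cc chevF4 47 3 * chevF4.cartan 3 (chevF4.simple 3) = 1 := by decide +kernel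
theorem t_p : chevF4.simple 0 = 33 ∧ chevF4.simple 1 = 27 ∧ chevF4.simple 2 = 25 ∧ chevF4.simple 3 = 24 := by decide +kernel
theorem t_γ : ∀ i < 4, cc chevF4 (47 - i) 3 ≠ 0 := by decide +kernel
theorem t_top : ∀ i < 4, ∀ a < 48, 24 ≤ a → fr6 (47 - i) ≤ fr6 a → ∃ m < i + 1, a = 47 - m := by decide +kernel
theorem t_mono : ∀ i < 4, ∀ m < i + 1, fr6 (47 - i) ≤ fr6 (47 - m) := by decide +kernel
def spB (a i : ℕ) : ℤ := match a, i with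
  | 0, 0 => -1 | 0, 1 => -1 | 0, 2 => -1 | 0, 3 => 2
  | 1, 2 => 2 | 1, 3 => -1
  | 2, 1 => 1 | 2, 2 => -1
  | 3, 0 => 1 | 3, 1 => -1
  | _, _ => 0
theorem t_span : ∀ a < 4, ∀ j < 4, (if j = a then (1 : ℤ) else 0) = spB a 0 * cc chevF4 47 j + spB a 1 * cc chevF4 46 j + spB a 2 * cc chevF4 45 j +
    spB a 3 * cc chevF4 44 j := by decide +kernel
theorem t_lv : ∀ r < 72, cc chevF4 (cE6 r) 3 = 0 ↔ cc chevE6 r 1 = 0 := by decide +kernel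
theorem t_pcls : ∀ i < 6, ∃ j < 4, cE6 (chevE6.simple i) = chevF4.simple j := by decide +kernel
theorem t_ε1 : ∀ r < 72, (∃ j < 4, cE6 r = chevF4.simple j) → wb gpE6_1 r = 0 := by decide +kernel

/-- table for pushing up -/
def pT : List (ℕ × ℕ × ℕ × ℕ) := [(27, 33, 38, 37), (28, 33, 41, 40), (29, 33, 49, 48), (33, 27, 38, 36), (34, 25, 41, 38), (35, 27, 45, 41),
  (36, 27, 52, 49), (37, 24, 52, 45), (38, 25, 54, 52), (39, 27, 55, 54), (40, 33, 66, 55)]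
theorem t_push : ∀ p ∈ pT, p.1 < 48 ∧ p.2.1 < 48 ∧ 24 ≤ p.2.1 ∧ p.2.2.1 < 72 ∧ 36 ≤ p.2.2.1 ∧ fc6 p.2.2.1 = fr6 p.1 + fr6 p.2.1 ∧
    (∀ r ∈ lv6 (fr6 p.2.1), wb gpE6_1 r = 0) ∧ p.1 ≠ p.2.1 ∧ p.2.2.2 ∈ lv6 (fr6 p.1) ∧
    (∀ r ∈ lv6 (fr6 p.1), r = p.2.2.2 ∨ r = wv gpE6_1 p.2.2.2) ∧
    (∀ r ∈ lv6 (fr6 p.1), r ≠ p.2.2.2 → kap chevE6 (lv6 (fr6 p.2.1)) p.2.2.1 r = 0) ∧
    (kap chevE6 (lv6 (fr6 p.2.1)) p.2.2.1 p.2.2.2 = 1 ∨ kap chevE6 (lv6 (fr6 p.2.1)) p.2.2.1 p.2.2.2 = -1) := by decide +kernel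
theorem t_cases : ∀ a < 48, 24 ≤ a → a ∈ QL ∨ a = 44 ∨ ∃ p ∈ pT, p.1 = a := by decide +kernel
theorem t_44 : ∀ b < 48, 24 ≤ b → fr6 44 < fr6 b → b ∈ QL := by decide +kernel
/-- the class of the second simple root -/
theorem t_27 : lv6 (fr6 27) = [37, 42] ∧ wv gpE6_1 42 = 37 ∧ wv gpE6_1 37 = 42 ∧ pr chevE6 39 37 = -1 ∧ pr chevE6 39 42 = -1 ∧ cE6 39 = 25 ∧
    cE6 (chevE6.neg 39) = chevF4.neg 25 ∧ chevF4.neg 25 ∈ QL := by decide +kernel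

end Cfsg.Agent.ChevU.SubE6
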