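import Cfsg.Prelude.Def_KGroupFacts
import Mathlib

set_option autoImplicit false
set_option linter.unusedSectionVars false
set_option linter.unusedVariables false

/-!
# Three classes of subgroups fused by a diagonal automorphism (helper17)
-/

namespace Cfsg.Agent.ChevU

section TriAbs

variable {𝒢 : Type*} [Group 𝒢]

theorem sq_inner_of_card_out {A : Type*} [Group A] (h : Nat.card (Cfsg.Out A) = 2) (φ : MulAut A) : ∃ a : A, ∀ x, φ (φ x) = a * x * a⁻¹ := by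
  have h1 : (φ : Cfsg.Out A) ^ 2 = 1 := by
    have h2 : (φ : Cfsg.Out A) ^ Nat.card (Cfsg.Out A) = 1 := pow_card_eq_one'
    rwa [h] at h2
  have h2 : ((φ ^ 2 : MulAut A) : Cfsg.Out A) = 1 := by
    rw [QuotientGroup.mk_pow]; exact h1
  rw [QuotientGroup.eq_one_iff] at h2
  obtain ⟨a, ha⟩ := h2
  refine ⟨a, fun x => ?_⟩
  have h3 : φ (φ x) = (φ ^ 2) x := by rw [sq]; rfl
  rw [h3, ← ha]
  rfl

theorem sq_inner_transport {A B : Type*} [Group A] [Group B] (e : B ≃* A) (h : ∀ φ : MulAut A, ∃ a : A, ∀ x, φ (φ x) = a * x * a⁻¹) (φ : MulAut B) :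
    ∃ b : B, ∀ x, φ (φ x) = b * x * b⁻¹ := by
  obtain ⟨a, ha⟩ := h ((e.symm.trans φ).trans e)
  refine ⟨e.symm a, fun x => ?_⟩
  have h1 := ha (e x)
  simp only [MulEquiv.trans_apply, MulEquiv.symm_apply_apply] at h1
  have h2 := congrArg e.symm h1
  rw [MulEquiv.symm_apply_apply] at h2
  rw [h2, map_mul, map_mul, map_inv, MulEquiv.symm_apply_apply]

/-- conjugates of a subgroup under an element of order three of the normaliser -/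
theorem three_classes (T H₀ : Subgroup 𝒢) (hle : H₀ ≤ T) (d : 𝒢) (hd : ∀ x ∈ T, d * x * d⁻¹ ∈ T) (hd3 : d ^ 3 = 1) (hdn : d ∉ T)
    {A : Type*} [Group A] (iso : Nonempty (H₀ ≃* A)) (hOut : ∀ φ : MulAut A, ∃ a : A, ∀ x, φ (φ x) = a * x * a⁻¹)
    (hC : ∀ k : ℕ, ∀ g ∈ T, (∀ x ∈ H₀, (d ^ k * g) * x = x * (d ^ k * g)) → d ^ k * g = 1) :
    ∃ H : Fin 3 → Subgroup T, (∀ i, Nonempty (H i ≃* A)) ∧ (∀ i j, i ≠ j → ∀ g : T, (H i).map (MulAut.conj g).toMonoidHom ≠ H j) := by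
  obtain ⟨e⟩ := iso
  have hdk : ∀ k : ℕ, ∀ x ∈ T, d ^ k * x * (d ^ k)⁻¹ ∈ T := by
    intro k
    induction k with
    | zero => intro x hx; simpa using hx
    | succ k ih =>
      intro x hx
      have := hd _ (ih x hx)
      have e : d * (d ^ k * x * (d ^ k)⁻¹) * d⁻¹ = d ^ (k + 1) * x * (d ^ (k + 1))⁻¹ := by rw [pow_succ']; group
      rwa [e] at this
  have hle' : ∀ k : ℕ, H₀.map (MulAut.conj (d ^ k)).toMonoidHom ≤ T := by
    rintro k _ ⟨x, hx, rfl⟩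
    exact hdk k x (hle hx)
  refine ⟨fun i => (H₀.map (MulAut.conj (d ^ (i : ℕ))).toMonoidHom).subgroupOf T, ?_, ?_⟩
  · intro i
    exact ⟨((Subgroup.subgroupOfEquivOfLe (hle' i)).trans (H₀.equivMapOfInjective _ (MulAut.conj (d ^ (i : ℕ))).injective).symm).trans e⟩
  · intro i j hij g hg0
    have hg : ((H₀.map (MulAut.conj (d ^ (i : ℕ))).toMonoidHom).subgroupOf T).map (MulAut.conj g).toMonoidHom =
      (H₀.map (MulAut.conj (d ^ (j : ℕ))).toMonoidHom).subgroupOf T := hg0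
    -- `y` normalises `H₀`
    have key : ∀ x, x ∈ H₀ → ∃ z ∈ H₀, (g : 𝒢) * (d ^ (i : ℕ) * x * (d ^ (i : ℕ))⁻¹) * (g : 𝒢)⁻¹ = d ^ (j : ℕ) * z * (d ^ (j : ℕ))⁻¹ := by
      intro x hx
      have h0 : (⟨d ^ (i : ℕ) * x * (d ^ (i : ℕ))⁻¹, hdk i x (hle hx)⟩ : T) ∈ (H₀.map (MulAut.conj (d ^ (i : ℕ))).toMonoidHom).subgroupOf T := ⟨x, hx, rfl⟩
      have h1 : g * (⟨d ^ (i : ℕ) * x * (d ^ (i : ℕ))⁻¹, hdk i x (hle hx)⟩ : T) * g⁻¹ ∈ (H₀.map (MulAut.conj (d ^ (j : ℕ))).toMonoidHom).subgroupOf T := by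
        have h2 := Subgroup.mem_map_of_mem (MulAut.conj g).toMonoidHom h0
        rw [hg] at h2
        exact h2
      obtain ⟨z, hz, hz'⟩ := h1
      exact ⟨z, hz, hz'.symm⟩
    set y : 𝒢 := (d ^ (j : ℕ))⁻¹ * g * d ^ (i : ℕ) with hy
    have hyH : ∀ x ∈ H₀, y * x * y⁻¹ ∈ H₀ := by
      intro x hx
      obtain ⟨z, hz, h1⟩ := key x hx
      have : y * x * y⁻¹ = (d ^ (j : ℕ))⁻¹ * ((g : 𝒢) * (d ^ (i : ℕ) * x * (d ^ (i : ℕ))⁻¹) * (g : 𝒢)⁻¹) * d ^ (j : ℕ) := by rw [hy]; group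
      rw [this, h1]
      have : (d ^ (j : ℕ))⁻¹ * (d ^ (j : ℕ) * z * (d ^ (j : ℕ))⁻¹) * d ^ (j : ℕ) = z := by group
      rw [this]; exact hz
    have hyH' : ∀ x ∈ H₀, y⁻¹ * x * y ∈ H₀ := by
      intro x hx
      have h1 : (⟨d ^ (j : ℕ) * x * (d ^ (j : ℕ))⁻¹, hdk j x (hle hx)⟩ : T) ∈ ((H₀.map (MulAut.conj (d ^ (i : ℕ))).toMonoidHom).subgroupOf T).map (MulAut.conj g).toMonoidHom := by
        rw [hg]; exact ⟨x, hx, rfl⟩
      obtain ⟨w, ⟨z, hz, hz'⟩, hw⟩ := h1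
      have hw' : (g : 𝒢) * w * (g : 𝒢)⁻¹ = d ^ (j : ℕ) * x * (d ^ (j : ℕ))⁻¹ := congrArg Subtype.val hw
      have hz'' : d ^ (i : ℕ) * z * (d ^ (i : ℕ))⁻¹ = w := hz'
      have : y⁻¹ * x * y = (d ^ (i : ℕ))⁻¹ * ((g : 𝒢)⁻¹ * (d ^ (j : ℕ) * x * (d ^ (j : ℕ))⁻¹) * g) * d ^ (i : ℕ) := by rw [hy]; group
      rw [this, ← hw', ← hz'']
      have : (d ^ (i : ℕ))⁻¹ * ((g : 𝒢)⁻¹ * ((g : 𝒢) * (d ^ (i : ℕ) * z * (d ^ (i : ℕ))⁻¹) * (g : 𝒢)⁻¹) * g) * d ^ (i : ℕ) = z := by group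
      rw [this]; exact hz
    let φ : MulAut H₀ :=
      { toFun := fun x => ⟨y * x * y⁻¹, hyH x x.2⟩
        invFun := fun x => ⟨y⁻¹ * x * y, hyH' x x.2⟩
        left_inv := fun x => Subtype.ext (by simp [mul_assoc])
        right_inv := fun x => Subtype.ext (by simp [mul_assoc])
        map_mul' := fun x x' => Subtype.ext (by simp [mul_assoc]) }
    obtain ⟨b, hb⟩ := sq_inner_transport e hOut φ
    have hb' : ∀ x ∈ H₀, y * (y * x * y⁻¹) * y⁻¹ = b * x * (b : 𝒢)⁻¹ := fun x hx => congrArg Subtype.val (hb ⟨x, hx⟩)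
    -- write `b⁻¹ y²` as `d^k g'`
    have hdn3 : ∀ k : ℕ, (d ^ k)⁻¹ = d ^ (2 * k) := by
      intro k
      rw [inv_eq_iff_mul_eq_one, ← pow_add, show k + 2 * k = 3 * k by ring, pow_mul, hd3, one_pow]
    set k : ℕ := 2 * (j : ℕ) + (i : ℕ) with hk
    have hy2 : ∃ g₁ ∈ T, y = d ^ k * g₁ := by
      refine ⟨(d ^ (i : ℕ))⁻¹ * g * d ^ (i : ℕ), ?_, ?_⟩
      · rw [hdn3]
        have h5 := hdk (2 * (i : ℕ)) g g.2
        have h6 : (d ^ (2 * (i : ℕ)))⁻¹ = d ^ (i : ℕ) := by rw [← hdn3, inv_inv]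
        rwa [h6] at h5
      · rw [hy, hdn3, hk, pow_add]; group
    clear_value k
    obtain ⟨g₁, hg₁, e1⟩ := hy2
    clear_value y
    have hkk : ∀ x ∈ T, (d ^ k)⁻¹ * x * d ^ k ∈ T := by
      intro x hx
      have h5 := hdk (2 * k) x hx
      have h6 : (d ^ (2 * k))⁻¹ = d ^ k := by rw [← hdn3, inv_inv]
      rw [h6] at h5
      rwa [hdn3]
    have h2 : (b : 𝒢)⁻¹ * y ^ 2 = d ^ (2 * k) * ((d ^ (2 * k))⁻¹ * (b : 𝒢)⁻¹ * d ^ (2 * k) * ((d ^ k)⁻¹ * g₁ * d ^ k * g₁)) := by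
      rw [e1, two_mul, pow_add, sq]; group
    have hg2 : (d ^ (2 * k))⁻¹ * (b : 𝒢)⁻¹ * d ^ (2 * k) * ((d ^ k)⁻¹ * g₁ * d ^ k * g₁) ∈ T := by
      refine mul_mem ?_ (mul_mem (hkk g₁ hg₁) hg₁)
      have h5 := hkk _ (hkk _ (inv_mem (hle b.2)))
      have e : (d ^ (2 * k))⁻¹ * (b : 𝒢)⁻¹ * d ^ (2 * k) = (d ^ k)⁻¹ * ((d ^ k)⁻¹ * (b : 𝒢)⁻¹ * d ^ k) * d ^ k := by
        rw [two_mul, pow_add]; group
      rw [e]; exact h5
    have h3 := hC (2 * k) _ hg2 (by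
      intro x hx
      rw [← h2]
      have h4 := hb' x hx
      have h5 : y ^ 2 * x = (b : 𝒢) * x * (b : 𝒢)⁻¹ * y ^ 2 := by
        rw [← h4, sq]; group
      have h6 : (b : 𝒢)⁻¹ * y ^ 2 * x = (b : 𝒢)⁻¹ * (y ^ 2 * x) := by group
      rw [h6, h5]; group)
    rw [← h2] at h3
    -- so `y² ∈ T`, hence `d ^ (2 k) ∈ T`
    have h4 : d ^ (2 * k) ∈ T := by
      have h5 : d ^ (2 * k) = y ^ 2 * ((d ^ k)⁻¹ * g₁ * d ^ k * g₁)⁻¹ := by
        rw [e1, two_mul, pow_add, sq]; group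
      have h6 : y ^ 2 = b := by
        have := inv_mul_eq_one.1 h3
        exact this.symm
      rw [h5, h6]
      exact mul_mem (hle b.2) (inv_mem (mul_mem (hkk g₁ hg₁) hg₁))
    apply hdn
    -- `2 k` is not divisible by three
    have hi := i.2
    have hj := j.2
    have hne : (i : ℕ) ≠ j := fun h => hij (Fin.ext h)
    have hmod : (2 * k) % 3 = 1 ∨ (2 * k) % 3 = 2 := by omega
    have hred : d ^ (2 * k) = d ^ ((2 * k) % 3) := by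
      conv_lhs => rw [← Nat.div_add_mod (2 * k) 3]
      rw [pow_add, pow_mul, hd3, one_pow, one_mul]
    rw [hred] at h4
    rcases hmod with h | h
    · rw [h, pow_one] at h4; exact h4
    · rw [h] at h4
      have h7 := mul_mem h4 h4
      have e : d ^ 2 * d ^ 2 = d := by
        rw [← pow_add, show 2 + 2 = 3 + 1 by norm_num, pow_add, hd3, one_mul, pow_one]
      rwa [e] at h7

end TriAbs

end Cfsg.Agent.ChevU
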