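import Cfsg.Agent.ChevU.RegC
import Cfsg.Agent.ChevU.TriAbs
import Cfsg.Agent.ChevU.CentU
import Cfsg.Agent.ChevF.E6F4
import Cfsg.Agent.S2122

set_option autoImplicit false
set_option linter.unusedSectionVars false
set_option linter.unusedVariables false
set_option maxRecDepth 100000

/-!
# Three classes of `F₄(2)` in `²E₆(2)` (helper17)
-/

namespace Cfsg.Agent.ChevU

open Cfsg.Lie Cfsg.Agent.Chev Cfsg.Agent.ChevGrp Cfsg.Agent.ChevWeyl Matrix

section tri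

variable {K : Type*} [Field K] (R : RootFacts chevE6) (H : Good chevE6) (E : DData chevE6)

theorem tw_le {q : ℕ} {P : Subgroup (GL chevE6.Idx K)} (h1 : ∀ r ∈ [e6p2, e6m2, e6p4, e6m4], ∀ t : K, t ^ q = t → xU H.toGood2 r t ∈ P)
    (h2 : ∀ rs ∈ [(e6p1, e6p6), (e6m1, e6m6), (e6p3, e6p5), (e6m3, e6m5)], ∀ t : K, xU H.toGood2 rs.1 t * xU H.toGood2 rs.2 (t ^ q) ∈ P) :
    twistedE6 K q ≤ P := by
  unfold twistedE6 ChevalleyDatum.genSubgroup
  rw [Subgroup.closure_le]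
  rintro g ⟨w, hw, hg⟩
  rcases hw with ⟨t, ht, r, hr, rfl⟩ | ⟨t, rs, hrs, rfl⟩
  · have : g = xU H.toGood2 r t := by
      apply Units.ext
      rw [hg, Inst.val_xU]
      simp [ChevalleyDatum.wordMat]
    rw [this]; exact h1 r hr t ht
  · have : g = xU H.toGood2 rs.1 t * xU H.toGood2 rs.2 (t ^ q) := by
      apply Units.ext
      rw [hg, Units.val_mul, Inst.val_xU, Inst.val_xU]
      simp [ChevalleyDatum.wordMat]
    rw [this]; exact h2 rs hrs t

theorem tw_mem1 {q : ℕ} {r : ℕ} (hr : r ∈ [e6p2, e6m2, e6p4, e6m4]) {t : K} (ht : t ^ q = t) : xU H.toGood2 r t ∈ twistedE6 K q := by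
  refine Subgroup.subset_closure ⟨[(r, t)], Or.inl ⟨t, ht, r, hr, rfl⟩, ?_⟩
  rw [Inst.val_xU]
  simp [ChevalleyDatum.wordMat]

theorem tw_mem2 {q : ℕ} {rs : ℕ × ℕ} (hrs : rs ∈ [(e6p1, e6p6), (e6m1, e6m6), (e6p3, e6p5), (e6m3, e6m5)]) (t : K) :
    xU H.toGood2 rs.1 t * xU H.toGood2 rs.2 (t ^ q) ∈ twistedE6 K q := by
  refine Subgroup.subset_closure ⟨[(rs.1, t), (rs.2, t ^ q)], Or.inr ⟨t, rs, hrs, rfl⟩, ?_⟩
  rw [Units.val_mul, Inst.val_xU, Inst.val_xU]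
  simp [ChevalleyDatum.wordMat]

include H in
theorem tw_le_group (q : ℕ) : twistedE6 K q ≤ chevE6.group K := by
  have h : ∀ r, r < 72 → ∀ t : K, xU H.toGood2 r t ∈ chevE6.group K := fun r hr t => xU_mem_group' H (show r < chevE6.nroots from hr) t
  apply tw_le H
  · intro r hr t _
    refine h r ?_ t
    simp only [List.mem_cons, List.not_mem_nil, or_false] at hr
    rcases hr with rfl | rfl | rfl | rfl <;> decide
  · intro rs hrs t
    simp only [List.mem_cons, List.not_mem_nil, or_false] at hrs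
    rcases hrs with rfl | rfl | rfl | rfl
    · exact mul_mem (h _ (by decide) _) (h _ (by decide) _)
    · exact mul_mem (h _ (by decide) _) (h _ (by decide) _)
    · exact mul_mem (h _ (by decide) _) (h _ (by decide) _)
    · exact mul_mem (h _ (by decide) _) (h _ (by decide) _)

/-- the subgroup of type `F₄` over the prime field -/
noncomputable def F42 (K : Type*) [Field K] [CharP K 2] : Subgroup (GL chevE6.Idx K) :=
  (twistedE6 (ZMod 2) 2).map (glMap chevE6.Idx (ZMod.castHom (dvd_refl 2) K))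

theorem glMap_xU (σ : ZMod 2 →+* K) {r : ℕ} (t : ZMod 2) : glMap chevE6.Idx σ (xU H.toGood2 r t) = xU H.toGood2 r (σ t) := by
  apply Units.ext
  rw [glMap_coe, Inst.val_xU, Inst.val_xU, x_map]

include H in
theorem F42_le [CharP K 2] : F42 K ≤ twistedE6 K 2 := by
  unfold F42
  rw [Subgroup.map_le_iff_le_comap]
  apply tw_le H
  · intro r hr t ht
    rw [Subgroup.mem_comap, glMap_xU H]
    refine tw_mem1 H hr ?_
    rw [← map_pow, ht]
  · intro rs hrs t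
    rw [Subgroup.mem_comap, map_mul, glMap_xU H, glMap_xU H, map_pow]
    exact tw_mem2 H hrs _

theorem F42_mem1 [CharP K 2] {r : ℕ} (hr : r ∈ [e6p2, e6m2, e6p4, e6m4]) : xU H.toGood2 r (1 : K) ∈ F42 K := by
  refine ⟨xU H.toGood2 r 1, tw_mem1 H hr (one_pow _), ?_⟩
  rw [glMap_xU H, map_one]

theorem F42_mem2 [CharP K 2] {r s : ℕ} (hrs : (r, s) ∈ [(e6p1, e6p6), (e6m1, e6m6), (e6p3, e6p5), (e6m3, e6m5)]) :
    xU H.toGood2 r (1 : K) * xU H.toGood2 s 1 ∈ F42 K := by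
  refine ⟨xU H.toGood2 r 1 * xU H.toGood2 s (1 ^ 2), tw_mem2 H hrs 1, ?_⟩
  rw [map_mul, glMap_xU H, glMap_xU H, map_one, one_pow, map_one]

theorem F42_iso [CharP K 2] : Nonempty (F42 K ≃* ↥(chevF4.group (ZMod 2))) := by
  obtain ⟨E⟩ := DData.nonempty_of_mem (D := chevE6) (by simp [types7])
  obtain ⟨E'⟩ := DData.nonempty_of_mem (D := chevF4) (by simp [types7])
  have H := good_of_mem Cfsg.Agent.ChevF.hE6d
  obtain ⟨e⟩ := Cfsg.Agent.ChevF.iso6 (K := ZMod 2) E E'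
  have h0 : (Cfsg.Agent.ChevF.T6' (ZMod 2) E E').G1 = (twistedE6 (ZMod 2) (Fintype.card (ZMod 2))).subgroupOf (chevE6.group (ZMod 2)) := rfl
  rw [h0, ZMod.card] at e
  exact ⟨((twistedE6 (ZMod 2) 2).equivMapOfInjective _ (glMap_injective _)).symm.trans
    ((Subgroup.subgroupOfEquivOfLe (tw_le_group H 2)).symm.trans e)⟩

/-! ### the diagonal element -/

/-- the torus element of order three -/
def chi6 (ω : Kˣ) : ℕ → Kˣ := fun i => if i = 0 then ω else if i = 5 then ω ^ 2 else 1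

noncomputable def d6 (ω : Kˣ) : GL chevE6.Idx K := torHom chevE6 K (chi6 ω)

theorem s6 : chevE6.simple 0 = e6p1 ∧ chevE6.simple 1 = e6p2 ∧ chevE6.simple 2 = e6p3 ∧ chevE6.simple 3 = e6p4 ∧ chevE6.simple 4 = e6p5 ∧
    chevE6.simple 5 = e6p6 ∧ chevE6.neg e6p1 = e6m1 ∧ chevE6.neg e6p2 = e6m2 ∧ chevE6.neg e6p3 = e6m3 ∧ chevE6.neg e6p4 = e6m4 ∧
    chevE6.neg e6p5 = e6m5 ∧ chevE6.neg e6p6 = e6m6 := by decide +kernel

include R H in
theorem tor_xU (χ : ℕ → Kˣ) {r : ℕ} (hr : r < 72) (t : K) :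
    torHom chevE6 K χ * xU H.toGood2 r t * (torHom chevE6 K χ)⁻¹ = xU H.toGood2 r (((chr chevE6 χ r : Kˣ) : K) * t) := by
  rw [← xr_eq_xU (R := R) (H := H), ← xr_eq_xU (R := R) (H := H), torHom_conj R H χ (show r < chevE6.nroots from hr)]

include R H in
theorem chr6 (χ : ℕ → Kˣ) : chr chevE6 χ e6p1 = χ 0 ∧ chr chevE6 χ e6p2 = χ 1 ∧ chr chevE6 χ e6p3 = χ 2 ∧ chr chevE6 χ e6p4 = χ 3 ∧
    chr chevE6 χ e6p5 = χ 4 ∧ chr chevE6 χ e6p6 = χ 5 ∧ chr chevE6 χ e6m1 = (χ 0)⁻¹ ∧ chr chevE6 χ e6m2 = (χ 1)⁻¹ ∧ chr chevE6 χ e6m3 = (χ 2)⁻¹ ∧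
    chr chevE6 χ e6m4 = (χ 3)⁻¹ ∧ chr chevE6 χ e6m5 = (χ 4)⁻¹ ∧ chr chevE6 χ e6m6 = (χ 5)⁻¹ := by
  obtain ⟨s1, s2, s3, s4, s5, s6, n1, n2, n3, n4, n5, n6⟩ := s6
  have h : ∀ (j r : ℕ), j < 6 → chevE6.simple j = r → chr chevE6 χ r = χ j := by
    rintro j r hj rfl
    exact chr_simple H χ (show j < chevE6.rank from hj)
  have h' : ∀ (j r m : ℕ), j < 6 → chevE6.simple j = r → chevE6.neg r = m → r < 72 → chr chevE6 χ m = (χ j)⁻¹ := by
    rintro j r m hj hr rfl hr'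
    rw [chr_neg H.toGood1 (show r < chevE6.nroots from hr'), h j r hj hr]
  exact ⟨h 0 _ (by norm_num) s1, h 1 _ (by norm_num) s2, h 2 _ (by norm_num) s3, h 3 _ (by norm_num) s4, h 4 _ (by norm_num) s5,
    h 5 _ (by norm_num) s6, h' 0 _ _ (by norm_num) s1 n1 (by decide), h' 1 _ _ (by norm_num) s2 n2 (by decide),
    h' 2 _ _ (by norm_num) s3 n3 (by decide), h' 3 _ _ (by norm_num) s4 n4 (by decide), h' 4 _ _ (by norm_num) s5 n5 (by decide),
    h' 5 _ _ (by norm_num) s6 n6 (by decide)⟩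

include R H in
theorem d6_conj {ω : Kˣ} (hω : ω ^ 3 = 1) {x : GL chevE6.Idx K} (hx : x ∈ twistedE6 K 2) : d6 ω * x * (d6 ω)⁻¹ ∈ twistedE6 K 2 := by
  have h1 : twistedE6 K 2 ≤ (twistedE6 K 2).comap (MulAut.conj (d6 ω)).toMonoidHom := by
    obtain ⟨c1, c2, c3, c4, c5, c6, m1, m2, m3, m4, m5, m6⟩ := chr6 R H (chi6 ω)
    have e0 : chi6 ω 0 = ω := rfl
    have e1 : chi6 ω 1 = 1 := rfl
    have e2 : chi6 ω 2 = 1 := rfl
    have e3 : chi6 ω 3 = 1 := rfl
    have e4 : chi6 ω 4 = 1 := rfl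
    have e5 : chi6 ω 5 = ω ^ 2 := rfl
    apply tw_le H
    · intro r hr t ht
      show d6 ω * xU H.toGood2 r t * (d6 ω)⁻¹ ∈ twistedE6 K 2
      have hr' : r < 72 ∧ chr chevE6 (chi6 ω) r = 1 := by
        have := hr
        simp only [List.mem_cons, List.not_mem_nil, or_false] at this
        rcases this with rfl | rfl | rfl | rfl
        · exact ⟨by decide, by rw [c2, e1]⟩
        · exact ⟨by decide, by rw [m2, e1, inv_one]⟩
        · exact ⟨by decide, by rw [c4, e3]⟩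
        · exact ⟨by decide, by rw [m4, e3, inv_one]⟩
      rw [d6, tor_xU R H _ hr'.1, hr'.2, Units.val_one, one_mul]
      exact tw_mem1 H hr ht
    · intro rs hrs t
      show d6 ω * (xU H.toGood2 rs.1 t * xU H.toGood2 rs.2 (t ^ 2)) * (d6 ω)⁻¹ ∈ twistedE6 K 2
      have hr' : rs.1 < 72 ∧ rs.2 < 72 ∧ chr chevE6 (chi6 ω) rs.2 = chr chevE6 (chi6 ω) rs.1 ^ 2 := by
        have := hrs
        simp only [List.mem_cons, List.not_mem_nil, or_false] at this
        rcases this with rfl | rfl | rfl | rfl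
        · exact ⟨by decide, by decide, by rw [c1, c6, e0, e5]⟩
        · exact ⟨by decide, by decide, by rw [m1, m6, e0, e5, inv_pow]⟩
        · exact ⟨by decide, by decide, by rw [c3, c5, e2, e4, one_pow]⟩
        · exact ⟨by decide, by decide, by rw [m3, m5, e2, e4, inv_one, one_pow]⟩
      have e : d6 ω * (xU H.toGood2 rs.1 t * xU H.toGood2 rs.2 (t ^ 2)) * (d6 ω)⁻¹ =
        (d6 ω * xU H.toGood2 rs.1 t * (d6 ω)⁻¹) * (d6 ω * xU H.toGood2 rs.2 (t ^ 2) * (d6 ω)⁻¹) := by group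
      rw [e, d6, tor_xU R H _ hr'.1, tor_xU R H _ hr'.2.1, hr'.2.2, Units.val_pow_eq_pow_val, ← mul_pow]
      exact tw_mem2 H hrs _
  exact h1 hx

theorem d6_pow {ω : Kˣ} (hω : ω ^ 3 = 1) : d6 ω ^ 3 = 1 := by
  unfold d6
  rw [← map_pow]
  have : chi6 ω ^ 3 = 1 := by
    funext i
    show chi6 ω i ^ 3 = 1
    unfold chi6
    split_ifs
    · exact hω
    · rw [← pow_mul, mul_comm, pow_mul, hω, one_pow]
    · exact one_pow _
  rw [this, map_one]

theorem cart6 : ∀ i : Fin 6, (chevE6.cartan i (chevE6.simple 0) - chevE6.cartan i (chevE6.simple 2) + chevE6.cartan i (chevE6.simple 4) -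
    chevE6.cartan i (chevE6.simple 5)) % 3 = 0 := by decide +kernel

include R H E in
theorem d6_not_mem {ω : Kˣ} (hω : ω ^ 3 = 1) (h1 : ω ≠ 1) (hK : ∀ c : Kˣ, c ^ 3 = 1) : d6 ω ∉ twistedE6 K 2 := by
  intro h
  have h2 := torus_inf_group R H E (tw_le_group H 2 h)
  rw [diag_eq_range R H] at h2
  obtain ⟨c, hc⟩ := h2
  have h3 : ∀ j : Fin chevE6.rank, mon (cmat chevE6) c j = chi6 ω j := by
    intro j
    have h4 : torHom chevE6 K (extHom chevE6 K (mon (cmat chevE6) c)) = torHom chevE6 K (extHom chevE6 K (fun j => chi6 ω j)) := by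
      refine Eq.trans hc ?_
      exact torHom_congr fun j hj => (extHom_apply (χ := fun j : Fin chevE6.rank => chi6 ω j) hj).symm
    exact congrFun (torHom_ext_injective H h4) j
  have h5 : ∀ j : Fin chevE6.rank, mon (cmat chevE6) c j = ∏ i, c i ^ chevE6.cartan i (chevE6.simple j) := fun j => mon_apply _ _ _
  let i0 : Fin chevE6.rank := ⟨0, by decide⟩
  let i2 : Fin chevE6.rank := ⟨2, by decide⟩
  let i4 : Fin chevE6.rank := ⟨4, by decide⟩
  let i5 : Fin chevE6.rank := ⟨5, by decide⟩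
  have k0 : (∏ i, c i ^ chevE6.cartan i (chevE6.simple 0)) = ω := (h5 i0).symm.trans (h3 i0)
  have k2 : (∏ i, c i ^ chevE6.cartan i (chevE6.simple 2)) = 1 := (h5 i2).symm.trans (h3 i2)
  have k4 : (∏ i, c i ^ chevE6.cartan i (chevE6.simple 4)) = 1 := (h5 i4).symm.trans (h3 i4)
  have k5 : (∏ i, c i ^ chevE6.cartan i (chevE6.simple 5)) = ω ^ 2 := (h5 i5).symm.trans (h3 i5)
  have h6 : (∏ i : Fin chevE6.rank, c i ^ (chevE6.cartan i (chevE6.simple 0) - chevE6.cartan i (chevE6.simple 2) + chevE6.cartan i (chevE6.simple 4) -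
    chevE6.cartan i (chevE6.simple 5))) = ω * 1⁻¹ * 1 * (ω ^ 2)⁻¹ := by
    have e : ∀ i : Fin chevE6.rank, c i ^ (chevE6.cartan i (chevE6.simple 0) - chevE6.cartan i (chevE6.simple 2) + chevE6.cartan i (chevE6.simple 4) -
      chevE6.cartan i (chevE6.simple 5)) = c i ^ chevE6.cartan i (chevE6.simple 0) * (c i ^ chevE6.cartan i (chevE6.simple 2))⁻¹ *
        c i ^ chevE6.cartan i (chevE6.simple 4) * (c i ^ chevE6.cartan i (chevE6.simple 5))⁻¹ := by
      intro i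
      rw [_root_.zpow_sub, _root_.zpow_add, _root_.zpow_sub]
    rw [Finset.prod_congr rfl fun i _ => e i, Finset.prod_mul_distrib, Finset.prod_mul_distrib, Finset.prod_mul_distrib,
      Finset.prod_inv_distrib, Finset.prod_inv_distrib, k0, k2, k4, k5]
  have h7 : (∏ i : Fin chevE6.rank, c i ^ (chevE6.cartan i (chevE6.simple 0) - chevE6.cartan i (chevE6.simple 2) + chevE6.cartan i (chevE6.simple 4) -
    chevE6.cartan i (chevE6.simple 5))) = 1 := by
    apply Finset.prod_eq_one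
    intro i _
    obtain ⟨k, hk⟩ := Int.dvd_of_emod_eq_zero (cart6 i)
    rw [hk, _root_.zpow_mul]
    have : c i ^ (3 : ℤ) = 1 := by exact_mod_cast hK (c i)
    rw [this, _root_.one_zpow]
  rw [h7] at h6
  apply h1
  have h8 : ω ^ 2 = ω := by
    simp only [inv_one, mul_one] at h6
    exact (mul_inv_eq_one.1 h6.symm).symm
  have h9 : ω * ω = ω * 1 := by rw [mul_one, ← sq]; exact h8
  exact mul_left_cancel h9

/-! ### the centraliser -/

/-- positive and negative root elements indexed by the simple roots -/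
noncomputable def xp (i : Fin chevE6.rank) : GL chevE6.Idx K := xU H.toGood2 (chevE6.simple i) 1
noncomputable def xm (i : Fin chevE6.rank) : GL chevE6.Idx K := xU H.toGood2 (chevE6.neg (chevE6.simple i)) 1

theorem xp_mem (i : Fin chevE6.rank) : xp (K := K) H i ∈ (chev E H K).X (E.rp.wsys.p i) := by
  have h0 : ((E.rp.wsys.p i : Fin chevE6.nroots) : ℕ) = chevE6.simple i := E.hp i
  rw [chev_X, h0]
  exact Inst.xU_mem H.toGood2 _ _

theorem xm_mem (i : Fin chevE6.rank) : xm (K := K) H i ∈ (chev E H K).X (E.rp.wsys.neg (E.rp.wsys.p i)) := by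
  have h0 : ((E.rp.wsys.p i : Fin chevE6.nroots) : ℕ) = chevE6.simple i := E.hp i
  have h1 : ((E.rp.wsys.neg (E.rp.wsys.p i) : Fin chevE6.nroots) : ℕ) = chevE6.neg (chevE6.simple i) := by
    rw [← h0]; exact E.hneg _
  rw [chev_X, h1]
  exact Inst.xU_mem H.toGood2 _ _

theorem xp_ne (i : Fin chevE6.rank) : xp (K := K) H i ≠ 1 := Inst.xU_ne_one H (H.simple_lt i i.2) one_ne_zero
theorem xm_ne (i : Fin chevE6.rank) : xm (K := K) H i ≠ 1 := Inst.xU_ne_one H (neg_lt H.toGood1 (H.simple_lt i i.2)) one_ne_zero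

/-- the order of the simple roots -/
def ord6 : List (Fin chevE6.rank) := [(0 : Fin 6), (5 : Fin 6), (2 : Fin 6), (4 : Fin 6), (3 : Fin 6), (1 : Fin 6)]

theorem ord6_nodup : ord6.Nodup := by decide
theorem ord6_all : ∀ i : Fin chevE6.rank, i ∈ ord6 := by decide

include H E in
theorem cent6 [CharP K 2] {ω : Kˣ} (k : ℕ) {g : GL chevE6.Idx K} (hg : g ∈ twistedE6 K 2)
    (hc : ∀ x ∈ F42 K, d6 ω ^ k * g * x = x * (d6 ω ^ k * g)) : d6 ω ^ k * g = 1 := by
  have R := rootFacts Cfsg.Agent.ChevF.hE6d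
  obtain ⟨s1, s2, s3, s4, s5, s6, n1, n2, n3, n4, n5, n6⟩ := s6
  have hgg := tw_le_group H 2 hg
  have hdk : d6 ω ^ k = torHom chevE6 K (chi6 ω ^ k) := by rw [map_pow]; rfl
  rw [hdk] at hc ⊢
  -- members of `F42`
  have a1 : xU H.toGood2 e6p1 (1 : K) * xU H.toGood2 e6p6 1 ∈ F42 K := F42_mem2 H (by simp)
  have a2 : xU H.toGood2 e6p3 (1 : K) * xU H.toGood2 e6p5 1 ∈ F42 K := F42_mem2 H (by simp)
  have a3 : xU H.toGood2 e6p4 (1 : K) ∈ F42 K := F42_mem1 H (by simp)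
  have a4 : xU H.toGood2 e6p2 (1 : K) ∈ F42 K := F42_mem1 H (by simp)
  have b1 : xU H.toGood2 e6m1 (1 : K) * xU H.toGood2 e6m6 1 ∈ F42 K := F42_mem2 H (by simp)
  have b2 : xU H.toGood2 e6m3 (1 : K) * xU H.toGood2 e6m5 1 ∈ F42 K := F42_mem2 H (by simp)
  have b3 : xU H.toGood2 e6m4 (1 : K) ∈ F42 K := F42_mem1 H (by simp)
  have b4 : xU H.toGood2 e6m2 (1 : K) ∈ F42 K := F42_mem1 H (by simp)
  have hu : (ord6.map (xp (K := K) H)).prod = (xU H.toGood2 e6p1 (1 : K) * xU H.toGood2 e6p6 1) * (xU H.toGood2 e6p3 (1 : K) * xU H.toGood2 e6p5 1) *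
      xU H.toGood2 e6p4 1 * xU H.toGood2 e6p2 1 := by
    show xU H.toGood2 (chevE6.simple 0) (1 : K) * (xU H.toGood2 (chevE6.simple 5) 1 * (xU H.toGood2 (chevE6.simple 2) 1 *
      (xU H.toGood2 (chevE6.simple 4) 1 * (xU H.toGood2 (chevE6.simple 3) 1 * (xU H.toGood2 (chevE6.simple 1) 1 * 1))))) = _
    rw [s1, s2, s3, s4, s5, s6]; group
  have hv : (ord6.map (xm (K := K) H)).prod = (xU H.toGood2 e6m1 (1 : K) * xU H.toGood2 e6m6 1) * (xU H.toGood2 e6m3 (1 : K) * xU H.toGood2 e6m5 1) *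
      xU H.toGood2 e6m4 1 * xU H.toGood2 e6m2 1 := by
    show xU H.toGood2 (chevE6.neg (chevE6.simple 0)) (1 : K) * (xU H.toGood2 (chevE6.neg (chevE6.simple 5)) 1 * (xU H.toGood2 (chevE6.neg (chevE6.simple 2)) 1 *
      (xU H.toGood2 (chevE6.neg (chevE6.simple 4)) 1 * (xU H.toGood2 (chevE6.neg (chevE6.simple 3)) 1 * (xU H.toGood2 (chevE6.neg (chevE6.simple 1)) 1 * 1))))) = _
    rw [s1, s2, s3, s4, s5, s6, n1, n2, n3, n4, n5, n6]; group
  have hu1 : (ord6.map (xp (K := K) H)).prod ∈ F42 K := by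
    rw [hu]; exact mul_mem (mul_mem (mul_mem a1 a2) a3) a4
  have hv1 : (ord6.map (xm (K := K) H)).prod ∈ F42 K := by
    rw [hv]; exact mul_mem (mul_mem (mul_mem b1 b2) b3) b4
  obtain ⟨ψ, hψ⟩ := cent_reg R H E (χ := chi6 ω ^ k) hgg (u := (ord6.map (xp (K := K) H)).prod) (v := (ord6.map (xm (K := K) H)).prod)
    (Subgroup.list_prod_mem _ fun y hy => by
      obtain ⟨j, -, rfl⟩ := List.mem_map.1 hy
      exact (chev E H K).X_le_U (E.rp.wsys.pos_p j) (xp_mem H E j))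
    (fun i => RGrp.reg_U (xp (K := K) H) (xp_mem H E) (xp_ne H) ord6 ord6_nodup i (ord6_all i))
    (Subgroup.list_prod_mem _ fun y hy => by
      obtain ⟨j, -, rfl⟩ := List.mem_map.1 hy
      refine (chev E H K).X_le_V ?_ (xm_mem H E j)
      rw [E.rp.wsys.pos_neg_iff, not_not]; exact E.rp.wsys.pos_p j)
    (fun i => RGrp.reg_V (xm (K := K) H) (xm_mem H E) (xm_ne H) ord6 ord6_nodup i (ord6_all i))
    (hc _ hu1) (hc _ hv1)
  rw [hψ] at hc ⊢
  obtain ⟨c1, c2, c3, c4, c5, c6, -⟩ := chr6 R H ψ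
  have one : ∀ (r j : ℕ), r < 72 → chr chevE6 ψ r = ψ j → xU H.toGood2 r (1 : K) ∈ F42 K → ψ j = 1 := by
    intro r j hr hj hm
    have h1 := hc _ hm
    have h2 := tor_xU R H ψ hr (1 : K)
    rw [h1, mul_inv_cancel_right, mul_one, hj] at h2
    exact (Units.ext (xU_inj H (show r < chevE6.nroots from hr) h2)).symm
  have two : ∀ (i i' : Fin chevE6.rank), i ≠ i' → chr chevE6 ψ (chevE6.simple i) = ψ i → chr chevE6 ψ (chevE6.simple i') = ψ i' →
      xU H.toGood2 (chevE6.simple i) (1 : K) * xU H.toGood2 (chevE6.simple i') 1 ∈ F42 K → ψ i = 1 ∧ ψ i' = 1 := by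
    intro i i' hne hi hi' hm
    have hr := H.simple_lt i i.2
    have hr' := H.simple_lt i' i'.2
    have h1 := hc _ hm
    have h2 := tor_xU R H ψ hr (1 : K)
    have h3 := tor_xU R H ψ hr' (1 : K)
    rw [mul_one, hi] at h2
    rw [mul_one, hi'] at h3
    have h4 : xU H.toGood2 (chevE6.simple i) ((ψ i : Kˣ) : K) * xU H.toGood2 (chevE6.simple i') ((ψ i' : Kˣ) : K) =
        xU H.toGood2 (chevE6.simple i) (1 : K) * xU H.toGood2 (chevE6.simple i') 1 := by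
      rw [← h2, ← h3]
      have : torHom chevE6 K ψ * xU H.toGood2 (chevE6.simple i) (1 : K) * (torHom chevE6 K ψ)⁻¹ * (torHom chevE6 K ψ * xU H.toGood2 (chevE6.simple i') (1 : K) * (torHom chevE6 K ψ)⁻¹) =
        (torHom chevE6 K ψ * (xU H.toGood2 (chevE6.simple i) (1 : K) * xU H.toGood2 (chevE6.simple i') 1)) * (torHom chevE6 K ψ)⁻¹ := by group
      rw [this, h1]; group
    have h0 : ∀ j : Fin chevE6.rank, ∀ t : K, xU H.toGood2 (chevE6.simple j) t ∈ (chev E H K).X (E.rp.wsys.p j) := by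
      intro j t
      have h0 : ((E.rp.wsys.p j : Fin chevE6.nroots) : ℕ) = chevE6.simple j := E.hp j
      rw [chev_X, h0]; exact Inst.xU_mem H.toGood2 _ _
    have h5 : (xU H.toGood2 (chevE6.simple i) (1 : K))⁻¹ * xU H.toGood2 (chevE6.simple i) ((ψ i : Kˣ) : K) =
        xU H.toGood2 (chevE6.simple i') (1 : K) * (xU H.toGood2 (chevE6.simple i') ((ψ i' : Kˣ) : K))⁻¹ := by
      rw [inv_mul_eq_iff_eq_mul, ← mul_assoc, ← h4]; group
    have h6 : (xU H.toGood2 (chevE6.simple i) (1 : K))⁻¹ * xU H.toGood2 (chevE6.simple i) ((ψ i : Kˣ) : K) = 1 := by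
      by_contra hne1
      refine RGrp.not_mem_Ui (R := chev E H K) (mul_mem (inv_mem (h0 i 1)) (h0 i _)) hne1 (one_mem _) ?_
      rw [mul_one, h5]
      exact (chev E H K).X_le_Ui (E.rp.wsys.pos_p i') (fun h => hne (E.rp.wsys.p_inj h).symm) (mul_mem (h0 i' 1) (inv_mem (h0 i' _)))
    rw [h6] at h5
    have e1 := xU_inj H hr (inv_mul_eq_one.1 h6)
    have e2 := xU_inj H hr' (mul_inv_eq_one.1 h5.symm)
    exact ⟨(Units.ext e1).symm, (Units.ext e2).symm⟩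
  have q3 := one _ _ (by decide) c4 a3
  have q1 := one _ _ (by decide) c2 a4
  obtain ⟨q0, q5⟩ := two ⟨0, by decide⟩ ⟨5, by decide⟩ (by decide) (by show chr chevE6 ψ (chevE6.simple 0) = _; rw [s1]; exact c1)
    (by show chr chevE6 ψ (chevE6.simple 5) = _; rw [s6]; exact c6) (by
      show xU H.toGood2 (chevE6.simple 0) (1 : K) * xU H.toGood2 (chevE6.simple 5) 1 ∈ F42 K
      rw [s1, s6]; exact a1)
  obtain ⟨q2, q4⟩ := two ⟨2, by decide⟩ ⟨4, by decide⟩ (by decide) (by show chr chevE6 ψ (chevE6.simple 2) = _; rw [s3]; exact c3)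
    (by show chr chevE6 ψ (chevE6.simple 4) = _; rw [s5]; exact c5) (by
      show xU H.toGood2 (chevE6.simple 2) (1 : K) * xU H.toGood2 (chevE6.simple 4) 1 ∈ F42 K
      rw [s3, s5]; exact a2)
  rw [← map_one (torHom chevE6 K)]
  apply torHom_congr
  intro j hj
  have hj' : j < 6 := hj
  interval_cases j
  exacts [q0, q1, q2, q3, q4, q5]

theorem gen_fact {F : Type*} [Field F] {B : Type*} [Group B] (e : Nonempty (B ≃* ↥(chevF4.group F)))
    (h : Nat.card (Cfsg.Out ↥(chevF4.group F)) = 2) (φ : MulAut B) : ∃ b : B, ∀ x, φ (φ x) = b * x * b⁻¹ := by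
  obtain ⟨e⟩ := e
  exact sq_inner_transport e (sq_inner_of_card_out h) φ

/-- **three classes** -/
theorem three_F4 {K : Type*} [Field K] [Fintype K] (h4 : Fintype.card K = 4) : ∃ H : Fin 3 → Subgroup (twistedE6 K 2),
      (∀ i, Nonempty ((H i) ≃* chevF4.group (ZMod 2))) ∧
      (∀ i j, i ≠ j → ∀ g : (twistedE6 K 2), (H i).map (MulAut.conj g).toMonoidHom ≠ H j) := by
  have H := good_of_mem Cfsg.Agent.ChevF.hE6d
  have R := rootFacts Cfsg.Agent.ChevF.hE6d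
  obtain ⟨E⟩ := DData.nonempty_of_mem (D := chevE6) (by simp [types7])
  haveI : CharP K 2 := by
    obtain ⟨p, hp⟩ := CharP.exists K
    haveI := hp
    obtain ⟨n, hpp, hn⟩ := FiniteField.card K p
    rw [h4] at hn
    have h1 : p ∣ 4 := by rw [hn]; exact dvd_pow_self p n.pos.ne'
    have h2 : p ∣ 2 ^ 2 := by norm_num; exact h1
    have h3 := (Nat.prime_dvd_prime_iff_eq hpp Nat.prime_two).1 (hpp.dvd_of_dvd_pow h2)
    rwa [h3] at hp
  have hcu : Nat.card Kˣ = 3 := by rw [Nat.card_units, Nat.card_eq_fintype_card, h4]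
  have hK : ∀ c : Kˣ, c ^ 3 = 1 := fun c => by rw [← hcu]; exact pow_card_eq_one'
  obtain ⟨ω, hω⟩ : ∃ ω : Kˣ, ω ≠ 1 := by
    haveI : Nontrivial Kˣ := by
      rw [← Finite.one_lt_card_iff_nontrivial, hcu]; norm_num
    exact exists_ne 1
  have hout : Nat.card (Cfsg.Out ↥(chevF4.group (ZMod 2))) = 2 := by
    have := Cfsg.Agent.S2122.result (F := ZMod 2) 2 1 (by rw [ZMod.card]; norm_num)
    rw [this]; rfl
  have e1 := F42_le (K := K) H
  have e2 : ∀ x ∈ twistedE6 K 2, d6 ω * x * (d6 ω)⁻¹ ∈ twistedE6 K 2 := fun x hx => d6_conj R H (hK ω) hx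
  have e3 : d6 ω ^ 3 = 1 := d6_pow (hK ω)
  have e4 : d6 ω ∉ twistedE6 K 2 := d6_not_mem R H E (hK ω) hω hK
  have e5 : Nonempty (F42 K ≃* ↥(chevF4.group (ZMod 2))) := F42_iso
  have e7 : ∀ k : ℕ, ∀ g ∈ twistedE6 K 2, (∀ x ∈ F42 K, (d6 ω ^ k * g) * x = x * (d6 ω ^ k * g)) → d6 ω ^ k * g = 1 :=
    fun k g hg hc => cent6 H E k hg hc
  have e8 : ∀ φ : MulAut ↥(F42 K), ∃ a : ↥(F42 K), ∀ x, φ (φ x) = a * x * a⁻¹ := gen_fact e5 hout
  obtain ⟨e⟩ := e5
  obtain ⟨H1, h1, h2⟩ := three_classes (twistedE6 K 2) (F42 K) e1 (d6 ω) e2 e3 e4 (A := ↥(F42 K)) ⟨MulEquiv.refl _⟩ e8 e7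
  refine ⟨H1, fun i => ?_, h2⟩
  obtain ⟨f⟩ := h1 i
  exact ⟨f.trans e⟩

end tri

end Cfsg.Agent.ChevU
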